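import Cfsg.Agent.Lib.Compute.Schur2.M22Data

/-!
# The checks for the multiplier of `M22`: enumeration
-/

set_option autoImplicit false
set_option maxRecDepth 1000000

namespace Cfsg.Agent.Lib.Compute.Schur2.M22

open Cfsg Cfsg.Agent.Lib.Compute.SchurLin

theorem certI : certB M22In.c M22In.eE 35 7 M22In.eP M22In.rT 3 = true := by decide +kernel

theorem soundI : TC.Sound.{0} M22In.c := sound_of_check certI

theorem hSBI : SubBound.{0} M22In.c 11 := subBound_cyc (kp := 0) (w := [0]) (by decide +kernel)

theorem certChk : certB c eE 42915 8583 eP rT 10 = true := by decide +kernel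

theorem sound : TC.Sound.{0} c := sound_of_check certChk

/-- The correspondence of relators with the inner relators. -/
def mp (k : ℕ) : ℕ := List.getD [4, 8, 9] k 0

theorem nestChk : nestB c M22In.c mp = true := by decide +kernel

theorem hSB : SubBound.{0} c (M22In.c.N * 11) := subBound_nest soundI hSBI nestChk

theorem hnormC : normB c.n c.W = true := by decide +kernel

theorem hnormU : normB u.n u.W = true := by decide +kernel

theorem tailChk : UP.tailCheck u d = true := by decide +kernel

end Cfsg.Agent.Lib.Compute.Schur2.M22
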