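import Cfsg.Agent.Lib.Compute.Schur2.Pres

/-!
# Checks of cascades and of labels with forced walks

The checks of `UP` and `LC`, with the points of the walks evaluated step by step: then the kernel sees each read of a
table once only. The tables of big groups need this.
-/

set_option autoImplicit false

namespace Cfsg.Agent.Lib.Compute.Schur2

open Cfsg Cfsg.Agent.Lib.Compute.SchurLin
open Cfsg.Agent.Lib.Compute.ToddCoxeterCore (frc frc_eq)
open Cfsg.Agent.Lib.Compute.PermCert (allB allB_iff nth)

/-- A check on a range of numbers. -/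
def ptsB (a : ℕ) (f : ℕ → Bool) (n : ℕ) : Bool := allB (fun i => f (Nat.add a i)) n

/-- Checks on ranges give a check. -/
theorem allB_split {f : ℕ → Bool} {a b c : ℕ} (h1 : allB f a = true) (h2 : ptsB a f b = true) (hc : a + b = c) :
    allB f c = true := by
  rw [allB_iff] at h1 ⊢
  intro i hi
  rcases Nat.lt_or_ge i a with h | h
  · exact h1 i h
  · have h3 := (allB_iff _ _).1 h2 (i - a) (by omega)
    have h4 : Nat.add a (i - a) = i := by
      show a + (i - a) = i
      omega
    rwa [h4] at h3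

section Walks

variable (t : ℕ → ℕ → ℕ)

/-- The end of a walk, forced. -/
noncomputable def walkEndF (i : ℕ) (w : List ℕ) : ℕ :=
  List.rec (motive := fun _ => ℕ → ℕ) (fun i => i) (fun x _ ih i => frc (t i x) ih) w i

theorem walkEndF_eq (i : ℕ) (w : List ℕ) : walkEndF t i w = walkEnd t i w := by
  induction w generalizing i with
  | nil => rfl
  | cons x w ih =>
    show frc (t i x) (fun i => walkEndF t i w) = walkEnd t (t i x) w
    rw [frc_eq, ih]

variable (L : ℕ)

/-- The sum on a walk, forced. -/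
noncomputable def walkSumF (f : ℕ → ℕ) (i : ℕ) (w : List ℕ) : ℕ :=
  List.rec (motive := fun _ => ℕ → ℕ) (fun _ => 0)
    (fun x _ ih i => Nat.add (f (Nat.add (Nat.mul i L) x)) (frc (t i x) ih)) w i

theorem walkSumF_eq (f : ℕ → ℕ) (i : ℕ) (w : List ℕ) : walkSumF t L f i w = walkSum t L f i w := by
  induction w generalizing i with
  | nil => rfl
  | cons x w ih =>
    show Nat.add (f (Nat.add (Nat.mul i L) x)) (frc (t i x) (fun i => walkSumF t L f i w)) =
      Nat.add (f (Nat.add (Nat.mul i L) x)) (walkSum t L f (t i x) w)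
    rw [frc_eq, ih]

variable (rk : ℕ → ℕ)

/-- All the edges of a walk have rank below `r`, forced. -/
noncomputable def allLowF (r i : ℕ) (w : List ℕ) : Bool :=
  List.rec (motive := fun _ => ℕ → Bool) (fun _ => true)
    (fun x _ ih i => Nat.blt (rk (Nat.add (Nat.mul i L) x)) r && frc (t i x) ih) w i

theorem allLowF_eq (r i : ℕ) (w : List ℕ) : allLowF t L rk r i w = allLow t L rk r i w := by
  induction w generalizing i with
  | nil => rfl
  | cons x w ih =>
    show (Nat.blt (rk (Nat.add (Nat.mul i L) x)) r && frc (t i x) (fun i => allLowF t L rk r i w)) =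
      (Nat.blt (rk (Nat.add (Nat.mul i L) x)) r && allLow t L rk r (t i x) w)
    rw [frc_eq, ih]

/-- The walks of the justifications, forced. -/
noncomputable def oneHitF (r i₁ x₁ i₂ x₂ i : ℕ) (w : List ℕ) : Bool :=
  List.rec (motive := fun _ => ℕ → Bool) (fun _ => false)
    (fun x w ih i =>
      bif (Nat.beq i i₁ && Nat.beq x x₁) || (Nat.beq i i₂ && Nat.beq x x₂) then
        frc (t i x) fun j => allLowF t L rk r j w
      else Nat.blt (rk (Nat.add (Nat.mul i L) x)) r && frc (t i x) ih) w i

theorem oneHitF_eq (r i₁ x₁ i₂ x₂ i : ℕ) (w : List ℕ) :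
    oneHitF t L rk r i₁ x₁ i₂ x₂ i w = oneHit t L rk r i₁ x₁ i₂ x₂ i w := by
  induction w generalizing i with
  | nil => rfl
  | cons x w ih =>
    show (bif (Nat.beq i i₁ && Nat.beq x x₁) || (Nat.beq i i₂ && Nat.beq x x₂) then
        frc (t i x) fun j => allLowF t L rk r j w
      else Nat.blt (rk (Nat.add (Nat.mul i L) x)) r && frc (t i x) (fun i => oneHitF t L rk r i₁ x₁ i₂ x₂ i w)) =
      (bif (Nat.beq i i₁ && Nat.beq x x₁) || (Nat.beq i i₂ && Nat.beq x x₂) then allLow t L rk r (t i x) w
      else Nat.blt (rk (Nat.add (Nat.mul i L) x)) r && oneHit t L rk r i₁ x₁ i₂ x₂ (t i x) w)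
    rw [frc_eq, frc_eq, ih, allLowF_eq]

end Walks

namespace UP

variable (c : UP)

/-- Forced `sumOK`. -/
noncomputable def sumOKF (i0 k : ℕ) (w : List ℕ) : Bool :=
  allB (fun j => c.eqM (walkSumF c.t (Nat.mul 2 c.n) (c.lab j) i0 w) (c.rv j k)) c.s

theorem sumOKF_eq (i0 k : ℕ) (w : List ℕ) : c.sumOKF i0 k w = c.sumOK i0 k w := by
  simp only [sumOKF, sumOK, walkSumF_eq]

/-- Forced `scan`. -/
noncomputable def scanF (i x j y u : ℕ) : Bool :=
  frc (c.jk u) fun k => frc (c.ji u) fun i0 =>
    frc (c.rk u) fun r =>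
      Nat.blt k c.W.length && Nat.blt i0 c.N && Nat.beq (walkEndF c.t i0 (c.W.getD k [])) i0 &&
        Nat.blt (c.rkR k) r &&
        oneHitF c.t (Nat.mul 2 c.n) c.rk r i x j y i0 (c.W.getD k []) &&
        c.sumOKF i0 k (c.W.getD k [])

theorem scanF_eq (i x j y u : ℕ) : c.scanF i x j y u = c.scan i x j y u := by
  simp only [scanF, scan, frc_eq, walkEndF_eq, oneHitF_eq, sumOKF_eq]

/-- Forced `edgeCheck`. -/
noncomputable def edgeCheckF (i x : ℕ) : Bool :=
  frc (c.t i x) fun j => frc (Cfsg.Agent.Lib.Compute.Schur2.flpB x) fun y =>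
    frc (c.key i x) fun u => frc (c.key j y) fun v =>
      Nat.blt j c.N && Nat.beq (c.t j y) i && Nat.beq (c.rk v) (c.rk u) &&
        allB (fun a => c.eqM (Nat.add (c.lab a u) (c.lab a v)) 0) c.s &&
        (bif Nat.ble u v then
          (bif Nat.beq (c.rk u) 0 then (c.treeEdge i x j y && c.zeroLab u) || c.seedEdge i x u
           else c.scanF i x j y u)
         else true)

theorem edgeCheckF_eq (i x : ℕ) : c.edgeCheckF i x = c.edgeCheck i x := by
  simp only [edgeCheckF, edgeCheck, frc_eq, scanF_eq]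

/-- Forced `relCheck`. -/
noncomputable def relCheckF (k : ℕ) : Bool :=
  bif Nat.beq (c.rkR k) 0 then c.relCheck k
  else
    frc (c.jR k) fun i0 =>
      Nat.blt i0 c.N && Nat.beq (walkEndF c.t i0 (c.W.getD k [])) i0 &&
        allLowF c.t (Nat.mul 2 c.n) c.rk (c.rkR k) i0 (c.W.getD k []) && c.sumOKF i0 k (c.W.getD k [])

theorem relCheckF_eq (k : ℕ) : c.relCheckF k = c.relCheck k := by
  unfold relCheckF
  cases h : Nat.beq (c.rkR k) 0
  · simp only [frc_eq, walkEndF_eq, allLowF_eq, sumOKF_eq, relCheck, h, cond_false]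
  · rfl

/-- Forced `check`. -/
noncomputable def checkF : Bool :=
  Nat.blt 0 c.M &&
    c.W.all (fun w => w.all (fun x => Nat.blt x (Nat.mul 2 c.n))) &&
    allB c.relCheckF c.W.length &&
    allB (fun i => allB (c.edgeCheckF i) (Nat.mul 2 c.n)) c.N

theorem checkF_eq : c.checkF = c.check := by
  have h1 : c.relCheckF = c.relCheck := funext c.relCheckF_eq
  have h2 : c.edgeCheckF = c.edgeCheck := funext fun i => funext (c.edgeCheckF_eq i)
  simp only [checkF, check, h1, h2]

theorem check_of_parts (h0 : Nat.blt 0 c.M = true)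
    (h1 : c.W.all (fun w => w.all (fun x => Nat.blt x (Nat.mul 2 c.n))) = true)
    (h2 : allB c.relCheckF c.W.length = true)
    (h3 : allB (fun i => allB (c.edgeCheckF i) (Nat.mul 2 c.n)) c.N = true) : c.check = true := by
  rw [← checkF_eq, checkF, h0, h1, h2, h3]
  rfl

end UP

namespace LC

variable (c : LC)

/-- Forced `relCheck`. -/
noncomputable def relCheckF (k : ℕ) : Bool :=
  allB (fun i => Nat.beq (walkEndF c.t i (c.W.getD k [])) i &&
    allB (fun j => c.eqm j (walkSumF c.t (Nat.mul 2 c.n) (c.num j) i (c.W.getD k [])) (c.en j k)) c.r) c.N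

theorem relCheckF_eq (k : ℕ) : c.relCheckF k = c.relCheck k := by
  simp only [relCheckF, relCheck, relCheck.UP_walk, walkEndF_eq, walkSumF_eq]

/-- Forced `check`. -/
noncomputable def checkF : Bool :=
  allB (fun i => allB (c.flipCheck i) (Nat.mul 2 c.n)) c.N &&
    allB c.relCheckF c.nrel &&
    allB (fun k => allB (fun j => c.eqm j (c.en j k) 0) c.r) c.n &&
    allB (fun j => (c.unit j).all (fun p => Nat.blt p.1 c.nrel) &&
      allB (fun l => c.eqm l (c.comb l (c.unit j)) (bif Nat.beq l j then 1 else 0)) c.r) c.r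

theorem checkF_eq : c.checkF = c.check := by
  have h1 : c.relCheckF = c.relCheck := funext c.relCheckF_eq
  simp only [checkF, check, h1]

/-- All the relators at one point. -/
noncomputable def ptCheck (i : ℕ) : Bool :=
  allB (fun k => Nat.beq (walkEndF c.t i (c.W.getD k [])) i &&
    allB (fun j => c.eqm j (walkSumF c.t (Nat.mul 2 c.n) (c.num j) i (c.W.getD k [])) (c.en j k)) c.r) c.nrel

theorem check_of_parts (h1 : allB (fun i => allB (c.flipCheck i) (Nat.mul 2 c.n)) c.N = true)
    (h2 : allB c.ptCheck c.N = true)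
    (h3 : allB (fun k => allB (fun j => c.eqm j (c.en j k) 0) c.r) c.n = true)
    (h4 : allB (fun j => (c.unit j).all (fun p => Nat.blt p.1 c.nrel) &&
      allB (fun l => c.eqm l (c.comb l (c.unit j)) (bif Nat.beq l j then 1 else 0)) c.r) c.r = true) :
    c.check = true := by
  have h5 : allB c.relCheckF c.nrel = true := by
    rw [allB_iff]
    intro k hk
    unfold relCheckF
    rw [allB_iff]
    intro i hi
    have h6 := (allB_iff _ _).1 h2 i hi
    exact (allB_iff _ _).1 h6 k hk
  rw [← checkF_eq, checkF, h1, h3, h4, h5]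
  rfl

end LC

end Cfsg.Agent.Lib.Compute.Schur2
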