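import Cfsg.Agent.Lib.Compute.Schur2.G24sChk0
import Cfsg.Agent.Lib.Compute.Schur2.G24sChk1
import Cfsg.Agent.Lib.Compute.Schur2.G24sChk2
import Cfsg.Agent.Lib.Compute.Schur2.G24sChk3
import Cfsg.Agent.Lib.Compute.Schur2.G24sChk4
import Cfsg.Agent.Lib.Compute.Schur2.G24sChk5
import Cfsg.Agent.Lib.Compute.Schur2.G24sChk6
import Cfsg.Agent.Lib.Compute.Schur2.G24sChk7
import Cfsg.Agent.Lib.Compute.Schur2.G24sChk8
import Cfsg.Agent.Lib.Compute.Schur2.G24sChk9
import Cfsg.Agent.Lib.Compute.Schur2.G24sChk10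
import Cfsg.Agent.Lib.Compute.Schur2.G24sChk11
import Cfsg.Agent.Lib.Compute.Schur2.G24sChk12
import Cfsg.Agent.Lib.Compute.Schur2.G24sChk13
import Cfsg.Agent.Lib.Compute.Schur2.G24sData
import Cfsg.Agent.Lib.Compute.Schur2.Chunks

set_option autoImplicit false
set_option maxRecDepth 1000000

namespace Cfsg.Agent.Lib.Compute.Schur2.G24s

open Cfsg Cfsg.Agent.Lib.Compute.SchurLin Cfsg.Agent.Lib.Compute.ToddCoxeterCore
open Cfsg.Agent.Lib.Compute.ToddCoxeterPresented (allFrom_all allFrom_chain)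

universe u

/-- The table. -/
theorem sound : TC.Sound.{u} c :=
  sound_of_parts chkC0
    (allFrom_chain (c := 68705) (allFrom_chain (c := 60000) (allFrom_chain (c := 40000) (allFrom_all (N := 20000) chkK0 rfl) chkK1 rfl) chkK2 rfl) chkK3 rfl)
    (allFrom_all (N := 9815) chkL0 rfl)
    (allFrom_chain (c := 4032) (allFrom_chain (c := 4000) (allFrom_chain (c := 3000) (allFrom_chain (c := 2000) (allFrom_all (N := 1000) chkF0 rfl) chkF1 rfl) chkF2 rfl) chkF3 rfl) chkF4 rfl)
    (allFrom_chain (c := 4032) (allFrom_chain (c := 4000) (allFrom_all (N := 2000) chkT0 rfl) chkT1 rfl) chkT2 rfl)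

/-- The cascade. -/
theorem upChk : u.check = true :=
  UP.check_of_parts chkU0
    (allFrom_chain (c := 4032) (allFrom_chain (c := 4000) (allFrom_chain (c := 3800) (allFrom_chain (c := 3600) (allFrom_chain (c := 3400) (allFrom_chain (c := 3200) (allFrom_chain (c := 3000) (allFrom_chain (c := 2800) (allFrom_chain (c := 2600) (allFrom_chain (c := 2400) (allFrom_chain (c := 2200) (allFrom_chain (c := 2000) (allFrom_chain (c := 1800) (allFrom_chain (c := 1600) (allFrom_chain (c := 1400) (allFrom_chain (c := 1200) (allFrom_chain (c := 1000) (allFrom_chain (c := 800) (allFrom_chain (c := 600) (allFrom_chain (c := 400) (allFrom_all (N := 200) chkE0 rfl) chkE1 rfl) chkE2 rfl) chkE3 rfl) chkE4 rfl) chkE5 rfl) chkE6 rfl) chkE7 rfl) chkE8 rfl) chkE9 rfl) chkE10 rfl) chkE11 rfl) chkE12 rfl) chkE13 rfl) chkE14 rfl) chkE15 rfl) chkE16 rfl) chkE17 rfl) chkE18 rfl) chkE19 rfl) chkE20 rfl)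

/-- The tail. -/
theorem tailChk : UP.tailCheck u d = true := by decide +kernel

/-- The labels. -/
theorem lcChk : l.check = true :=
  LC.check_of_parts chkD0
    (allFrom_chain (c := 4032) (allFrom_chain (c := 4000) (allFrom_all (N := 2000) chkG0 rfl) chkG1 rfl) chkG2 rfl)
    (allFrom_chain (c := 55) (allFrom_chain (c := 52) (allFrom_chain (c := 48) (allFrom_chain (c := 44) (allFrom_chain (c := 40) (allFrom_chain (c := 36) (allFrom_chain (c := 32) (allFrom_chain (c := 28) (allFrom_chain (c := 24) (allFrom_chain (c := 20) (allFrom_chain (c := 16) (allFrom_chain (c := 12) (allFrom_chain (c := 8) (allFrom_all (N := 4) chkR0 rfl) chkR1 rfl) chkR2 rfl) chkR3 rfl) chkR4 rfl) chkR5 rfl) chkR6 rfl) chkR7 rfl) chkR8 rfl) chkR9 rfl) chkR10 rfl) chkR11 rfl) chkR12 rfl) chkR13 rfl)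

end Cfsg.Agent.Lib.Compute.Schur2.G24s
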