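import Mathlib

/-! The matrices of the root elements of `G₂(4)` on the natural module, as codes. -/

set_option autoImplicit false

namespace Cfsg.Agent.Lib.Compute.Schur2.G24s

/-- The matrices of the root elements. -/
def rootT : List (List (List ℕ)) := [[[1, 0, 0, 0, 0, 0], [0, 1, 0, 0, 0, 0], [0, 0, 1, 0, 0, 0], [0, 0, 0, 1, 0, 0], [0, 0, 0, 0, 1, 0], [0, 0, 0, 0, 0, 1]],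
  [[1, 0, 0, 0, 0, 0], [0, 1, 0, 0, 0, 0], [0, 0, 1, 0, 0, 0], [0, 0, 0, 1, 0, 0], [0, 0, 1, 0, 1, 0], [0, 1, 0, 0, 0, 1]],
  [[1, 0, 0, 0, 0, 0], [0, 1, 0, 0, 0, 0], [0, 0, 1, 0, 0, 0], [0, 0, 0, 1, 0, 0], [0, 0, 2, 0, 1, 0], [0, 2, 0, 0, 0, 1]],
  [[1, 0, 0, 0, 0, 0], [0, 1, 0, 0, 0, 0], [0, 0, 1, 0, 0, 0], [0, 0, 0, 1, 0, 0], [0, 0, 3, 0, 1, 0], [0, 3, 0, 0, 0, 1]],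
  [[1, 0, 0, 0, 0, 0], [0, 1, 0, 0, 0, 0], [0, 0, 1, 0, 0, 0], [0, 0, 0, 1, 0, 0], [0, 0, 0, 0, 1, 0], [0, 0, 0, 0, 0, 1]],
  [[1, 0, 0, 0, 0, 0], [0, 1, 0, 0, 0, 0], [0, 0, 1, 0, 0, 0], [0, 1, 0, 1, 0, 0], [1, 0, 0, 0, 1, 0], [0, 0, 0, 0, 0, 1]],
  [[1, 0, 0, 0, 0, 0], [0, 1, 0, 0, 0, 0], [0, 0, 1, 0, 0, 0], [0, 2, 0, 1, 0, 0], [2, 0, 0, 0, 1, 0], [0, 0, 0, 0, 0, 1]],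
  [[1, 0, 0, 0, 0, 0], [0, 1, 0, 0, 0, 0], [0, 0, 1, 0, 0, 0], [0, 3, 0, 1, 0, 0], [3, 0, 0, 0, 1, 0], [0, 0, 0, 0, 0, 1]],
  [[1, 0, 0, 0, 0, 0], [0, 1, 0, 0, 0, 0], [0, 0, 1, 0, 0, 0], [0, 0, 0, 1, 0, 0], [0, 0, 0, 0, 1, 0], [0, 0, 0, 0, 0, 1]],
  [[1, 0, 0, 0, 0, 0], [0, 1, 0, 0, 0, 0], [0, 0, 1, 0, 0, 0], [0, 0, 1, 1, 0, 0], [0, 1, 0, 0, 1, 0], [1, 0, 0, 0, 0, 1]],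
  [[1, 0, 0, 0, 0, 0], [0, 1, 0, 0, 0, 0], [0, 0, 1, 0, 0, 0], [0, 0, 2, 1, 0, 0], [0, 3, 0, 0, 1, 0], [2, 0, 0, 0, 0, 1]],
  [[1, 0, 0, 0, 0, 0], [0, 1, 0, 0, 0, 0], [0, 0, 1, 0, 0, 0], [0, 0, 3, 1, 0, 0], [0, 2, 0, 0, 1, 0], [3, 0, 0, 0, 0, 1]],
  [[1, 0, 0, 0, 0, 0], [0, 1, 0, 0, 0, 0], [0, 0, 1, 0, 0, 0], [0, 0, 0, 1, 0, 0], [0, 0, 0, 0, 1, 0], [0, 0, 0, 0, 0, 1]],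
  [[1, 1, 0, 0, 0, 0], [0, 1, 0, 0, 0, 0], [0, 0, 1, 0, 0, 0], [0, 0, 0, 1, 0, 0], [0, 0, 0, 1, 1, 0], [0, 0, 1, 0, 0, 1]],
  [[1, 2, 0, 0, 0, 0], [0, 1, 0, 0, 0, 0], [0, 0, 1, 0, 0, 0], [0, 0, 0, 1, 0, 0], [0, 0, 0, 2, 1, 0], [0, 0, 3, 0, 0, 1]],
  [[1, 3, 0, 0, 0, 0], [0, 1, 0, 0, 0, 0], [0, 0, 1, 0, 0, 0], [0, 0, 0, 1, 0, 0], [0, 0, 0, 3, 1, 0], [0, 0, 2, 0, 0, 1]],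
  [[1, 0, 0, 0, 0, 0], [0, 1, 0, 0, 0, 0], [0, 0, 1, 0, 0, 0], [0, 0, 0, 1, 0, 0], [0, 0, 0, 0, 1, 0], [0, 0, 0, 0, 0, 1]],
  [[1, 0, 0, 0, 0, 0], [0, 1, 0, 0, 0, 0], [0, 1, 1, 0, 0, 0], [1, 0, 0, 1, 0, 0], [0, 0, 0, 0, 1, 1], [0, 0, 0, 0, 0, 1]],
  [[1, 0, 0, 0, 0, 0], [0, 1, 0, 0, 0, 0], [0, 2, 1, 0, 0, 0], [3, 0, 0, 1, 0, 0], [0, 0, 0, 0, 1, 2], [0, 0, 0, 0, 0, 1]],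
  [[1, 0, 0, 0, 0, 0], [0, 1, 0, 0, 0, 0], [0, 3, 1, 0, 0, 0], [2, 0, 0, 1, 0, 0], [0, 0, 0, 0, 1, 3], [0, 0, 0, 0, 0, 1]],
  [[1, 0, 0, 0, 0, 0], [0, 1, 0, 0, 0, 0], [0, 0, 1, 0, 0, 0], [0, 0, 0, 1, 0, 0], [0, 0, 0, 0, 1, 0], [0, 0, 0, 0, 0, 1]],
  [[1, 0, 1, 0, 0, 0], [0, 1, 0, 0, 0, 0], [0, 0, 1, 0, 0, 0], [0, 0, 0, 1, 0, 0], [0, 0, 0, 0, 1, 0], [0, 0, 0, 1, 0, 1]],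
  [[1, 0, 2, 0, 0, 0], [0, 1, 0, 0, 0, 0], [0, 0, 1, 0, 0, 0], [0, 0, 0, 1, 0, 0], [0, 0, 0, 0, 1, 0], [0, 0, 0, 2, 0, 1]],
  [[1, 0, 3, 0, 0, 0], [0, 1, 0, 0, 0, 0], [0, 0, 1, 0, 0, 0], [0, 0, 0, 1, 0, 0], [0, 0, 0, 0, 1, 0], [0, 0, 0, 3, 0, 1]],
  [[1, 0, 0, 0, 0, 0], [0, 1, 0, 0, 0, 0], [0, 0, 1, 0, 0, 0], [0, 0, 0, 1, 0, 0], [0, 0, 0, 0, 1, 0], [0, 0, 0, 0, 0, 1]],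
  [[1, 0, 0, 0, 0, 0], [0, 1, 0, 0, 0, 0], [1, 0, 1, 0, 0, 0], [0, 0, 0, 1, 0, 1], [0, 0, 0, 0, 1, 0], [0, 0, 0, 0, 0, 1]],
  [[1, 0, 0, 0, 0, 0], [0, 1, 0, 0, 0, 0], [2, 0, 1, 0, 0, 0], [0, 0, 0, 1, 0, 2], [0, 0, 0, 0, 1, 0], [0, 0, 0, 0, 0, 1]],
  [[1, 0, 0, 0, 0, 0], [0, 1, 0, 0, 0, 0], [3, 0, 1, 0, 0, 0], [0, 0, 0, 1, 0, 3], [0, 0, 0, 0, 1, 0], [0, 0, 0, 0, 0, 1]],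
  [[1, 0, 0, 0, 0, 0], [0, 1, 0, 0, 0, 0], [0, 0, 1, 0, 0, 0], [0, 0, 0, 1, 0, 0], [0, 0, 0, 0, 1, 0], [0, 0, 0, 0, 0, 1]],
  [[1, 0, 0, 1, 0, 0], [0, 1, 1, 0, 0, 0], [0, 0, 1, 0, 0, 0], [0, 0, 0, 1, 0, 0], [0, 0, 0, 0, 1, 0], [0, 0, 0, 0, 1, 1]],
  [[1, 0, 0, 3, 0, 0], [0, 1, 2, 0, 0, 0], [0, 0, 1, 0, 0, 0], [0, 0, 0, 1, 0, 0], [0, 0, 0, 0, 1, 0], [0, 0, 0, 0, 2, 1]],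
  [[1, 0, 0, 2, 0, 0], [0, 1, 3, 0, 0, 0], [0, 0, 1, 0, 0, 0], [0, 0, 0, 1, 0, 0], [0, 0, 0, 0, 1, 0], [0, 0, 0, 0, 3, 1]],
  [[1, 0, 0, 0, 0, 0], [0, 1, 0, 0, 0, 0], [0, 0, 1, 0, 0, 0], [0, 0, 0, 1, 0, 0], [0, 0, 0, 0, 1, 0], [0, 0, 0, 0, 0, 1]],
  [[1, 0, 0, 0, 0, 0], [1, 1, 0, 0, 0, 0], [0, 0, 1, 0, 0, 1], [0, 0, 0, 1, 1, 0], [0, 0, 0, 0, 1, 0], [0, 0, 0, 0, 0, 1]],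
  [[1, 0, 0, 0, 0, 0], [2, 1, 0, 0, 0, 0], [0, 0, 1, 0, 0, 3], [0, 0, 0, 1, 2, 0], [0, 0, 0, 0, 1, 0], [0, 0, 0, 0, 0, 1]],
  [[1, 0, 0, 0, 0, 0], [3, 1, 0, 0, 0, 0], [0, 0, 1, 0, 0, 2], [0, 0, 0, 1, 3, 0], [0, 0, 0, 0, 1, 0], [0, 0, 0, 0, 0, 1]],
  [[1, 0, 0, 0, 0, 0], [0, 1, 0, 0, 0, 0], [0, 0, 1, 0, 0, 0], [0, 0, 0, 1, 0, 0], [0, 0, 0, 0, 1, 0], [0, 0, 0, 0, 0, 1]],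
  [[1, 0, 0, 0, 0, 1], [0, 1, 0, 0, 1, 0], [0, 0, 1, 1, 0, 0], [0, 0, 0, 1, 0, 0], [0, 0, 0, 0, 1, 0], [0, 0, 0, 0, 0, 1]],
  [[1, 0, 0, 0, 0, 2], [0, 1, 0, 0, 3, 0], [0, 0, 1, 2, 0, 0], [0, 0, 0, 1, 0, 0], [0, 0, 0, 0, 1, 0], [0, 0, 0, 0, 0, 1]],
  [[1, 0, 0, 0, 0, 3], [0, 1, 0, 0, 2, 0], [0, 0, 1, 3, 0, 0], [0, 0, 0, 1, 0, 0], [0, 0, 0, 0, 1, 0], [0, 0, 0, 0, 0, 1]],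
  [[1, 0, 0, 0, 0, 0], [0, 1, 0, 0, 0, 0], [0, 0, 1, 0, 0, 0], [0, 0, 0, 1, 0, 0], [0, 0, 0, 0, 1, 0], [0, 0, 0, 0, 0, 1]],
  [[1, 0, 0, 0, 1, 0], [0, 1, 0, 1, 0, 0], [0, 0, 1, 0, 0, 0], [0, 0, 0, 1, 0, 0], [0, 0, 0, 0, 1, 0], [0, 0, 0, 0, 0, 1]],
  [[1, 0, 0, 0, 2, 0], [0, 1, 0, 2, 0, 0], [0, 0, 1, 0, 0, 0], [0, 0, 0, 1, 0, 0], [0, 0, 0, 0, 1, 0], [0, 0, 0, 0, 0, 1]],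
  [[1, 0, 0, 0, 3, 0], [0, 1, 0, 3, 0, 0], [0, 0, 1, 0, 0, 0], [0, 0, 0, 1, 0, 0], [0, 0, 0, 0, 1, 0], [0, 0, 0, 0, 0, 1]],
  [[1, 0, 0, 0, 0, 0], [0, 1, 0, 0, 0, 0], [0, 0, 1, 0, 0, 0], [0, 0, 0, 1, 0, 0], [0, 0, 0, 0, 1, 0], [0, 0, 0, 0, 0, 1]],
  [[1, 0, 0, 0, 0, 0], [0, 1, 0, 0, 0, 1], [0, 0, 1, 0, 1, 0], [0, 0, 0, 1, 0, 0], [0, 0, 0, 0, 1, 0], [0, 0, 0, 0, 0, 1]],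
  [[1, 0, 0, 0, 0, 0], [0, 1, 0, 0, 0, 2], [0, 0, 1, 0, 2, 0], [0, 0, 0, 1, 0, 0], [0, 0, 0, 0, 1, 0], [0, 0, 0, 0, 0, 1]],
  [[1, 0, 0, 0, 0, 0], [0, 1, 0, 0, 0, 3], [0, 0, 1, 0, 3, 0], [0, 0, 0, 1, 0, 0], [0, 0, 0, 0, 1, 0], [0, 0, 0, 0, 0, 1]]]

end Cfsg.Agent.Lib.Compute.Schur2.G24s
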