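import Cfsg.Agent.Lib.Compute.Schur2.PermG


set_option autoImplicit false
set_option maxRecDepth 1000000

namespace Cfsg.Agent.Lib.Compute.Schur2.J2

open Cfsg Cfsg.Agent.Lib.Compute.SchurLin

/-- All words: relators, then subgroup words. -/
def W : List (List ℕ) := [[2, 0, 2, 0, 2, 2, 0, 2, 2, 2, 0, 2, 1, 3, 1, 3, 1, 2, 2, 1, 3, 3, 3, 3, 3, 3, 3, 3, 1],
  [0, 2, 0, 2, 2, 2, 0, 2, 0, 3, 0, 3, 1, 2, 2, 1, 3, 3, 3, 1, 3, 1, 3, 1, 3],
  [0, 2, 0, 3, 0, 3, 3, 4, 2, 2, 2, 1, 3, 3, 5, 2, 1, 2, 1, 3, 5],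
  [0, 0],
  [2, 2, 2, 2, 2, 2],
  [0, 2, 0, 3, 0, 2, 1, 3, 1, 2, 1, 3],
  [0, 2, 0, 3, 0, 2, 0, 3, 1, 2, 1, 3],
  [0, 2, 0, 3, 0, 2, 1, 3, 1, 2, 0, 3],
  [0, 2, 0, 0, 0, 0, 3, 1, 3, 0, 0, 2, 0, 0, 0, 0, 3, 1, 3, 0, 0, 2, 0, 0, 0, 0, 3, 1, 3, 0, 0, 2, 0, 0, 0, 0, 3, 1, 3, 0, 0, 2, 0, 0, 0, 0, 3, 1, 3, 0, 0, 2, 0, 0, 0, 0, 3, 1, 3, 0, 0, 2, 0, 0, 0, 0, 3, 1, 3, 0],
  [0, 2, 2, 0, 2, 2, 4, 3, 1, 5, 3, 1, 3, 3, 0, 4],
  [0, 2, 4, 2, 0, 4, 3, 5, 3, 1, 3, 3, 5, 1, 2, 2],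
  [0, 2, 2, 0, 2, 4, 2, 4, 0, 5, 3, 5, 3, 1, 3, 3],
  [0, 3, 3, 0, 3, 5, 2, 5, 1, 5, 3, 5, 2, 1, 2, 2],
  [0, 2, 2, 4, 3, 1, 5, 2, 2, 1, 3, 3, 0, 4, 0, 3],
  [0, 2, 4, 2, 5, 3, 5, 2, 2, 1, 3, 3, 0, 4, 0, 3],
  [0, 2, 4, 2, 4, 3, 5, 2, 2, 1, 3, 3, 0, 4, 0, 3],
  [0, 2, 2, 1, 5, 2, 2, 5, 1, 2, 2, 0, 4, 2, 2, 4],
  [0, 2, 0, 4, 0, 2, 2, 2, 0, 5, 1, 3, 1, 3, 3, 3],
  [0, 2, 0, 4, 0, 3, 3, 4, 3, 1, 5, 3, 1, 3, 3, 3],
  [0, 2, 4, 0, 3, 3, 4, 2, 2, 1, 5, 3, 1, 3, 3, 3],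
  [0, 2, 2, 2, 1, 2, 1, 5, 1, 3, 3, 3, 0, 4, 0, 3],
  [0],
  [2]]

/-- The table. -/
def tT : ℕ := nat_lit 0x9f3e860c78ef5e9d6efdfc182b4db1630e1c74e64cbf7e3c7c58b162bb165cba1422debb76ddb9712244b973143b76e244b56a1428d1aa407cfac587b230e1af5e1c678f2b567385d3a9931bb7ab568d16b66a54a74f03395298b178f9ab5a9518b172e6edd618ddbbc78d7b2830674e8d897af5cbb0ba870ead570bb060932565cbd7a3c792ae9d3972d5ca9325bb7b0aa448952afdf54aacd9af394a98b16f5d50a2d5ab89ae5c4a96dd79b361428296d5a74e92c29f3debdb2913a7468d6b87efdf3ea48ecd981014d8468dcb9454abd75ebd420a1420c19a7eb5678f0fd6a344f1e7f31a349122ad53c7952a6871b36366ced4a549a3432d9c3838729b03264f9f9e61122a54a8d13060b97674183076ecbcf9d3a6cd985972e52a4b3f5ab562c352cb162a5654956adb3690563c75ab4abd8d18a1440ee2c54e9ca1e81013268868993870e141244889180752247efdf117af50a122f19324488990428502076a081064c9d391e3dc384e39bb734692351c399b36c34e1c6ad4699366ce9d4cb068d1830db466ccc1864318b160c062f285058b5cb562c56ad529162d428149cb9712248214c98912122d2a548911a21224408424d0201e3c4083e7c70e3c1ce9d0c18e1b3468c99305c2852c589042a541830e5050a264c19222448101e3c183040870a081068d0a083060a1410618302041604387142808910203870c14081000020304080810000000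
/-- The parents. -/
def pT : ℕ := nat_lit 0x9f3a6cc8f162c48709f3d78e5bb566c58b05ebd72e58ad5aa54a54264a952a4468d1a2407cf9e3c70d993260c172e58b162a54a94284c91122448101e3870d1a3460c182c58a1224488101c305080c18304081010204000
/-- The letters of the parents. -/
def lT : ℕ := nat_lit 0x8984d06020927124234d30038d38c26d40e20c44d08d44046980c34235028844e07108d3420

/-- The table, with relators and subgroup words. -/
def c : TC where
  n := 3
  N := 100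
  t := fun i x => rdP tT 7 127 (Nat.add (Nat.mul i 6) x)
  par := fun i => rdP pT 7 127 i
  lt := fun i => rdP lT 3 7 i
  rk := fun _ => 0
  jk := fun _ => 0
  ji := fun _ => 0
  W := W
  nrel := 21

/-- The entries of the certificate. -/
noncomputable def tE : Cfsg.Agent.Lib.Compute.ToddCoxeterPresented.TT := .node (nat_lit 512) (.node (nat_lit 256) (.leaf (nat_lit 0x100016a00004000000001ef200010c00001d000000007f300016900007f0000000000100016600007f00000000000ffffff0000000000000000100016500007e0000000000100016300003f0000000000100015f00003e000300001130000ac000011000000003d300015c00003d0000000000100015900003d00000000000ffffff000000000400002130000ee00002100000001b220000a00000210002000011300009f0000110000000000100015300003c000000003230000e8000032000000009620000e900003200000000000ffffff000000000400002230000a1000022000000026920000ed00002200000002be20000a7000013000300001030000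9b000010000000002130000a600002100000002b020000a500002100000000000ffffff000000000400002030000aa000020000000018920000a90000200000000000100014700003b000300002830000c4000028000000001030000970000100000000096200009800001000000000000ffffff000000000400003230000f000003200000002e720000eb0000320000000000100014500003a00000000001000143000039000000000f300009300000f0000000096200009400000f00000000000ffffff000000000400003830001420000380000000000100013b000038000200002730000c0000027000300000e300009100000e0000000037300013a0000370000000000100013700003700000000000ffffff000000000400001a30000f900001a0000000227200010900001a00000001f3200010b0000730003000035300012a000035000000000e300008d00000e0000000096200008e00000e00000000000ffffff0000000000000000100013500007d0000000000100013300007c0000000000100012f000036000300000d300008500000d000000001c30000f700001c00000000aa20000f600001c00000000000ffffff0000000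000000237200012d00003500000000001000127000035000200000d300008200000d0000000268200008300006f000000007b300012600007b0000000000100012300007b00000000000ffffff000000000400001d300010a00001d000000019020000f800001d000200002630000f5000026000000025c20000fa00002c000000000d300007e00000d0000000096200007f00000d00000000000ffffff000000000400000c300007a00000c000400006f400010400000c0002000071300008b00007100000000001000121000034000000003330001170000330000000000100011400003300000000000ffffff000000000500007a40001130000180000000000100010f00007a000000000010000e5000032000300000c300007800000c000000003130000e4000031000000000010000e100003100000000000ffffff000000000000000010000df000079000000000010000dd000030000200000c300007600000c000000000010000db00002f000000007830000da000078000000000010000d700007800000000000ffffff000000000400000b300007300000b000000000010000d5000077000000000010000d300002e0000000000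10000d100002d000000002c30000d000002c000000000010000cd00002c00000000000ffffff000000000000000010000cc000076000000000010000ca00002b000000000010000c800002a000000000010000c6000029000000000b300006f00000b0000000096200007000000b00000000000ffffff000000000000000010000c5000075000000000010000c1000028000200000a300006d00000a000000000010000bd000027000000007430000bc000074000000000010000b900007400000000000ffffff000000000400000930000670000090005000009300006b000009000000023f2000068000010000300002130000a8000021000000002630000b8000026000000000010000b500002600000000000ffffff0000000004000012300006500001200000002c0200006400001200020000093000061000009000000009a200006200000b000000002530000b4000025000000000010000b100002500000000000ffffff000000000000000010000af000073000000000010000ad000024000000000010000ab0000230000000000100009e0000220000000009300005d0000090000000096200005e00000900000000000ffffff00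00000004000008300005a0000080000000000100009c0000720000000000100009a00002100030000133000069000013000000002030000990000200000000000100009600002000000000000ffffff00000000000001b7200005700000f000500000f300005800000f0002000008300004e00000800000001e9200004f000008000000001f300009500001f0000000000100009200001f00000000000ffffff000000000400000e300004a00000e00000002c0200004900000e0000000000100009000001e00030000073000048000007000000001d300008f00001d0000000000100008c00001d00000000000ffffff00000000040000063000044000006000000000010000860000700000000000100008400001c0000000000100008100001b000000001a300008000001a0000000000100007d00001a00000000000ffffff0000000000000000100007b00006f000000000010000790000190000000000100007700001800000000001000075000017000000000530000400000050000000096200004100000500000000000ffffff0000000000000000100007400006e000000000010000720000160002000012300006300001200030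00004300003b000004000000001530000710000150000000000100006e00001500000000000ffffff0000000004000003300002700000300000001f2200002a0000660000000236200002c0000070000000000100006c000014000000000a300002900000a00000001c2200002800000a00000000000ffffff000000000000021e200006a0000130000000000100006600001300020000033000025000003000000000010000600000120000000011300005f0000110000000000100005c00001100000000000ffffff0000000000000000100005b00006d00000000001000059000010000200000f300005000000f0000000000100004d00000f000000000330000210000030000000096200002200000300000000000ffffff0000000004000002300001e0000020000000000100004b00006c0000000000100004700000e000300000a300002d00000a000100006840000390000040000000068400003800000400000000000ffffff0000000000000000100004500006b0000000000100004300000d00000002932000017000005000300000230000160000020000000006300001c000006000000017d200001b00000600000000000fff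fff0000000004000005300001a00000500000002a120000190000050002000002300001400000200030000063000018000006000000000c300004200000c0000000000100003f00000c00000000000ffffff0000000000000000100003e00006a0000000000100003c0000690000000000100003a00000b0003000001300000f000001000000006830000360000680000000000100003300006800000000000ffffff0000000005000066400003200000a0000000000100002600000a0002000001300000d00000100000000001000024000009000000000830000230000080000000000100002000000800000000000ffffff0000000000000000100001f0000670000000000100001d0000070000000000100001500000600000000001000013000005000000000130000090000010000000096200000a00000100000000000ffffff00000000040000003000006000000000000000010000100000650000000000100000e0000040000000000100000c0000030000000002300000b0000020000000000100000800000200000000000ffffff000000000000000010000070000640000000000100000500000100020000003000004000000000000000150000030000000000000000300000200000000000000005000001000000))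 (.leaf (nat_lit 0x27120001cb00004900000000000ffffff00000000000001a620001bb000037000000020720001bf0000370002000058300023f000058000300002a30001ba00002a000000004830001be00004800000001ba20001bd00004800000000000ffffff000000000400004a300021700004a000500004a300021500004a000200005f300027b00005f0000000000100027800005f000000002a30001b600002a000000009620001b700002a00000000000ffffff0000000004000059300024b0000590005000059300024d00005900020000573000237000057000300004e30001e700004e0000000029300018e0000290000000096200018f00002900000000000ffffff0000000004000045300018c0000450000000189200018b0000450000000000100026e00005e0000000000100026800005d000000002830001880000280000000096200018900002800000000000ffffff000000000400005a300025500005a000500005a300025700005a000200005c300026100005c00030000263000186000026000000005c300025f00005c0000000000100025c00005c00000000000ffffff00000000040000253000182000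025000400008040001df0000250000000000100025800005b00030000573000239000057000100008040001de00004d000000017a20001d700004d00000000000ffffff000000000000007a20001ee000042000500004230001ef00004200000002c8200017d0000410003000025300017c000025000000005a300025100005a0000000000100024e00005a00000000000ffffff000000000000007a200017f00003a000000019c200017900003a000200002530001780000250003000042300017e000042000000004d20001f000004f000100004f30001ed00004f00000000000ffffff00000000000001a6200017000003d000500003d300017400003d000200005930002470000590003000024300016b0000240000000185200016c0000270000000188200016e00002700000000000ffffff00000000040000233000164000023000000023e2000195000023000200008130001940000810000000089200019800003800000001a3200019f00003f000100003f30001a000003f00000000000ffffff000000000400003e300016200003e00000002c0200016100003e0002000052300020700005200030000233000160000023000000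005930002450000590000000000100024200005900000000000ffffff000000000000018a2000173000040000500004030001710000400002000029300015e0000290000000000100023c0000580000000023300015a0000230000000096200015b00002300000000000ffffff000000000000021e2000157000039000000018020001550000390002000022300015400002200030000523000205000052000000005730002350000570000000000100023200005700000000000ffffff00000000000001a1200014900002f00000001fd200015100002f0000000293200014b00002800030000203000148000020000000005030001f5000050000100005030001f700005000000000000ffffff0000000004000041300017a00004100050000413000180000041000200004d30001d600004d000300001f300014600001f0000000056300022f0000560001000056300023100005600000000000ffffff000000000400003c300015600003c000500003c300015800003c000200001f300014400001f0000000000100022a000056000000005130001fb000051000100005130001fd00005100000000000ffffff000000000400001e30001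3c00001e00000001ad200014100001e000200003f300019900003f000300004c30001d200004c000000003430001400000340000000276200013d00003400000000000ffffff000000000400004830001c0000048000500004830001bc0000480002000055300022500005500000000001000220000055000000001e300013800001e0000000096200013900001e00000000000ffffff000000000400002a30001b200002a000000026620001aa00002a00000000a02000131000034000300001c300013000001c000000003630001a9000036000000003a20001a800003600000000000ffffff000000000400001b300012800001b000500001b300012e00001b00000001fe200012900001d00000000001000218000054000000005230002030000520000000096200020800005200000000000ffffff000000000000028320001a3000034000500003430001a400003400020000193000122000019000300003630001320000360000000038300013e0000380000000096200013f00003800000000000ffffff000000000500007c40001b000001c000400007d40001a700001c0000000000100020c000053000000018f20001180000790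00000001930001150000190000000096200011600001900000000000ffffff000000000400001f30000ec00001f000000027d20000ef00001f000200004f30001eb00004f000300001830000e6000018000000002230000ea000022000000027120000e700002200000000000ffffff0000000000000193200020a00005200000000001000200000052000200005130001ff000051000000000010001f8000051000000001830000e2000018000000009620000e300001800000000000ffffff000000000400001730000de000017000400007940001200000170003000079400011f000033000000000010001f20000500001000079400011e00003000000002f3200011c00007900000000000ffffff000000000400003b300015200003b000500003b300014a00003b000200001730000dc000017000000000010001e800004f000000004e30001e300004e000000000010001e000004e00000000000ffffff000000000000020020001db00004d000000000010001d300004d000000000010001cf00004c000300001630000d4000016000000002e30001a200002e00000001ba20001a100002e00000000000ffffff0000000005000081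400019e00002900000001b22000175000029000200001630000d20000160002000081400019d00003f00000001e7200019a0000810000000081400019c00002d00000000000ffffff0000000000000193200010700002c000500002c300010800002c000200001a30000fb00001a000000000010001c700004b000000001630000ce000016000000009620000cf00001600000000000ffffff000000000400001530000cb00001500000001f220001b3000015000000000010001c300004a000000000010001c1000049000000002b30001ad00002b00000001c220001ac00002b00000000000ffffff000000000400003630001ab000036000000027520001b1000036000000000010001b9000048000300001530000c9000015000000004730001b8000047000000000010001b500004700000000000ffffff000000000400002d300017600002d00000000001000191000081000200001530000c700001500000001bc200015d00003d000000004630001900000460000000000100018d00004600000000000ffffff000000000400001430000c200001400000002a1200014d00001400000001fe20000c3000020000300003b300014c00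003b0000000045300018a0000450000000000100018700004500000000000ffffff0000000004000027300010600002700000002c02000105000027000200001430000be000014000000009a20000bf00001e0000000040300016f0000400001000040300016d00004000000000000ffffff00000000040000263000150000026000000029d200014f00002600000000001000185000044000000020a20000f400001a000000001330000b6000013000000009620000b700001300000000000ffffff00000000000000001000183000080000000000010001810000430000000000100017b00004200000000001000177000041000000001230000b2000012000000009620000b300001200000000000ffffff000000000400001130000ae0000110004000073400010e000011))) (.node (nat_lit 768) (.leaf (nat_lit 0xffffff00000000000000000ffffff00000000000000000ffffff00000000000000000ffffff00000000000000000ffffff000000000100000190000520000020004000007300004c00000700000000000ffffff00000000000000000ffffff00000000000000000ffffff00000000000000000ffffff00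000000000001f120000510000010005000070800010100000d00000000000ffffff0000000005000006300004600000600000000000ffffff0000000000000000100008800007100000000000ffffff00000000000000000ffffff0000000005000069800005600000400000000000ffffff00000000000000000ffffff00000000000000000ffffff00000000000000000ffffff00000000000000000ffffff00000000000000000ffffff000000000100000790000550000040004000004300003d00000400000000000ffffff00000000000000000ffffff00000000000000000ffffff00000000000000000ffffff000000000000021420000540000070190000002700003700000700000000000ffffff00000000000000000ffffff00000000000000000ffffff00000000000000000ffffff0000000000000004300003400000400000000962000035000004000500006c800005300000700000000000ffffff00000000000000000ffffff00000000000000000ffffff00000000000000000ffffff00000000000000000ffffff00000000000000000ffffff00000000020000648000031000003000400000a300002b00000a00000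000000ffffff00000000000000000ffffff00000000000000000ffffff00000000000000000ffffff00000000000000000ffffff0000000001000000900002f0000000004000001300001100000100000000000ffffff00000000000000000ffffff00000000000000000ffffff00000000000000000ffffff0000000000000248200002e0000000005000065800003000000100000000000ffffff00000000000000000ffffff00000000000000000ffffff0000000000000000100001200006600000000000ffffff00000000000000000ffffff00000000000000000ffffff000000000400004f300029d00004f00000001f220002a400004f0000000181200029e000050000000019d20002a0000060000000006330002a300006300000001c220002a200006300000000000ffffff0000000000000193200029a00005e000500005e300029900005e000200004e300029100004e000000009a200029200005b00000000ac200029600005f00000000a8200029400005f00000000000ffffff00000000000001df200028e0000600005000060300028b00006000000000a02000286000056000300004d300028500004d00000001822000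28800005800000001dd200028c00005800000000000ffffff00000000000001d4200028a0000610005000061300028f000061000200006330002a1000063000000017b2000282000053000000004c300027f00004c0000000096200028000004c00000000000ffffff000000000400005f300027d00005f000000021c200027c00005f00020000473000279000047000000017c200027a000047000000006230002950000620001000062300029700006200000000000ffffff000000000000018320002980000620005000062300029b000062000200005d300027500005d0003000045300026f00004500000000ae200027200004b00000000aa200027000004b00000000000ffffff0000000000000193200026c0000500005000050300027700005000020000453000269000045000000017e200027400005e000000005d300026b00005d00000000a8200026a00005d00000000000ffffff0000000000000200200026600005b0000000189200026200005b00000001de200026400004b000000017b20002600000440000000044300025d0000440000000096200025e00004400000000000ffffff000000000400005c300026300005c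000500005c300026700005c0002000062300029300006200030000433000259000043000000005b300025b00005b00000001ba200025a00005b00000000000ffffff00000000000001df2000256000044000000019c2000254000044000200005a300025300005a00000000a7200025200005a0000000042300024f0000420000000096200025000004200000000000ffffff0000000000000283200024c0000460000000207200024a00004600000001db200024800005400000000a72000246000040000000003e300024300003e0000000096200024400003e00000000000ffffff0000000004000058300024100005800000001802000240000058000200003d300023d00003d000000009a200023e0000480000000061300028d0000610001000061300028900006100000000000ffffff0000000004000057300023b00005700000001f2200023a00005700000000a9200023800004300000000a72000236000046000000003c300023300003c0000000096200023400003c00000000000ffffff0000000004000056300022d0000560000000180200022c0000560002000039300022b0000390003000061300028700006100000001e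7200023000003a000000019a200022e00003a00000000000ffffff0000000000000193200022600004c000500004c300022900004c00020000373000221000037000000017c20002240000370000000055300022300005500000000a8200022200005500000000000ffffff00000000000001e1200021c0000510000000180200021a00005100020000353000219000035000300005930002490000590000000203200021e0000540001000054300021f00005400000000000ffffff000000000000026d200021200005300050000533000213000053000200006030002830000600003000033300020d0000330000000185200020e00004a00000001fa200021000004a00000000000ffffff000000000400003130002010000310005000031300020b0000310000000273200020400003c0000000074200020600003e000000003530002090000350000000208200020200003500000000000ffffff0000000004000054300021b0000540005000054300021d000054000200003130001f900003100000001a920001fe00003100000000ac20001fc00003900000000a820001fa00003900000000000ffffff000000000000019320002760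0005d000500005d300026d00005d000200003030001f30000300003000063300029f000063000000020320001f600003b000000017d20001f400003b00000000000ffffff000000000400006330002a50000630000000000100029c000063000200002f30001e900002f000000009a20001ea00003200000001e720001ec000041000100004130001f100004100000000000ffffff000000000400004e30001e500004e000000029d20001e400004e000000004320001e600004600000000001000290000062000000002f30001e100002f000000009620001e200002f00000000000ffffff000000000400002e30001d400002e000500002e30001dc00002e0000000000100028400006100000001ae20001d500003a000000004330001d8000043000100008030001da00008000000000000ffffff00000000000001a620002280000550005000055300022700005500000000a020001d1000038000300002e30001d000002e000000006030002810000600000000000100027e00006000000000000ffffff00000000000002b220001c9000049000000026920001cd000049000200002c30001c800002c000300005c300026500005c000000005e300027100005e000100005e300027300005e00000000000ffffff0000000000000296200021400004700000002e72000216000047000000029320001c5000049000300002b30001c400002b000000005330002110000530001000053300020f00005300000000000ffffff000000000400004b30001ce00004b000500004b30001ca00004b000200002b30001c200002b000300004a30001c600004a000000004930001cc000049))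 (.leaf (nat_lit 0x81900019b00002d0004000029300019200002900000000000ffffff00000000000000000ffffff00000000000001b3200019300003f00000000000ffffff00000000000002b02000197000081009600004d70001dd00004300000000000ffffff0000000005000025300018400002500000000000ffffff00000000000000000ffffff000000000000018b20001d900004d00000000000ffffff0000000284000024700017200002400000000000ffffff00000000000000000ffffff00000000000000000ffffff00000000000000000ffffff00000000000000243000167000024000000009620001680000240005000023900019600003f00000000000ffffff00000000000000000ffffff00000000000000000ffffff00000000000000000ffffff00000000000000000ffffff00000000000000000ffffff000000000100001990001a600003300000000000ffffff000000000500001c300013600001c00000000000ffffff00000000000000000ffffff00000000000000000ffffff000000000000006c20001a5000019000100001990001af000033000400001c300013400001c00000000000ffffff0000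0000000000000ffffff00000000000000000ffffff00000000000000000ffffff000000000000019120001ae000019000200000d900012c00001b00000000000ffffff00000000000000000ffffff00000000000001b6200012b00000d00000000000ffffff000000000000001b300012400001b0000000096200012500001b000300000c90001120000180004000018300011000001800000000000ffffff00000000000000000ffffff0000000000000088200011100000c00000000000ffffff00000000000000000ffffff0000000001000079900011d00003000000000000ffffff000000000500001730000e00000170002000033300011900003300000000000ffffff0000000000000079300011b000079000000028f200011a000079000200000a90000f200001400000000000ffffff00000000000000000ffffff000000000000000d20000f100000a00000000000ffffff000000000000001730000d8000017000000009620000d9000017000300000490000fd00000b000400001630000d600001600000000000ffffff00000000000000000ffffff000000000000026720000fc00000400000000000ffffff0000000000000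0000ffffff000000000500001590001b400002b00000000000ffffff00000000000000000ffffff00000000000000000ffffff00000000000000000ffffff00000000000000000ffffff00000000000000000ffffff0000000005000014900014e00002800000000000ffffff00000000000000000ffffff00000000000000000ffffff00000000000000000ffffff00000000000000000ffffff00000000000000000ffffff000000000000007880000f300001700000000000ffffff00000000000000000ffffff00000000000000000ffffff00000000000000000ffffff000000000000001430000ba000014000000009620000bb000014000300001d900010d00002400000000000ffffff000000000500001130000b000001100000000000ffffff00000000000000000ffffff00000000000000000ffffff00000000000000000ffffff000000000100000390000a30000080004000010300009d00001000000000000ffffff00000000000000000ffffff00000000000000000ffffff00000000000000000ffffff00000000000001c220000a2000003000200006b800010200001b00000000000ffffff00000000000000000fffff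f000000000200006b300008900006b0000000260200008a00001900000000000ffffff00000000000000000ffffff00000000010000069000100000006000400000d300008700000d00000000000ffffff00000000000000000ffffff00000000000000000ffffff00000000000000000ffffff000000000000029e20000ff0000060002000071800010300001900000000000ffffff000000000500000c300007c00000c00000000000ffffff00000000000000000ffffff00000000000000000ffffff00000000000000000ffffff000000000500007780000fe00001600000000000ffffff00000000000000000ffffff00000000000000000ffffff00000000000000000ffffff00000000000000000ffffff00000000000000000ffffff000000000500007280000a400001000000000000ffffff000000)))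
/-- The definitions of the certificate. -/
noncomputable def tP : Cfsg.Agent.Lib.Compute.ToddCoxeterPresented.TT := .leaf (nat_lit 0x12300000108000000fc000000fa000000c9000000c8000000bd000000ac000000a6000000a10000009e00000098000000910000008c0000007c00000074000002ef0000005f00000059000000520000003d000000350000002f00000021000000200000001c00000013000002be0000000b000000050000022d000002240000021e00000214000001f3000001e6000001e5000001dc000001d8000001ce000001b2000001ad000001a4000001910000018300000175000001680000015b00000159000001520000014b00000149000001460000014500000136000001300000012f00000129000001260000011f000001180000010d000001070000010600000105000000ff000000f9000000f8000000f5000000f0000000e3000000dc000000db000000d6000000d2000000c7000000c1000000b1000000af000000ab000000a8000000a5000000a30000009d0000009c0000009a000000970000009600000095000000900000008e000000850000007e0000007b0000007a0000007900000073000000700000006900000065000000620000005e0000005d0000005b000000580000005700000056000000510000004d0000004800000043000000410000003f0000003c0000003a000000340000002e000000230000001f0000001900000017000000150000001200000011000000100000000a00000009000000070000000400000000)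
/-- The rules of the certificate. -/
noncomputable def rT : Cfsg.Agent.Lib.Compute.ToddCoxeterPresented.RT := .node (nat_lit 381) (.node (nat_lit 190) (.node (nat_lit 95) (.node (nat_lit 47) (.node (nat_lit 23) (.node (nat_lit 11) (.node (nat_lit 5) (.node (nat_lit 2) (.node (nat_lit 1) (.leaf (nat_lit 0) (nat_lit 2) [nat_lit 0, nat_lit 2, nat_lit 2, nat_lit 2, nat_lit 2, nat_lit 2, nat_lit 2, nat_lit 2, nat_lit 2, nat_lit 0, nat_lit 3, nat_lit 3, nat_lit 0, nat_lit 2, nat_lit 0, nat_lit 2, nat_lit 0, nat_lit 3, nat_lit 1, nat_lit 3, nat_lit 3, nat_lit 3, nat_lit 1, nat_lit 3, nat_lit 3, nat_lit 1, nat_lit 3, nat_lit 1]) (.leaf (nat_lit 1) (nat_lit 0) [nat_lit 3, nat_lit 0, nat_lit 2, nat_lit 2, nat_lit 2, nat_lit 2, nat_lit 2, nat_lit 2, nat_lit 2, nat_lit 2, nat_lit 0, nat_lit 3, nat_lit 3, nat_lit 0, nat_lit 2, nat_lit 0, nat_lit 2, nat_lit 0, nat_lit 3, nat_lit 1, nat_lit 3, nat_lit 3, nat_lit 3, nat_lit 1, nat_lit 3, nat_lit 3, nat_lit 1, nat_lit 3])) (.node (nat_lit 3) (.leaf (nat_lit 2) (nat_lit 2) [nat_lit 1, nat_lit 3, nat_lit 0, nat_lit 2, nat_lit 2, nat_lit 2, nat_lit 2, nat_lit 2, nat_lit 2, nat_lit 2, nat_lit 2, nat_lit 0, nat_lit 3, nat_lit 3, nat_lit 0, nat_lit 2, nat_lit 0, nat_lit 2, nat_lit 0, nat_lit 3, nat_lit 1, nat_lit 3, nat_lit 3, nat_lit 3, nat_lit 1, nat_lit 3, nat_lit 3, nat_lit 1]) (.node (nat_lit 4) (.leaf (nat_lit 3) (nat_lit 0) [nat_lit 3, nat_lit 1, nat_lit 3, nat_lit 0, nat_lit 2, nat_lit 2, nat_lit 2, nat_lit 2, nat_lit 2, nat_lit 2, nat_lit 2, nat_lit 2, nat_lit 0, nat_lit 3, nat_lit 3, nat_lit 0, nat_lit 2, nat_lit 0, nat_lit 2, nat_lit 0, nat_lit 3, nat_lit 1, nat_lit 3, nat_lit 3, nat_lit 3, nat_lit 1, nat_lit 3, nat_lit 3]) (.leaf (nat_lit 4) (nat_lit 2) [nat_lit 1, nat_lit 3, nat_lit 1, nat_lit 3, nat_lit 0, nat_lit 2, nat_lit 2, nat_lit 2, nat_lit 2, nat_lit 2, nat_lit 2, nat_lit 2, nat_lit 2, nat_lit 0, nat_lit 3, nat_lit 3, nat_lit 0, nat_lit 2, nat_lit 0, nat_lit 2, nat_lit 0, nat_lit 3, nat_lit 1, nat_lit 3, nat_lit 3, nat_lit 3, nat_lit 1, nat_lit 3])))) (.node (nat_lit 8) (.node (nat_lit 6) (.leaf (nat_lit 5) (nat_lit 2) [nat_lit 3, nat_lit 1, nat_lit 3, nat_lit 1, nat_lit 3, nat_lit 0, nat_lit 2, nat_lit 2, nat_lit 2, nat_lit 2, nat_lit 2, nat_lit 2, nat_lit 2, nat_lit 2, nat_lit 0, nat_lit 3, nat_lit 3, nat_lit 0, nat_lit 2, nat_lit 0, nat_lit 2, nat_lit 0, nat_lit 3, nat_lit 1, nat_lit 3, nat_lit 3, nat_lit 3, nat_lit 1]) (.node (nat_lit 7) (.leaf (nat_lit 6) (nat_lit 0) [nat_lit 3, nat_lit 3, nat_lit 1, nat_lit 3, nat_lit 1, nat_lit 3, nat_lit 0, nat_lit 2, nat_lit 2, nat_lit 2, nat_lit 2, nat_lit 2, nat_lit 2, nat_lit 2, nat_lit 2, nat_lit 0, nat_lit 3, nat_lit 3, nat_lit 0, nat_lit 2, nat_lit 0, nat_lit 2, nat_lit 0, nat_lit 3, nat_lit 1, nat_lit 3, nat_lit 3, nat_lit 3]) (.leaf (nat_lit 7) (nat_lit 2) [nat_lit 1, nat_lit 3, nat_lit 3, nat_lit 1, nat_lit 3, nat_lit 1, nat_lit 3, nat_lit 0, nat_lit 2, nat_lit 2, nat_lit 2, nat_lit 2, nat_lit 2, nat_lit 2, nat_lit 2, nat_lit 2, nat_lit 0, nat_lit 3, nat_lit 3, nat_lit 0, nat_lit 2, nat_lit 0, nat_lit 2, nat_lit 0, nat_lit 3, nat_lit 1, nat_lit 3, nat_lit 3]))) (.node (nat_lit 9) (.leaf (nat_lit 8) (nat_lit 2) [nat_lit 3, nat_lit 1, nat_lit 3, nat_lit 3, nat_lit 1, nat_lit 3, nat_lit 1, nat_lit 3, nat_lit 0, nat_lit 2, nat_lit 2, nat_lit 2, nat_lit 2, nat_lit 2, nat_lit 2, nat_lit 2, nat_lit 2, nat_lit 0, nat_lit 3, nat_lit 3, nat_lit 0, nat_lit 2, nat_lit 0, nat_lit 2, nat_lit 0, nat_lit 3, nat_lit 1, nat_lit 3]) (.node (nat_lit 10) (.leaf (nat_lit 9) (nat_lit 2) [nat_lit 3, nat_lit 3, nat_lit 1, nat_lit 3, nat_lit 3, nat_lit 1, nat_lit 3, nat_lit 1, nat_lit 3, nat_lit 0, nat_lit 2, nat_lit 2, nat_lit 2, nat_lit 2, nat_lit 2, nat_lit 2, nat_lit 2, nat_lit 2, nat_lit 0, nat_lit 3, nat_lit 3, nat_lit 0, nat_lit 2, nat_lit 0, nat_lit 2, nat_lit 0, nat_lit 3, nat_lit 1]) (.leaf (nat_lit 10) (nat_lit 0) [nat_lit 3, nat_lit 3, nat_lit 3, nat_lit 1, nat_lit 3, nat_lit 3, nat_lit 1, nat_lit 3, nat_lit 1, nat_lit 3, nat_lit 0, nat_lit 2, nat_lit 2, nat_lit 2, nat_lit 2, nat_lit 2, nat_lit 2, nat_lit 2, nat_lit 2, nat_lit 0, nat_lit 3, nat_lit 3, nat_lit 0, nat_lit 2, nat_lit 0, nat_lit 2, nat_lit 0, nat_lit 3]))))) (.node (nat_lit 17) (.node (nat_lit 14) (.node (nat_lit 12) (.leaf (nat_lit 11) (nat_lit 2) [nat_lit 1, nat_lit 3, nat_lit 3, nat_lit 3, nat_lit 1, nat_lit 3, nat_lit 3, nat_lit 1, nat_lit 3, nat_lit 1, nat_lit 3, nat_lit 0, nat_lit 2, nat_lit 2, nat_lit 2, nat_lit 2, nat_lit 2, nat_lit 2, nat_lit 2, nat_lit 2, nat_lit 0, nat_lit 3, nat_lit 3, nat_lit 0, nat_lit 2, nat_lit 0, nat_lit 2, nat_lit 0]) (.node (nat_lit 13) (.leaf (nat_lit 12) (nat_lit 1) [nat_lit 3, nat_lit 1, nat_lit 3, nat_lit 3, nat_lit 3, nat_lit 1, nat_lit 3, nat_lit 3, nat_lit 1, nat_lit 3, nat_lit 1, nat_lit 3, nat_lit 0, nat_lit 2, nat_lit 2, nat_lit 2, nat_lit 2, nat_lit 2, nat_lit 2, nat_lit 2, nat_lit 2, nat_lit 0, nat_lit 3, nat_lit 3, nat_lit 0, nat_lit 2, nat_lit 0, nat_lit 2]) (.leaf (nat_lit 13) (nat_lit 3) [nat_lit 0, nat_lit 3, nat_lit 1, nat_lit 3, nat_lit 3, nat_lit 3, nat_lit 1, nat_lit 3, nat_lit 3, nat_lit 1, nat_lit 3, nat_lit 1, nat_lit 3, nat_lit 0, nat_lit 2, nat_lit 2, nat_lit 2, nat_lit 2, nat_lit 2, nat_lit 2, nat_lit 2, nat_lit 2, nat_lit 0, nat_lit 3, nat_lit 3, nat_lit 0, nat_lit 2, nat_lit 0]))) (.node (nat_lit 15) (.leaf (nat_lit 14) (nat_lit 1) [nat_lit 2, nat_lit 0, nat_lit 3, nat_lit 1, nat_lit 3, nat_lit 3, nat_lit 3, nat_lit 1, nat_lit 3, nat_lit 3, nat_lit 1, nat_lit 3, nat_lit 1, nat_lit 3, nat_lit 0, nat_lit 2, nat_lit 2, nat_lit 2, nat_lit 2, nat_lit 2, nat_lit 2, nat_lit 2, nat_lit 2, nat_lit 0, nat_lit 3, nat_lit 3, nat_lit 0, nat_lit 2]) (.node (nat_lit 16) (.leaf (nat_lit 15) (nat_lit 3) [nat_lit 0, nat_lit 2, nat_lit 0, nat_lit 3, nat_lit 1, nat_lit 3, nat_lit 3, nat_lit 3, nat_lit 1, nat_lit 3, nat_lit 3, nat_lit 1, nat_lit 3, nat_lit 1, nat_lit 3, nat_lit 0, nat_lit 2, nat_lit 2, nat_lit 2, nat_lit 2, nat_lit 2, nat_lit 2, nat_lit 2, nat_lit 2, nat_lit 0, nat_lit 3, nat_lit 3, nat_lit 0]) (.leaf (nat_lit 16) (nat_lit 1) [nat_lit 2, nat_lit 0, nat_lit 2, nat_lit 0, nat_lit 3, nat_lit 1, nat_lit 3, nat_lit 3, nat_lit 3, nat_lit 1, nat_lit 3, nat_lit 3, nat_lit 1, nat_lit 3, nat_lit 1, nat_lit 3, nat_lit 0, nat_lit 2, nat_lit 2, nat_lit 2, nat_lit 2, nat_lit 2, nat_lit 2, nat_lit 2, nat_lit 2, nat_lit 0, nat_lit 3, nat_lit 3])))) (.node (nat_lit 20) (.node (nat_lit 18) (.leaf (nat_lit 17) (nat_lit 2) [nat_lit 0, nat_lit 2, nat_lit 0, nat_lit 2, nat_lit 0, nat_lit 3, nat_lit 1, nat_lit 3, nat_lit 3, nat_lit 3, nat_lit 1, nat_lit 3, nat_lit 3, nat_lit 1, nat_lit 3, nat_lit 1, nat_lit 3, nat_lit 0, nat_lit 2, nat_lit 2, nat_lit 2, nat_lit 2, nat_lit 2, nat_lit 2, nat_lit 2, nat_lit 2, nat_lit 0, nat_lit 3]) (.node (nat_lit 19) (.leaf (nat_lit 18) (nat_lit 2) [nat_lit 3, nat_lit 0, nat_lit 2, nat_lit 0, nat_lit 2, nat_lit 0, nat_lit 3, nat_lit 1, nat_lit 3, nat_lit 3, nat_lit 3, nat_lit 1, nat_lit 3, nat_lit 3, nat_lit 1, nat_lit 3, nat_lit 1, nat_lit 3, nat_lit 0, nat_lit 2, nat_lit 2, nat_lit 2, nat_lit 2, nat_lit 2, nat_lit 2, nat_lit 2, nat_lit 2, nat_lit 0]) (.leaf (nat_lit 19) (nat_lit 1) [nat_lit 3, nat_lit 3, nat_lit 0, nat_lit 2, nat_lit 0, nat_lit 2, nat_lit 0, nat_lit 3, nat_lit 1, nat_lit 3, nat_lit 3, nat_lit 3, nat_lit 1, nat_lit 3, nat_lit 3, nat_lit 1, nat_lit 3, nat_lit 1, nat_lit 3, nat_lit 0, nat_lit 2, nat_lit 2, nat_lit 2, nat_lit 2, nat_lit 2, nat_lit 2, nat_lit 2, nat_lit 2]))) (.node (nat_lit 21) (.leaf (nat_lit 20) (nat_lit 3) [nat_lit 0, nat_lit 3, nat_lit 3, nat_lit 0, nat_lit 2, nat_lit 0, nat_lit 2, nat_lit 0, nat_lit 3, nat_lit 1, nat_lit 3, nat_lit 3, nat_lit 3, nat_lit 1, nat_lit 3, nat_lit 3, nat_lit 1, nat_lit 3, nat_lit 1, nat_lit 3, nat_lit 0, nat_lit 2, nat_lit 2, nat_lit 2, nat_lit 2, nat_lit 2, nat_lit 2, nat_lit 2]) (.node (nat_lit 22) (.leaf (nat_lit 21) (nat_lit 3) [nat_lit 2, nat_lit 0, nat_lit 3, nat_lit 3, nat_lit 0, nat_lit 2, nat_lit 0, nat_lit 2, nat_lit 0, nat_lit 3, nat_lit 1, nat_lit 3, nat_lit 3, nat_lit 3, nat_lit 1, nat_lit 3, nat_lit 3, nat_lit 1, nat_lit 3, nat_lit 1, nat_lit 3, nat_lit 0, nat_lit 2, nat_lit 2, nat_lit 2, nat_lit 2, nat_lit 2, nat_lit 2]) (.leaf (nat_lit 22) (nat_lit 3) [nat_lit 2, nat_lit 2, nat_lit 0, nat_lit 3, nat_lit 3, nat_lit 0, nat_lit 2, nat_lit 0, nat_lit 2, nat_lit 0, nat_lit 3, nat_lit 1, nat_lit 3, nat_lit 3, nat_lit 3, nat_lit 1, nat_lit 3, nat_lit 3, nat_lit 1, nat_lit 3, nat_lit 1, nat_lit 3, nat_lit 0, nat_lit 2, nat_lit 2, nat_lit 2, nat_lit 2, nat_lit 2])))))) (.node (nat_lit 35) (.node (nat_lit 29) (.node (nat_lit 26) (.node (nat_lit 24) (.leaf (nat_lit 23) (nat_lit 3) [nat_lit 2, nat_lit 2, nat_lit 2, nat_lit 0, nat_lit 3, nat_lit 3, nat_lit 0, nat_lit 2, nat_lit 0, nat_lit 2, nat_lit 0, nat_lit 3, nat_lit 1, nat_lit 3, nat_lit 3, nat_lit 3, nat_lit 1, nat_lit 3, nat_lit 3, nat_lit 1, nat_lit 3, nat_lit 1, nat_lit 3, nat_lit 0, nat_lit 2, nat_lit 2, nat_lit 2, nat_lit 2]) (.node (nat_lit 25) (.leaf (nat_lit 24) (nat_lit 3) [nat_lit 2, nat_lit 2, nat_lit 2, nat_lit 2, nat_lit 0, nat_lit 3, nat_lit 3, nat_lit 0, nat_lit 2, nat_lit 0, nat_lit 2, nat_lit 0, nat_lit 3, nat_lit 1, nat_lit 3, nat_lit 3, nat_lit 3, nat_lit 1, nat_lit 3, nat_lit 3, nat_lit 1, nat_lit 3, nat_lit 1, nat_lit 3, nat_lit 0, nat_lit 2, nat_lit 2, nat_lit 2]) (.leaf (nat_lit 25) (nat_lit 3) [nat_lit 2, nat_lit 2, nat_lit 2, nat_lit 2, nat_lit 2, nat_lit 0, nat_lit 3, nat_lit 3, nat_lit 0, nat_lit 2, nat_lit 0, nat_lit 2, nat_lit 0, nat_lit 3, nat_lit 1, nat_lit 3, nat_lit 3, nat_lit 3, nat_lit 1, nat_lit 3, nat_lit 3, nat_lit 1, nat_lit 3, nat_lit 1, nat_lit 3, nat_lit 0, nat_lit 2, nat_lit 2]))) (.node (nat_lit 27) (.leaf (nat_lit 26) (nat_lit 3) [nat_lit 2, nat_lit 2, nat_lit 2, nat_lit 2, nat_lit 2, nat_lit 2, nat_lit 0, nat_lit 3, nat_lit 3, nat_lit 0, nat_lit 2, nat_lit 0, nat_lit 2, nat_lit 0, nat_lit 3, nat_lit 1, nat_lit 3, nat_lit 3, nat_lit 3, nat_lit 1, nat_lit 3, nat_lit 3, nat_lit 1, nat_lit 3, nat_lit 1, nat_lit 3, nat_lit 0, nat_lit 2]) (.node (nat_lit 28) (.leaf (nat_lit 27) (nat_lit 3) [nat_lit 2, nat_lit 2, nat_lit 2, nat_lit 2, nat_lit 2, nat_lit 2, nat_lit 2, nat_lit 0, nat_lit 3, nat_lit 3, nat_lit 0, nat_lit 2, nat_lit 0, nat_lit 2, nat_lit 0, nat_lit 3, nat_lit 1, nat_lit 3, nat_lit 3, nat_lit 3, nat_lit 1, nat_lit 3, nat_lit 3, nat_lit 1, nat_lit 3, nat_lit 1, nat_lit 3, nat_lit 0]) (.leaf (nat_lit 28) (nat_lit 1) [nat_lit 2, nat_lit 2, nat_lit 2, nat_lit 2, nat_lit 2, nat_lit 2, nat_lit 2, nat_lit 2, nat_lit 0, nat_lit 3, nat_lit 3, nat_lit 0, nat_lit 2, nat_lit 0, nat_lit 2, nat_lit 0, nat_lit 3, nat_lit 1, nat_lit 3, nat_lit 3, nat_lit 3, nat_lit 1, nat_lit 3, nat_lit 3, nat_lit 1, nat_lit 3, nat_lit 1, nat_lit 3])))) (.node (nat_lit 32) (.node (nat_lit 30) (.leaf (nat_lit 29) (nat_lit 0) [nat_lit 2, nat_lit 0, nat_lit 2, nat_lit 0, nat_lit 2, nat_lit 2, nat_lit 0, nat_lit 2, nat_lit 2, nat_lit 2, nat_lit 0, nat_lit 2, nat_lit 1, nat_lit 3, nat_lit 1, nat_lit 3, nat_lit 1, nat_lit 2, nat_lit 2, nat_lit 1, nat_lit 3, nat_lit 3, nat_lit 3, nat_lit 3, nat_lit 3, nat_lit 3, nat_lit 3, nat_lit 3]) (.node (nat_lit 31) (.leaf (nat_lit 30) (nat_lit 2) [nat_lit 1, nat_lit 2, nat_lit 0, nat_lit 2, nat_lit 0, nat_lit 2, nat_lit 2, nat_lit 0, nat_lit 2, nat_lit 2, nat_lit 2, nat_lit 0, nat_lit 2, nat_lit 1, nat_lit 3, nat_lit 1, nat_lit 3, nat_lit 1, nat_lit 2, nat_lit 2, nat_lit 1, nat_lit 3, nat_lit 3, nat_lit 3, nat_lit 3, nat_lit 3, nat_lit 3, nat_lit 3]) (.leaf (nat_lit 31) (nat_lit 2) [nat_lit 3, nat_lit 1, nat_lit 2, nat_lit 0, nat_lit 2, nat_lit 0, nat_lit 2, nat_lit 2, nat_lit 0, nat_lit 2, nat_lit 2, nat_lit 2, nat_lit 0, nat_lit 2, nat_lit 1, nat_lit 3, nat_lit 1, nat_lit 3, nat_lit 1, nat_lit 2, nat_lit 2, nat_lit 1, nat_lit 3, nat_lit 3, nat_lit 3, nat_lit 3, nat_lit 3, nat_lit 3]))) (.node (nat_lit 33) (.leaf (nat_lit 32) (nat_lit 2) [nat_lit 3, nat_lit 3, nat_lit 1, nat_lit 2, nat_lit 0, nat_lit 2, nat_lit 0, nat_lit 2, nat_lit 2, nat_lit 0, nat_lit 2, nat_lit 2, nat_lit 2, nat_lit 0, nat_lit 2, nat_lit 1, nat_lit 3, nat_lit 1, nat_lit 3, nat_lit 1, nat_lit 2, nat_lit 2, nat_lit 1, nat_lit 3, nat_lit 3, nat_lit 3, nat_lit 3, nat_lit 3]) (.node (nat_lit 34) (.leaf (nat_lit 33) (nat_lit 2) [nat_lit 3, nat_lit 3, nat_lit 3, nat_lit 1, nat_lit 2, nat_lit 0, nat_lit 2, nat_lit 0, nat_lit 2, nat_lit 2, nat_lit 0, nat_lit 2, nat_lit 2, nat_lit 2, nat_lit 0, nat_lit 2, nat_lit 1, nat_lit 3, nat_lit 1, nat_lit 3, nat_lit 1, nat_lit 2, nat_lit 2, nat_lit 1, nat_lit 3, nat_lit 3, nat_lit 3, nat_lit 3]) (.leaf (nat_lit 34) (nat_lit 2) [nat_lit 3, nat_lit 3, nat_lit 3, nat_lit 3, nat_lit 1, nat_lit 2, nat_lit 0, nat_lit 2, nat_lit 0, nat_lit 2, nat_lit 2, nat_lit 0, nat_lit 2, nat_lit 2, nat_lit 2, nat_lit 0, nat_lit 2, nat_lit 1, nat_lit 3, nat_lit 1, nat_lit 3, nat_lit 1, nat_lit 2, nat_lit 2, nat_lit 1, nat_lit 3, nat_lit 3, nat_lit 3]))))) (.node (nat_lit 41) (.node (nat_lit 38) (.node (nat_lit 36) (.leaf (nat_lit 35) (nat_lit 2) [nat_lit 3, nat_lit 3, nat_lit 3, nat_lit 3, nat_lit 3, nat_lit 1, nat_lit 2, nat_lit 0, nat_lit 2, nat_lit 0, nat_lit 2, nat_lit 2, nat_lit 0, nat_lit 2, nat_lit 2, nat_lit 2, nat_lit 0, nat_lit 2, nat_lit 1, nat_lit 3, nat_lit 1, nat_lit 3, nat_lit 1, nat_lit 2, nat_lit 2, nat_lit 1, nat_lit 3, nat_lit 3]) (.node (nat_lit 37) (.leaf (nat_lit 36) (nat_lit 2) [nat_lit 3, nat_lit 3, nat_lit 3, nat_lit 3, nat_lit 3, nat_lit 3, nat_lit 1, nat_lit 2, nat_lit 0, nat_lit 2, nat_lit 0, nat_lit 2, nat_lit 2, nat_lit 0, nat_lit 2, nat_lit 2, nat_lit 2, nat_lit 0, nat_lit 2, nat_lit 1, nat_lit 3, nat_lit 1, nat_lit 3, nat_lit 1, nat_lit 2, nat_lit 2, nat_lit 1, nat_lit 3]) (.leaf (nat_lit 37) (nat_lit 2) [nat_lit 3, nat_lit 3, nat_lit 3, nat_lit 3, nat_lit 3, nat_lit 3, nat_lit 3, nat_lit 1, nat_lit 2, nat_lit 0, nat_lit 2, nat_lit 0, nat_lit 2, nat_lit 2, nat_lit 0, nat_lit 2, nat_lit 2, nat_lit 2, nat_lit 0, nat_lit 2, nat_lit 1, nat_lit 3, nat_lit 1, nat_lit 3, nat_lit 1, nat_lit 2, nat_lit 2, nat_lit 1]))) (.node (nat_lit 39) (.leaf (nat_lit 38) (nat_lit 0) [nat_lit 3, nat_lit 3, nat_lit 3, nat_lit 3, nat_lit 3, nat_lit 3, nat_lit 3, nat_lit 3, nat_lit 1, nat_lit 2, nat_lit 0, nat_lit 2, nat_lit 0, nat_lit 2, nat_lit 2, nat_lit 0, nat_lit 2, nat_lit 2, nat_lit 2, nat_lit 0, nat_lit 2, nat_lit 1, nat_lit 3, nat_lit 1, nat_lit 3, nat_lit 1, nat_lit 2, nat_lit 2]) (.node (nat_lit 40) (.leaf (nat_lit 39) (nat_lit 3) [nat_lit 1, nat_lit 3, nat_lit 3, nat_lit 3, nat_lit 3, nat_lit 3, nat_lit 3, nat_lit 3, nat_lit 3, nat_lit 1, nat_lit 2, nat_lit 0, nat_lit 2, nat_lit 0, nat_lit 2, nat_lit 2, nat_lit 0, nat_lit 2, nat_lit 2, nat_lit 2, nat_lit 0, nat_lit 2, nat_lit 1, nat_lit 3, nat_lit 1, nat_lit 3, nat_lit 1, nat_lit 2]) (.leaf (nat_lit 40) (nat_lit 3) [nat_lit 2, nat_lit 1, nat_lit 3, nat_lit 3, nat_lit 3, nat_lit 3, nat_lit 3, nat_lit 3, nat_lit 3, nat_lit 3, nat_lit 1, nat_lit 2, nat_lit 0, nat_lit 2, nat_lit 0, nat_lit 2, nat_lit 2, nat_lit 0, nat_lit 2, nat_lit 2, nat_lit 2, nat_lit 0, nat_lit 2, nat_lit 1, nat_lit 3, nat_lit 1, nat_lit 3, nat_lit 1])))) (.node (nat_lit 44) (.node (nat_lit 42) (.leaf (nat_lit 41) (nat_lit 0) [nat_lit 2, nat_lit 2, nat_lit 1, nat_lit 3, nat_lit 3, nat_lit 3, nat_lit 3, nat_lit 3, nat_lit 3, nat_lit 3, nat_lit 3, nat_lit 1, nat_lit 2, nat_lit 0, nat_lit 2, nat_lit 0, nat_lit 2, nat_lit 2, nat_lit 0, nat_lit 2, nat_lit 2, nat_lit 2, nat_lit 0, nat_lit 2, nat_lit 1, nat_lit 3, nat_lit 1, nat_lit 3]) (.node (nat_lit 43) (.leaf (nat_lit 42) (nat_lit 2) [nat_lit 1, nat_lit 2, nat_lit 2, nat_lit 1, nat_lit 3, nat_lit 3, nat_lit 3, nat_lit 3, nat_lit 3, nat_lit 3, nat_lit 3, nat_lit 3, nat_lit 1, nat_lit 2, nat_lit 0, nat_lit 2, nat_lit 0, nat_lit 2, nat_lit 2, nat_lit 0, nat_lit 2, nat_lit 2, nat_lit 2, nat_lit 0, nat_lit 2, nat_lit 1, nat_lit 3, nat_lit 1]) (.leaf (nat_lit 43) (nat_lit 0) [nat_lit 3, nat_lit 1, nat_lit 2, nat_lit 2, nat_lit 1, nat_lit 3, nat_lit 3, nat_lit 3, nat_lit 3, nat_lit 3, nat_lit 3, nat_lit 3, nat_lit 3, nat_lit 1, nat_lit 2, nat_lit 0, nat_lit 2, nat_lit 0, nat_lit 2, nat_lit 2, nat_lit 0, nat_lit 2, nat_lit 2, nat_lit 2, nat_lit 0, nat_lit 2, nat_lit 1, nat_lit 3]))) (.node (nat_lit 45) (.leaf (nat_lit 44) (nat_lit 2) [nat_lit 1, nat_lit 3, nat_lit 1, nat_lit 2, nat_lit 2, nat_lit 1, nat_lit 3, nat_lit 3, nat_lit 3, nat_lit 3, nat_lit 3, nat_lit 3, nat_lit 3, nat_lit 3, nat_lit 1, nat_lit 2, nat_lit 0, nat_lit 2, nat_lit 0, nat_lit 2, nat_lit 2, nat_lit 0, nat_lit 2, nat_lit 2, nat_lit 2, nat_lit 0, nat_lit 2, nat_lit 1]) (.node (nat_lit 46) (.leaf (nat_lit 45) (nat_lit 0) [nat_lit 3, nat_lit 1, nat_lit 3, nat_lit 1, nat_lit 2, nat_lit 2, nat_lit 1, nat_lit 3, nat_lit 3, nat_lit 3, nat_lit 3, nat_lit 3, nat_lit 3, nat_lit 3, nat_lit 3, nat_lit 1, nat_lit 2, nat_lit 0, nat_lit 2, nat_lit 0, nat_lit 2, nat_lit 2, nat_lit 0, nat_lit 2, nat_lit 2, nat_lit 2, nat_lit 0, nat_lit 2]) (.leaf (nat_lit 46) (nat_lit 3) [nat_lit 1, nat_lit 3, nat_lit 1, nat_lit 3, nat_lit 1, nat_lit 2, nat_lit 2, nat_lit 1, nat_lit 3, nat_lit 3, nat_lit 3, nat_lit 3, nat_lit 3, nat_lit 3, nat_lit 3, nat_lit 3, nat_lit 1, nat_lit 2, nat_lit 0, nat_lit 2, nat_lit 0, nat_lit 2, nat_lit 2, nat_lit 0, nat_lit 2, nat_lit 2, nat_lit 2, nat_lit 0]))))))) (.node (nat_lit 71) (.node (nat_lit 59) (.node (nat_lit 53) (.node (nat_lit 50) (.node (nat_lit 48) (.leaf (nat_lit 47) (nat_lit 1) [nat_lit 2, nat_lit 1, nat_lit 3, nat_lit 1, nat_lit 3, nat_lit 1, nat_lit 2, nat_lit 2, nat_lit 1, nat_lit 3, nat_lit 3, nat_lit 3, nat_lit 3, nat_lit 3, nat_lit 3, nat_lit 3, nat_lit 3, nat_lit 1, nat_lit 2, nat_lit 0, nat_lit 2, nat_lit 0, nat_lit 2, nat_lit 2, nat_lit 0, nat_lit 2, nat_lit 2, nat_lit 2]) (.node (nat_lit 49) (.leaf (nat_lit 48) (nat_lit 3) [nat_lit 0, nat_lit 2, nat_lit 1, nat_lit 3, nat_lit 1, nat_lit 3, nat_lit 1, nat_lit 2, nat_lit 2, nat_lit 1, nat_lit 3, nat_lit 3, nat_lit 3, nat_lit 3, nat_lit 3, nat_lit 3, nat_lit 3, nat_lit 3, nat_lit 1, nat_lit 2, nat_lit 0, nat_lit 2, nat_lit 0, nat_lit 2, nat_lit 2, nat_lit 0, nat_lit 2, nat_lit 2]) (.leaf (nat_lit 49) (nat_lit 3) [nat_lit 2, nat_lit 0, nat_lit 2, nat_lit 1, nat_lit 3, nat_lit 1, nat_lit 3, nat_lit 1, nat_lit 2, nat_lit 2, nat_lit 1, nat_lit 3, nat_lit 3, nat_lit 3, nat_lit 3, nat_lit 3, nat_lit 3, nat_lit 3, nat_lit 3, nat_lit 1, nat_lit 2, nat_lit 0, nat_lit 2, nat_lit 0, nat_lit 2, nat_lit 2, nat_lit 0, nat_lit 2]))) (.node (nat_lit 51) (.leaf (nat_lit 50) (nat_lit 3) [nat_lit 2, nat_lit 2, nat_lit 0, nat_lit 2, nat_lit 1, nat_lit 3, nat_lit 1, nat_lit 3, nat_lit 1, nat_lit 2, nat_lit 2, nat_lit 1, nat_lit 3, nat_lit 3, nat_lit 3, nat_lit 3, nat_lit 3, nat_lit 3, nat_lit 3, nat_lit 3, nat_lit 1, nat_lit 2, nat_lit 0, nat_lit 2, nat_lit 0, nat_lit 2, nat_lit 2, nat_lit 0]) (.node (nat_lit 52) (.leaf (nat_lit 51) (nat_lit 1) [nat_lit 2, nat_lit 2, nat_lit 2, nat_lit 0, nat_lit 2, nat_lit 1, nat_lit 3, nat_lit 1, nat_lit 3, nat_lit 1, nat_lit 2, nat_lit 2, nat_lit 1, nat_lit 3, nat_lit 3, nat_lit 3, nat_lit 3, nat_lit 3, nat_lit 3, nat_lit 3, nat_lit 3, nat_lit 1, nat_lit 2, nat_lit 0, nat_lit 2, nat_lit 0, nat_lit 2, nat_lit 2]) (.leaf (nat_lit 52) (nat_lit 3) [nat_lit 0, nat_lit 2, nat_lit 2, nat_lit 2, nat_lit 0, nat_lit 2, nat_lit 1, nat_lit 3, nat_lit 1, nat_lit 3, nat_lit 1, nat_lit 2, nat_lit 2, nat_lit 1, nat_lit 3, nat_lit 3, nat_lit 3, nat_lit 3, nat_lit 3, nat_lit 3, nat_lit 3, nat_lit 3, nat_lit 1, nat_lit 2, nat_lit 0, nat_lit 2, nat_lit 0, nat_lit 2])))) (.node (nat_lit 56) (.node (nat_lit 54) (.leaf (nat_lit 53) (nat_lit 3) [nat_lit 2, nat_lit 0, nat_lit 2, nat_lit 2, nat_lit 2, nat_lit 0, nat_lit 2, nat_lit 1, nat_lit 3, nat_lit 1, nat_lit 3, nat_lit 1, nat_lit 2, nat_lit 2, nat_lit 1, nat_lit 3, nat_lit 3, nat_lit 3, nat_lit 3, nat_lit 3, nat_lit 3, nat_lit 3, nat_lit 3, nat_lit 1, nat_lit 2, nat_lit 0, nat_lit 2, nat_lit 0]) (.node (nat_lit 55) (.leaf (nat_lit 54) (nat_lit 1) [nat_lit 2, nat_lit 2, nat_lit 0, nat_lit 2, nat_lit 2, nat_lit 2, nat_lit 0, nat_lit 2, nat_lit 1, nat_lit 3, nat_lit 1, nat_lit 3, nat_lit 1, nat_lit 2, nat_lit 2, nat_lit 1, nat_lit 3, nat_lit 3, nat_lit 3, nat_lit 3, nat_lit 3, nat_lit 3, nat_lit 3, nat_lit 3, nat_lit 1, nat_lit 2, nat_lit 0, nat_lit 2]) (.leaf (nat_lit 55) (nat_lit 3) [nat_lit 0, nat_lit 2, nat_lit 2, nat_lit 0, nat_lit 2, nat_lit 2, nat_lit 2, nat_lit 0, nat_lit 2, nat_lit 1, nat_lit 3, nat_lit 1, nat_lit 3, nat_lit 1, nat_lit 2, nat_lit 2, nat_lit 1, nat_lit 3, nat_lit 3, nat_lit 3, nat_lit 3, nat_lit 3, nat_lit 3, nat_lit 3, nat_lit 3, nat_lit 1, nat_lit 2, nat_lit 0]))) (.node (nat_lit 57) (.leaf (nat_lit 56) (nat_lit 1) [nat_lit 2, nat_lit 0, nat_lit 2, nat_lit 2, nat_lit 0, nat_lit 2, nat_lit 2, nat_lit 2, nat_lit 0, nat_lit 2, nat_lit 1, nat_lit 3, nat_lit 1, nat_lit 3, nat_lit 1, nat_lit 2, nat_lit 2, nat_lit 1, nat_lit 3, nat_lit 3, nat_lit 3, nat_lit 3, nat_lit 3, nat_lit 3, nat_lit 3, nat_lit 3, nat_lit 1, nat_lit 2]) (.node (nat_lit 58) (.leaf (nat_lit 57) (nat_lit 3) [nat_lit 0, nat_lit 2, nat_lit 0, nat_lit 2, nat_lit 2, nat_lit 0, nat_lit 2, nat_lit 2, nat_lit 2, nat_lit 0, nat_lit 2, nat_lit 1, nat_lit 3, nat_lit 1, nat_lit 3, nat_lit 1, nat_lit 2, nat_lit 2, nat_lit 1, nat_lit 3, nat_lit 3, nat_lit 3, nat_lit 3, nat_lit 3, nat_lit 3, nat_lit 3, nat_lit 3, nat_lit 1]) (.leaf (nat_lit 58) (nat_lit 0) [nat_lit 2, nat_lit 0, nat_lit 2, nat_lit 0, nat_lit 2, nat_lit 0, nat_lit 2, nat_lit 2, nat_lit 2, nat_lit 0, nat_lit 3, nat_lit 3, nat_lit 0, nat_lit 2, nat_lit 1, nat_lit 2, nat_lit 1, nat_lit 3, nat_lit 1, nat_lit 3, nat_lit 3, nat_lit 3, nat_lit 1, nat_lit 3]))))) (.node (nat_lit 65) (.node (nat_lit 62) (.node (nat_lit 60) (.leaf (nat_lit 59) (nat_lit 2) [nat_lit 1, nat_lit 2, nat_lit 0, nat_lit 2, nat_lit 0, nat_lit 2, nat_lit 0, nat_lit 2, nat_lit 2, nat_lit 2, nat_lit 0, nat_lit 3, nat_lit 3, nat_lit 0, nat_lit 2, nat_lit 1, nat_lit 2, nat_lit 1, nat_lit 3, nat_lit 1, nat_lit 3, nat_lit 3, nat_lit 3, nat_lit 1]) (.node (nat_lit 61) (.leaf (nat_lit 60) (nat_lit 0) [nat_lit 3, nat_lit 1, nat_lit 2, nat_lit 0, nat_lit 2, nat_lit 0, nat_lit 2, nat_lit 0, nat_lit 2, nat_lit 2, nat_lit 2, nat_lit 0, nat_lit 3, nat_lit 3, nat_lit 0, nat_lit 2, nat_lit 1, nat_lit 2, nat_lit 1, nat_lit 3, nat_lit 1, nat_lit 3, nat_lit 3, nat_lit 3]) (.leaf (nat_lit 61) (nat_lit 2) [nat_lit 1, nat_lit 3, nat_lit 1, nat_lit 2, nat_lit 0, nat_lit 2, nat_lit 0, nat_lit 2, nat_lit 0, nat_lit 2, nat_lit 2, nat_lit 2, nat_lit 0, nat_lit 3, nat_lit 3, nat_lit 0, nat_lit 2, nat_lit 1, nat_lit 2, nat_lit 1, nat_lit 3, nat_lit 1, nat_lit 3, nat_lit 3]))) (.node (nat_lit 63) (.leaf (nat_lit 62) (nat_lit 2) [nat_lit 3, nat_lit 1, nat_lit 3, nat_lit 1, nat_lit 2, nat_lit 0, nat_lit 2, nat_lit 0, nat_lit 2, nat_lit 0, nat_lit 2, nat_lit 2, nat_lit 2, nat_lit 0, nat_lit 3, nat_lit 3, nat_lit 0, nat_lit 2, nat_lit 1, nat_lit 2, nat_lit 1, nat_lit 3, nat_lit 1, nat_lit 3]) (.node (nat_lit 64) (.leaf (nat_lit 63) (nat_lit 2) [nat_lit 3, nat_lit 3, nat_lit 1, nat_lit 3, nat_lit 1, nat_lit 2, nat_lit 0, nat_lit 2, nat_lit 0, nat_lit 2, nat_lit 0, nat_lit 2, nat_lit 2, nat_lit 2, nat_lit 0, nat_lit 3, nat_lit 3, nat_lit 0, nat_lit 2, nat_lit 1, nat_lit 2, nat_lit 1, nat_lit 3, nat_lit 1]) (.leaf (nat_lit 64) (nat_lit 0) [nat_lit 3, nat_lit 3, nat_lit 3, nat_lit 1, nat_lit 3, nat_lit 1, nat_lit 2, nat_lit 0, nat_lit 2, nat_lit 0, nat_lit 2, nat_lit 0, nat_lit 2, nat_lit 2, nat_lit 2, nat_lit 0, nat_lit 3, nat_lit 3, nat_lit 0, nat_lit 2, nat_lit 1, nat_lit 2, nat_lit 1, nat_lit 3])))) (.node (nat_lit 68) (.node (nat_lit 66) (.leaf (nat_lit 65) (nat_lit 2) [nat_lit 1, nat_lit 3, nat_lit 3, nat_lit 3, nat_lit 1, nat_lit 3, nat_lit 1, nat_lit 2, nat_lit 0, nat_lit 2, nat_lit 0, nat_lit 2, nat_lit 0, nat_lit 2, nat_lit 2, nat_lit 2, nat_lit 0, nat_lit 3, nat_lit 3, nat_lit 0, nat_lit 2, nat_lit 1, nat_lit 2, nat_lit 1]) (.node (nat_lit 67) (.leaf (nat_lit 66) (nat_lit 0) [nat_lit 3, nat_lit 1, nat_lit 3, nat_lit 3, nat_lit 3, nat_lit 1, nat_lit 3, nat_lit 1, nat_lit 2, nat_lit 0, nat_lit 2, nat_lit 0, nat_lit 2, nat_lit 0, nat_lit 2, nat_lit 2, nat_lit 2, nat_lit 0, nat_lit 3, nat_lit 3, nat_lit 0, nat_lit 2, nat_lit 1, nat_lit 2]) (.leaf (nat_lit 67) (nat_lit 3) [nat_lit 1, nat_lit 3, nat_lit 1, nat_lit 3, nat_lit 3, nat_lit 3, nat_lit 1, nat_lit 3, nat_lit 1, nat_lit 2, nat_lit 0, nat_lit 2, nat_lit 0, nat_lit 2, nat_lit 0, nat_lit 2, nat_lit 2, nat_lit 2, nat_lit 0, nat_lit 3, nat_lit 3, nat_lit 0, nat_lit 2, nat_lit 1]))) (.node (nat_lit 69) (.leaf (nat_lit 68) (nat_lit 0) [nat_lit 2, nat_lit 1, nat_lit 3, nat_lit 1, nat_lit 3, nat_lit 3, nat_lit 3, nat_lit 1, nat_lit 3, nat_lit 1, nat_lit 2, nat_lit 0, nat_lit 2, nat_lit 0, nat_lit 2, nat_lit 0, nat_lit 2, nat_lit 2, nat_lit 2, nat_lit 0, nat_lit 3, nat_lit 3, nat_lit 0, nat_lit 2]) (.node (nat_lit 70) (.leaf (nat_lit 69) (nat_lit 3) [nat_lit 1, nat_lit 2, nat_lit 1, nat_lit 3, nat_lit 1, nat_lit 3, nat_lit 3, nat_lit 3, nat_lit 1, nat_lit 3, nat_lit 1, nat_lit 2, nat_lit 0, nat_lit 2, nat_lit 0, nat_lit 2, nat_lit 0, nat_lit 2, nat_lit 2, nat_lit 2, nat_lit 0, nat_lit 3, nat_lit 3, nat_lit 0]) (.leaf (nat_lit 70) (nat_lit 1) [nat_lit 2, nat_lit 1, nat_lit 2, nat_lit 1, nat_lit 3, nat_lit 1, nat_lit 3, nat_lit 3, nat_lit 3, nat_lit 1, nat_lit 3, nat_lit 1, nat_lit 2, nat_lit 0, nat_lit 2, nat_lit 0, nat_lit 2, nat_lit 0, nat_lit 2, nat_lit 2, nat_lit 2, nat_lit 0, nat_lit 3, nat_lit 3])))))) (.node (nat_lit 83) (.node (nat_lit 77) (.node (nat_lit 74) (.node (nat_lit 72) (.leaf (nat_lit 71) (nat_lit 2) [nat_lit 0, nat_lit 2, nat_lit 1, nat_lit 2, nat_lit 1, nat_lit 3, nat_lit 1, nat_lit 3, nat_lit 3, nat_lit 3, nat_lit 1, nat_lit 3, nat_lit 1, nat_lit 2, nat_lit 0, nat_lit 2, nat_lit 0, nat_lit 2, nat_lit 0, nat_lit 2, nat_lit 2, nat_lit 2, nat_lit 0, nat_lit 3]) (.node (nat_lit 73) (.leaf (nat_lit 72) (nat_lit 2) [nat_lit 3, nat_lit 0, nat_lit 2, nat_lit 1, nat_lit 2, nat_lit 1, nat_lit 3, nat_lit 1, nat_lit 3, nat_lit 3, nat_lit 3, nat_lit 1, nat_lit 3, nat_lit 1, nat_lit 2, nat_lit 0, nat_lit 2, nat_lit 0, nat_lit 2, nat_lit 0, nat_lit 2, nat_lit 2, nat_lit 2, nat_lit 0]) (.leaf (nat_lit 73) (nat_lit 1) [nat_lit 3, nat_lit 3, nat_lit 0, nat_lit 2, nat_lit 1, nat_lit 2, nat_lit 1, nat_lit 3, nat_lit 1, nat_lit 3, nat_lit 3, nat_lit 3, nat_lit 1, nat_lit 3, nat_lit 1, nat_lit 2, nat_lit 0, nat_lit 2, nat_lit 0, nat_lit 2, nat_lit 0, nat_lit 2, nat_lit 2, nat_lit 2]))) (.node (nat_lit 75) (.leaf (nat_lit 74) (nat_lit 3) [nat_lit 0, nat_lit 3, nat_lit 3, nat_lit 0, nat_lit 2, nat_lit 1, nat_lit 2, nat_lit 1, nat_lit 3, nat_lit 1, nat_lit 3, nat_lit 3, nat_lit 3, nat_lit 1, nat_lit 3, nat_lit 1, nat_lit 2, nat_lit 0, nat_lit 2, nat_lit 0, nat_lit 2, nat_lit 0, nat_lit 2, nat_lit 2]) (.node (nat_lit 76) (.leaf (nat_lit 75) (nat_lit 3) [nat_lit 2, nat_lit 0, nat_lit 3, nat_lit 3, nat_lit 0, nat_lit 2, nat_lit 1, nat_lit 2, nat_lit 1, nat_lit 3, nat_lit 1, nat_lit 3, nat_lit 3, nat_lit 3, nat_lit 1, nat_lit 3, nat_lit 1, nat_lit 2, nat_lit 0, nat_lit 2, nat_lit 0, nat_lit 2, nat_lit 0, nat_lit 2]) (.leaf (nat_lit 76) (nat_lit 3) [nat_lit 2, nat_lit 2, nat_lit 0, nat_lit 3, nat_lit 3, nat_lit 0, nat_lit 2, nat_lit 1, nat_lit 2, nat_lit 1, nat_lit 3, nat_lit 1, nat_lit 3, nat_lit 3, nat_lit 3, nat_lit 1, nat_lit 3, nat_lit 1, nat_lit 2, nat_lit 0, nat_lit 2, nat_lit 0, nat_lit 2, nat_lit 0])))) (.node (nat_lit 80) (.node (nat_lit 78) (.leaf (nat_lit 77) (nat_lit 1) [nat_lit 2, nat_lit 2, nat_lit 2, nat_lit 0, nat_lit 3, nat_lit 3, nat_lit 0, nat_lit 2, nat_lit 1, nat_lit 2, nat_lit 1, nat_lit 3, nat_lit 1, nat_lit 3, nat_lit 3, nat_lit 3, nat_lit 1, nat_lit 3, nat_lit 1, nat_lit 2, nat_lit 0, nat_lit 2, nat_lit 0, nat_lit 2]) (.node (nat_lit 79) (.leaf (nat_lit 78) (nat_lit 3) [nat_lit 0, nat_lit 2, nat_lit 2, nat_lit 2, nat_lit 0, nat_lit 3, nat_lit 3, nat_lit 0, nat_lit 2, nat_lit 1, nat_lit 2, nat_lit 1, nat_lit 3, nat_lit 1, nat_lit 3, nat_lit 3, nat_lit 3, nat_lit 1, nat_lit 3, nat_lit 1, nat_lit 2, nat_lit 0, nat_lit 2, nat_lit 0]) (.leaf (nat_lit 79) (nat_lit 1) [nat_lit 2, nat_lit 0, nat_lit 2, nat_lit 2, nat_lit 2, nat_lit 0, nat_lit 3, nat_lit 3, nat_lit 0, nat_lit 2, nat_lit 1, nat_lit 2, nat_lit 1, nat_lit 3, nat_lit 1, nat_lit 3, nat_lit 3, nat_lit 3, nat_lit 1, nat_lit 3, nat_lit 1, nat_lit 2, nat_lit 0, nat_lit 2]))) (.node (nat_lit 81) (.leaf (nat_lit 80) (nat_lit 3) [nat_lit 0, nat_lit 2, nat_lit 0, nat_lit 2, nat_lit 2, nat_lit 2, nat_lit 0, nat_lit 3, nat_lit 3, nat_lit 0, nat_lit 2, nat_lit 1, nat_lit 2, nat_lit 1, nat_lit 3, nat_lit 1, nat_lit 3, nat_lit 3, nat_lit 3, nat_lit 1, nat_lit 3, nat_lit 1, nat_lit 2, nat_lit 0]) (.node (nat_lit 82) (.leaf (nat_lit 81) (nat_lit 1) [nat_lit 2, nat_lit 0, nat_lit 2, nat_lit 0, nat_lit 2, nat_lit 2, nat_lit 2, nat_lit 0, nat_lit 3, nat_lit 3, nat_lit 0, nat_lit 2, nat_lit 1, nat_lit 2, nat_lit 1, nat_lit 3, nat_lit 1, nat_lit 3, nat_lit 3, nat_lit 3, nat_lit 1, nat_lit 3, nat_lit 1, nat_lit 2]) (.leaf (nat_lit 82) (nat_lit 3) [nat_lit 0, nat_lit 2, nat_lit 0, nat_lit 2, nat_lit 0, nat_lit 2, nat_lit 2, nat_lit 2, nat_lit 0, nat_lit 3, nat_lit 3, nat_lit 0, nat_lit 2, nat_lit 1, nat_lit 2, nat_lit 1, nat_lit 3, nat_lit 1, nat_lit 3, nat_lit 3, nat_lit 3, nat_lit 1, nat_lit 3, nat_lit 1]))))) (.node (nat_lit 89) (.node (nat_lit 86) (.node (nat_lit 84) (.leaf (nat_lit 83) (nat_lit 2) [nat_lit 0, nat_lit 2, nat_lit 0, nat_lit 2, nat_lit 2, nat_lit 2, nat_lit 0, nat_lit 2, nat_lit 0, nat_lit 3, nat_lit 0, nat_lit 3, nat_lit 1, nat_lit 2, nat_lit 2, nat_lit 1, nat_lit 3, nat_lit 3, nat_lit 3, nat_lit 1, nat_lit 3, nat_lit 1, nat_lit 3, nat_lit 1]) (.node (nat_lit 85) (.leaf (nat_lit 84) (nat_lit 0) [nat_lit 3, nat_lit 0, nat_lit 2, nat_lit 0, nat_lit 2, nat_lit 2, nat_lit 2, nat_lit 0, nat_lit 2, nat_lit 0, nat_lit 3, nat_lit 0, nat_lit 3, nat_lit 1, nat_lit 2, nat_lit 2, nat_lit 1, nat_lit 3, nat_lit 3, nat_lit 3, nat_lit 1, nat_lit 3, nat_lit 1, nat_lit 3]) (.leaf (nat_lit 85) (nat_lit 2) [nat_lit 1, nat_lit 3, nat_lit 0, nat_lit 2, nat_lit 0, nat_lit 2, nat_lit 2, nat_lit 2, nat_lit 0, nat_lit 2, nat_lit 0, nat_lit 3, nat_lit 0, nat_lit 3, nat_lit 1, nat_lit 2, nat_lit 2, nat_lit 1, nat_lit 3, nat_lit 3, nat_lit 3, nat_lit 1, nat_lit 3, nat_lit 1]))) (.node (nat_lit 87) (.leaf (nat_lit 86) (nat_lit 0) [nat_lit 3, nat_lit 1, nat_lit 3, nat_lit 0, nat_lit 2, nat_lit 0, nat_lit 2, nat_lit 2, nat_lit 2, nat_lit 0, nat_lit 2, nat_lit 0, nat_lit 3, nat_lit 0, nat_lit 3, nat_lit 1, nat_lit 2, nat_lit 2, nat_lit 1, nat_lit 3, nat_lit 3, nat_lit 3, nat_lit 1, nat_lit 3]) (.node (nat_lit 88) (.leaf (nat_lit 87) (nat_lit 2) [nat_lit 1, nat_lit 3, nat_lit 1, nat_lit 3, nat_lit 0, nat_lit 2, nat_lit 0, nat_lit 2, nat_lit 2, nat_lit 2, nat_lit 0, nat_lit 2, nat_lit 0, nat_lit 3, nat_lit 0, nat_lit 3, nat_lit 1, nat_lit 2, nat_lit 2, nat_lit 1, nat_lit 3, nat_lit 3, nat_lit 3, nat_lit 1]) (.leaf (nat_lit 88) (nat_lit 0) [nat_lit 3, nat_lit 1, nat_lit 3, nat_lit 1, nat_lit 3, nat_lit 0, nat_lit 2, nat_lit 0, nat_lit 2, nat_lit 2, nat_lit 2, nat_lit 0, nat_lit 2, nat_lit 0, nat_lit 3, nat_lit 0, nat_lit 3, nat_lit 1, nat_lit 2, nat_lit 2, nat_lit 1, nat_lit 3, nat_lit 3, nat_lit 3])))) (.node (nat_lit 92) (.node (nat_lit 90) (.leaf (nat_lit 89) (nat_lit 2) [nat_lit 1, nat_lit 3, nat_lit 1, nat_lit 3, nat_lit 1, nat_lit 3, nat_lit 0, nat_lit 2, nat_lit 0, nat_lit 2, nat_lit 2, nat_lit 2, nat_lit 0, nat_lit 2, nat_lit 0, nat_lit 3, nat_lit 0, nat_lit 3, nat_lit 1, nat_lit 2, nat_lit 2, nat_lit 1, nat_lit 3, nat_lit 3]) (.node (nat_lit 91) (.leaf (nat_lit 90) (nat_lit 2) [nat_lit 3, nat_lit 1, nat_lit 3, nat_lit 1, nat_lit 3, nat_lit 1, nat_lit 3, nat_lit 0, nat_lit 2, nat_lit 0, nat_lit 2, nat_lit 2, nat_lit 2, nat_lit 0, nat_lit 2, nat_lit 0, nat_lit 3, nat_lit 0, nat_lit 3, nat_lit 1, nat_lit 2, nat_lit 2, nat_lit 1, nat_lit 3]) (.leaf (nat_lit 91) (nat_lit 2) [nat_lit 3, nat_lit 3, nat_lit 1, nat_lit 3, nat_lit 1, nat_lit 3, nat_lit 1, nat_lit 3, nat_lit 0, nat_lit 2, nat_lit 0, nat_lit 2, nat_lit 2, nat_lit 2, nat_lit 0, nat_lit 2, nat_lit 0, nat_lit 3, nat_lit 0, nat_lit 3, nat_lit 1, nat_lit 2, nat_lit 2, nat_lit 1]))) (.node (nat_lit 93) (.leaf (nat_lit 92) (nat_lit 0) [nat_lit 3, nat_lit 3, nat_lit 3, nat_lit 1, nat_lit 3, nat_lit 1, nat_lit 3, nat_lit 1, nat_lit 3, nat_lit 0, nat_lit 2, nat_lit 0, nat_lit 2, nat_lit 2, nat_lit 2, nat_lit 0, nat_lit 2, nat_lit 0, nat_lit 3, nat_lit 0, nat_lit 3, nat_lit 1, nat_lit 2, nat_lit 2]) (.node (nat_lit 94) (.leaf (nat_lit 93) (nat_lit 3) [nat_lit 1, nat_lit 3, nat_lit 3, nat_lit 3, nat_lit 1, nat_lit 3, nat_lit 1, nat_lit 3, nat_lit 1, nat_lit 3, nat_lit 0, nat_lit 2, nat_lit 0, nat_lit 2, nat_lit 2, nat_lit 2, nat_lit 0, nat_lit 2, nat_lit 0, nat_lit 3, nat_lit 0, nat_lit 3, nat_lit 1, nat_lit 2]) (.leaf (nat_lit 94) (nat_lit 3) [nat_lit 2, nat_lit 1, nat_lit 3, nat_lit 3, nat_lit 3, nat_lit 1, nat_lit 3, nat_lit 1, nat_lit 3, nat_lit 1, nat_lit 3, nat_lit 0, nat_lit 2, nat_lit 0, nat_lit 2, nat_lit 2, nat_lit 2, nat_lit 0, nat_lit 2, nat_lit 0, nat_lit 3, nat_lit 0, nat_lit 3, nat_lit 1])))))))) (.node (nat_lit 142) (.node (nat_lit 118) (.node (nat_lit 106) (.node (nat_lit 100) (.node (nat_lit 97) (.node (nat_lit 96) (.leaf (nat_lit 95) (nat_lit 0) [nat_lit 2, nat_lit 2, nat_lit 1, nat_lit 3, nat_lit 3, nat_lit 3, nat_lit 1, nat_lit 3, nat_lit 1, nat_lit 3, nat_lit 1, nat_lit 3, nat_lit 0, nat_lit 2, nat_lit 0, nat_lit 2, nat_lit 2, nat_lit 2, nat_lit 0, nat_lit 2, nat_lit 0, nat_lit 3, nat_lit 0, nat_lit 3]) (.leaf (nat_lit 96) (nat_lit 2) [nat_lit 1, nat_lit 2, nat_lit 2, nat_lit 1, nat_lit 3, nat_lit 3, nat_lit 3, nat_lit 1, nat_lit 3, nat_lit 1, nat_lit 3, nat_lit 1, nat_lit 3, nat_lit 0, nat_lit 2, nat_lit 0, nat_lit 2, nat_lit 2, nat_lit 2, nat_lit 0, nat_lit 2, nat_lit 0, nat_lit 3, nat_lit 0])) (.node (nat_lit 98) (.leaf (nat_lit 97) (nat_lit 1) [nat_lit 3, nat_lit 1, nat_lit 2, nat_lit 2, nat_lit 1, nat_lit 3, nat_lit 3, nat_lit 3, nat_lit 1, nat_lit 3, nat_lit 1, nat_lit 3, nat_lit 1, nat_lit 3, nat_lit 0, nat_lit 2, nat_lit 0, nat_lit 2, nat_lit 2, nat_lit 2, nat_lit 0, nat_lit 2, nat_lit 0, nat_lit 3]) (.node (nat_lit 99) (.leaf (nat_lit 98) (nat_lit 2) [nat_lit 0, nat_lit 3, nat_lit 1, nat_lit 2, nat_lit 2, nat_lit 1, nat_lit 3, nat_lit 3, nat_lit 3, nat_lit 1, nat_lit 3, nat_lit 1, nat_lit 3, nat_lit 1, nat_lit 3, nat_lit 0, nat_lit 2, nat_lit 0, nat_lit 2, nat_lit 2, nat_lit 2, nat_lit 0, nat_lit 2, nat_lit 0]) (.leaf (nat_lit 99) (nat_lit 1) [nat_lit 3, nat_lit 0, nat_lit 3, nat_lit 1, nat_lit 2, nat_lit 2, nat_lit 1, nat_lit 3, nat_lit 3, nat_lit 3, nat_lit 1, nat_lit 3, nat_lit 1, nat_lit 3, nat_lit 1, nat_lit 3, nat_lit 0, nat_lit 2, nat_lit 0, nat_lit 2, nat_lit 2, nat_lit 2, nat_lit 0, nat_lit 2])))) (.node (nat_lit 103) (.node (nat_lit 101) (.leaf (nat_lit 100) (nat_lit 3) [nat_lit 0, nat_lit 3, nat_lit 0, nat_lit 3, nat_lit 1, nat_lit 2, nat_lit 2, nat_lit 1, nat_lit 3, nat_lit 3, nat_lit 3, nat_lit 1, nat_lit 3, nat_lit 1, nat_lit 3, nat_lit 1, nat_lit 3, nat_lit 0, nat_lit 2, nat_lit 0, nat_lit 2, nat_lit 2, nat_lit 2, nat_lit 0]) (.node (nat_lit 102) (.leaf (nat_lit 101) (nat_lit 1) [nat_lit 2, nat_lit 0, nat_lit 3, nat_lit 0, nat_lit 3, nat_lit 1, nat_lit 2, nat_lit 2, nat_lit 1, nat_lit 3, nat_lit 3, nat_lit 3, nat_lit 1, nat_lit 3, nat_lit 1, nat_lit 3, nat_lit 1, nat_lit 3, nat_lit 0, nat_lit 2, nat_lit 0, nat_lit 2, nat_lit 2, nat_lit 2]) (.leaf (nat_lit 102) (nat_lit 3) [nat_lit 0, nat_lit 2, nat_lit 0, nat_lit 3, nat_lit 0, nat_lit 3, nat_lit 1, nat_lit 2, nat_lit 2, nat_lit 1, nat_lit 3, nat_lit 3, nat_lit 3, nat_lit 1, nat_lit 3, nat_lit 1, nat_lit 3, nat_lit 1, nat_lit 3, nat_lit 0, nat_lit 2, nat_lit 0, nat_lit 2, nat_lit 2]))) (.node (nat_lit 104) (.leaf (nat_lit 103) (nat_lit 3) [nat_lit 2, nat_lit 0, nat_lit 2, nat_lit 0, nat_lit 3, nat_lit 0, nat_lit 3, nat_lit 1, nat_lit 2, nat_lit 2, nat_lit 1, nat_lit 3, nat_lit 3, nat_lit 3, nat_lit 1, nat_lit 3, nat_lit 1, nat_lit 3, nat_lit 1, nat_lit 3, nat_lit 0, nat_lit 2, nat_lit 0, nat_lit 2]) (.node (nat_lit 105) (.leaf (nat_lit 104) (nat_lit 3) [nat_lit 2, nat_lit 2, nat_lit 0, nat_lit 2, nat_lit 0, nat_lit 3, nat_lit 0, nat_lit 3, nat_lit 1, nat_lit 2, nat_lit 2, nat_lit 1, nat_lit 3, nat_lit 3, nat_lit 3, nat_lit 1, nat_lit 3, nat_lit 1, nat_lit 3, nat_lit 1, nat_lit 3, nat_lit 0, nat_lit 2, nat_lit 0]) (.leaf (nat_lit 105) (nat_lit 1) [nat_lit 2, nat_lit 2, nat_lit 2, nat_lit 0, nat_lit 2, nat_lit 0, nat_lit 3, nat_lit 0, nat_lit 3, nat_lit 1, nat_lit 2, nat_lit 2, nat_lit 1, nat_lit 3, nat_lit 3, nat_lit 3, nat_lit 1, nat_lit 3, nat_lit 1, nat_lit 3, nat_lit 1, nat_lit 3, nat_lit 0, nat_lit 2]))))) (.node (nat_lit 112) (.node (nat_lit 109) (.node (nat_lit 107) (.leaf (nat_lit 106) (nat_lit 3) [nat_lit 0, nat_lit 2, nat_lit 2, nat_lit 2, nat_lit 0, nat_lit 2, nat_lit 0, nat_lit 3, nat_lit 0, nat_lit 3, nat_lit 1, nat_lit 2, nat_lit 2, nat_lit 1, nat_lit 3, nat_lit 3, nat_lit 3, nat_lit 1, nat_lit 3, nat_lit 1, nat_lit 3, nat_lit 1, nat_lit 3, nat_lit 0]) (.node (nat_lit 108) (.leaf (nat_lit 107) (nat_lit 1) [nat_lit 2, nat_lit 0, nat_lit 2, nat_lit 2, nat_lit 2, nat_lit 0, nat_lit 2, nat_lit 0, nat_lit 3, nat_lit 0, nat_lit 3, nat_lit 1, nat_lit 2, nat_lit 2, nat_lit 1, nat_lit 3, nat_lit 3, nat_lit 3, nat_lit 1, nat_lit 3, nat_lit 1, nat_lit 3, nat_lit 1, nat_lit 3]) (.leaf (nat_lit 108) (nat_lit 0) [nat_lit 4, nat_lit 2, nat_lit 0, nat_lit 3, nat_lit 0, nat_lit 3, nat_lit 4, nat_lit 2, nat_lit 2, nat_lit 0, nat_lit 3, nat_lit 3, nat_lit 3, nat_lit 5, nat_lit 2, nat_lit 2, nat_lit 1, nat_lit 2, nat_lit 1, nat_lit 3]))) (.node (nat_lit 110) (.leaf (nat_lit 109) (nat_lit 2) [nat_lit 1, nat_lit 4, nat_lit 2, nat_lit 0, nat_lit 3, nat_lit 0, nat_lit 3, nat_lit 4, nat_lit 2, nat_lit 2, nat_lit 0, nat_lit 3, nat_lit 3, nat_lit 3, nat_lit 5, nat_lit 2, nat_lit 2, nat_lit 1, nat_lit 2, nat_lit 1]) (.node (nat_lit 111) (.leaf (nat_lit 110) (nat_lit 0) [nat_lit 3, nat_lit 1, nat_lit 4, nat_lit 2, nat_lit 0, nat_lit 3, nat_lit 0, nat_lit 3, nat_lit 4, nat_lit 2, nat_lit 2, nat_lit 0, nat_lit 3, nat_lit 3, nat_lit 3, nat_lit 5, nat_lit 2, nat_lit 2, nat_lit 1, nat_lit 2]) (.leaf (nat_lit 111) (nat_lit 3) [nat_lit 1, nat_lit 3, nat_lit 1, nat_lit 4, nat_lit 2, nat_lit 0, nat_lit 3, nat_lit 0, nat_lit 3, nat_lit 4, nat_lit 2, nat_lit 2, nat_lit 0, nat_lit 3, nat_lit 3, nat_lit 3, nat_lit 5, nat_lit 2, nat_lit 2, nat_lit 1])))) (.node (nat_lit 115) (.node (nat_lit 113) (.leaf (nat_lit 112) (nat_lit 0) [nat_lit 2, nat_lit 1, nat_lit 3, nat_lit 1, nat_lit 4, nat_lit 2, nat_lit 0, nat_lit 3, nat_lit 0, nat_lit 3, nat_lit 4, nat_lit 2, nat_lit 2, nat_lit 0, nat_lit 3, nat_lit 3, nat_lit 3, nat_lit 5, nat_lit 2, nat_lit 2]) (.node (nat_lit 114) (.leaf (nat_lit 113) (nat_lit 3) [nat_lit 1, nat_lit 2, nat_lit 1, nat_lit 3, nat_lit 1, nat_lit 4, nat_lit 2, nat_lit 0, nat_lit 3, nat_lit 0, nat_lit 3, nat_lit 4, nat_lit 2, nat_lit 2, nat_lit 0, nat_lit 3, nat_lit 3, nat_lit 3, nat_lit 5, nat_lit 2]) (.leaf (nat_lit 114) (nat_lit 3) [nat_lit 2, nat_lit 1, nat_lit 2, nat_lit 1, nat_lit 3, nat_lit 1, nat_lit 4, nat_lit 2, nat_lit 0, nat_lit 3, nat_lit 0, nat_lit 3, nat_lit 4, nat_lit 2, nat_lit 2, nat_lit 0, nat_lit 3, nat_lit 3, nat_lit 3, nat_lit 5]))) (.node (nat_lit 116) (.leaf (nat_lit 115) (nat_lit 4) [nat_lit 2, nat_lit 2, nat_lit 1, nat_lit 2, nat_lit 1, nat_lit 3, nat_lit 1, nat_lit 4, nat_lit 2, nat_lit 0, nat_lit 3, nat_lit 0, nat_lit 3, nat_lit 4, nat_lit 2, nat_lit 2, nat_lit 0, nat_lit 3, nat_lit 3, nat_lit 3]) (.node (nat_lit 117) (.leaf (nat_lit 116) (nat_lit 2) [nat_lit 5, nat_lit 2, nat_lit 2, nat_lit 1, nat_lit 2, nat_lit 1, nat_lit 3, nat_lit 1, nat_lit 4, nat_lit 2, nat_lit 0, nat_lit 3, nat_lit 0, nat_lit 3, nat_lit 4, nat_lit 2, nat_lit 2, nat_lit 0, nat_lit 3, nat_lit 3]) (.leaf (nat_lit 117) (nat_lit 2) [nat_lit 3, nat_lit 5, nat_lit 2, nat_lit 2, nat_lit 1, nat_lit 2, nat_lit 1, nat_lit 3, nat_lit 1, nat_lit 4, nat_lit 2, nat_lit 0, nat_lit 3, nat_lit 0, nat_lit 3, nat_lit 4, nat_lit 2, nat_lit 2, nat_lit 0, nat_lit 3])))))) (.node (nat_lit 130) (.node (nat_lit 124) (.node (nat_lit 121) (.node (nat_lit 119) (.leaf (nat_lit 118) (nat_lit 2) [nat_lit 3, nat_lit 3, nat_lit 5, nat_lit 2, nat_lit 2, nat_lit 1, nat_lit 2, nat_lit 1, nat_lit 3, nat_lit 1, nat_lit 4, nat_lit 2, nat_lit 0, nat_lit 3, nat_lit 0, nat_lit 3, nat_lit 4, nat_lit 2, nat_lit 2, nat_lit 0]) (.node (nat_lit 120) (.leaf (nat_lit 119) (nat_lit 1) [nat_lit 3, nat_lit 3, nat_lit 3, nat_lit 5, nat_lit 2, nat_lit 2, nat_lit 1, nat_lit 2, nat_lit 1, nat_lit 3, nat_lit 1, nat_lit 4, nat_lit 2, nat_lit 0, nat_lit 3, nat_lit 0, nat_lit 3, nat_lit 4, nat_lit 2, nat_lit 2]) (.leaf (nat_lit 120) (nat_lit 3) [nat_lit 0, nat_lit 3, nat_lit 3, nat_lit 3, nat_lit 5, nat_lit 2, nat_lit 2, nat_lit 1, nat_lit 2, nat_lit 1, nat_lit 3, nat_lit 1, nat_lit 4, nat_lit 2, nat_lit 0, nat_lit 3, nat_lit 0, nat_lit 3, nat_lit 4, nat_lit 2]))) (.node (nat_lit 122) (.leaf (nat_lit 121) (nat_lit 3) [nat_lit 2, nat_lit 0, nat_lit 3, nat_lit 3, nat_lit 3, nat_lit 5, nat_lit 2, nat_lit 2, nat_lit 1, nat_lit 2, nat_lit 1, nat_lit 3, nat_lit 1, nat_lit 4, nat_lit 2, nat_lit 0, nat_lit 3, nat_lit 0, nat_lit 3, nat_lit 4]) (.node (nat_lit 123) (.leaf (nat_lit 122) (nat_lit 5) [nat_lit 2, nat_lit 2, nat_lit 0, nat_lit 3, nat_lit 3, nat_lit 3, nat_lit 5, nat_lit 2, nat_lit 2, nat_lit 1, nat_lit 2, nat_lit 1, nat_lit 3, nat_lit 1, nat_lit 4, nat_lit 2, nat_lit 0, nat_lit 3, nat_lit 0, nat_lit 3]) (.leaf (nat_lit 123) (nat_lit 2) [nat_lit 4, nat_lit 2, nat_lit 2, nat_lit 0, nat_lit 3, nat_lit 3, nat_lit 3, nat_lit 5, nat_lit 2, nat_lit 2, nat_lit 1, nat_lit 2, nat_lit 1, nat_lit 3, nat_lit 1, nat_lit 4, nat_lit 2, nat_lit 0, nat_lit 3, nat_lit 0])))) (.node (nat_lit 127) (.node (nat_lit 125) (.leaf (nat_lit 124) (nat_lit 1) [nat_lit 3, nat_lit 4, nat_lit 2, nat_lit 2, nat_lit 0, nat_lit 3, nat_lit 3, nat_lit 3, nat_lit 5, nat_lit 2, nat_lit 2, nat_lit 1, nat_lit 2, nat_lit 1, nat_lit 3, nat_lit 1, nat_lit 4, nat_lit 2, nat_lit 0, nat_lit 3]) (.node (nat_lit 126) (.leaf (nat_lit 125) (nat_lit 2) [nat_lit 0, nat_lit 3, nat_lit 4, nat_lit 2, nat_lit 2, nat_lit 0, nat_lit 3, nat_lit 3, nat_lit 3, nat_lit 5, nat_lit 2, nat_lit 2, nat_lit 1, nat_lit 2, nat_lit 1, nat_lit 3, nat_lit 1, nat_lit 4, nat_lit 2, nat_lit 0]) (.leaf (nat_lit 126) (nat_lit 1) [nat_lit 3, nat_lit 0, nat_lit 3, nat_lit 4, nat_lit 2, nat_lit 2, nat_lit 0, nat_lit 3, nat_lit 3, nat_lit 3, nat_lit 5, nat_lit 2, nat_lit 2, nat_lit 1, nat_lit 2, nat_lit 1, nat_lit 3, nat_lit 1, nat_lit 4, nat_lit 2]))) (.node (nat_lit 128) (.leaf (nat_lit 127) (nat_lit 3) [nat_lit 0, nat_lit 3, nat_lit 0, nat_lit 3, nat_lit 4, nat_lit 2, nat_lit 2, nat_lit 0, nat_lit 3, nat_lit 3, nat_lit 3, nat_lit 5, nat_lit 2, nat_lit 2, nat_lit 1, nat_lit 2, nat_lit 1, nat_lit 3, nat_lit 1, nat_lit 4]) (.node (nat_lit 129) (.leaf (nat_lit 128) (nat_lit 5) [nat_lit 2, nat_lit 0, nat_lit 3, nat_lit 0, nat_lit 3, nat_lit 4, nat_lit 2, nat_lit 2, nat_lit 0, nat_lit 3, nat_lit 3, nat_lit 3, nat_lit 5, nat_lit 2, nat_lit 2, nat_lit 1, nat_lit 2, nat_lit 1, nat_lit 3, nat_lit 1]) (.leaf (nat_lit 129) (nat_lit 4) [nat_lit 0, nat_lit 2, nat_lit 0, nat_lit 3, nat_lit 0, nat_lit 3, nat_lit 3, nat_lit 4, nat_lit 2, nat_lit 2, nat_lit 2, nat_lit 1, nat_lit 3, nat_lit 3, nat_lit 5, nat_lit 2, nat_lit 1, nat_lit 2, nat_lit 1, nat_lit 3]))))) (.node (nat_lit 136) (.node (nat_lit 133) (.node (nat_lit 131) (.leaf (nat_lit 130) (nat_lit 2) [nat_lit 5, nat_lit 0, nat_lit 2, nat_lit 0, nat_lit 3, nat_lit 0, nat_lit 3, nat_lit 3, nat_lit 4, nat_lit 2, nat_lit 2, nat_lit 2, nat_lit 1, nat_lit 3, nat_lit 3, nat_lit 5, nat_lit 2, nat_lit 1, nat_lit 2, nat_lit 1]) (.node (nat_lit 132) (.leaf (nat_lit 131) (nat_lit 0) [nat_lit 3, nat_lit 5, nat_lit 0, nat_lit 2, nat_lit 0, nat_lit 3, nat_lit 0, nat_lit 3, nat_lit 3, nat_lit 4, nat_lit 2, nat_lit 2, nat_lit 2, nat_lit 1, nat_lit 3, nat_lit 3, nat_lit 5, nat_lit 2, nat_lit 1, nat_lit 2]) (.leaf (nat_lit 132) (nat_lit 3) [nat_lit 1, nat_lit 3, nat_lit 5, nat_lit 0, nat_lit 2, nat_lit 0, nat_lit 3, nat_lit 0, nat_lit 3, nat_lit 3, nat_lit 4, nat_lit 2, nat_lit 2, nat_lit 2, nat_lit 1, nat_lit 3, nat_lit 3, nat_lit 5, nat_lit 2, nat_lit 1]))) (.node (nat_lit 134) (.leaf (nat_lit 133) (nat_lit 0) [nat_lit 2, nat_lit 1, nat_lit 3, nat_lit 5, nat_lit 0, nat_lit 2, nat_lit 0, nat_lit 3, nat_lit 0, nat_lit 3, nat_lit 3, nat_lit 4, nat_lit 2, nat_lit 2, nat_lit 2, nat_lit 1, nat_lit 3, nat_lit 3, nat_lit 5, nat_lit 2]) (.node (nat_lit 135) (.leaf (nat_lit 134) (nat_lit 3) [nat_lit 1, nat_lit 2, nat_lit 1, nat_lit 3, nat_lit 5, nat_lit 0, nat_lit 2, nat_lit 0, nat_lit 3, nat_lit 0, nat_lit 3, nat_lit 3, nat_lit 4, nat_lit 2, nat_lit 2, nat_lit 2, nat_lit 1, nat_lit 3, nat_lit 3, nat_lit 5]) (.leaf (nat_lit 135) (nat_lit 4) [nat_lit 2, nat_lit 1, nat_lit 2, nat_lit 1, nat_lit 3, nat_lit 5, nat_lit 0, nat_lit 2, nat_lit 0, nat_lit 3, nat_lit 0, nat_lit 3, nat_lit 3, nat_lit 4, nat_lit 2, nat_lit 2, nat_lit 2, nat_lit 1, nat_lit 3, nat_lit 3])))) (.node (nat_lit 139) (.node (nat_lit 137) (.leaf (nat_lit 136) (nat_lit 2) [nat_lit 5, nat_lit 2, nat_lit 1, nat_lit 2, nat_lit 1, nat_lit 3, nat_lit 5, nat_lit 0, nat_lit 2, nat_lit 0, nat_lit 3, nat_lit 0, nat_lit 3, nat_lit 3, nat_lit 4, nat_lit 2, nat_lit 2, nat_lit 2, nat_lit 1, nat_lit 3]) (.node (nat_lit 138) (.leaf (nat_lit 137) (nat_lit 2) [nat_lit 3, nat_lit 5, nat_lit 2, nat_lit 1, nat_lit 2, nat_lit 1, nat_lit 3, nat_lit 5, nat_lit 0, nat_lit 2, nat_lit 0, nat_lit 3, nat_lit 0, nat_lit 3, nat_lit 3, nat_lit 4, nat_lit 2, nat_lit 2, nat_lit 2, nat_lit 1]) (.leaf (nat_lit 138) (nat_lit 0) [nat_lit 3, nat_lit 3, nat_lit 5, nat_lit 2, nat_lit 1, nat_lit 2, nat_lit 1, nat_lit 3, nat_lit 5, nat_lit 0, nat_lit 2, nat_lit 0, nat_lit 3, nat_lit 0, nat_lit 3, nat_lit 3, nat_lit 4, nat_lit 2, nat_lit 2, nat_lit 2]))) (.node (nat_lit 140) (.leaf (nat_lit 139) (nat_lit 3) [nat_lit 1, nat_lit 3, nat_lit 3, nat_lit 5, nat_lit 2, nat_lit 1, nat_lit 2, nat_lit 1, nat_lit 3, nat_lit 5, nat_lit 0, nat_lit 2, nat_lit 0, nat_lit 3, nat_lit 0, nat_lit 3, nat_lit 3, nat_lit 4, nat_lit 2, nat_lit 2]) (.node (nat_lit 141) (.leaf (nat_lit 140) (nat_lit 3) [nat_lit 2, nat_lit 1, nat_lit 3, nat_lit 3, nat_lit 5, nat_lit 2, nat_lit 1, nat_lit 2, nat_lit 1, nat_lit 3, nat_lit 5, nat_lit 0, nat_lit 2, nat_lit 0, nat_lit 3, nat_lit 0, nat_lit 3, nat_lit 3, nat_lit 4, nat_lit 2]) (.leaf (nat_lit 141) (nat_lit 3) [nat_lit 2, nat_lit 2, nat_lit 1, nat_lit 3, nat_lit 3, nat_lit 5, nat_lit 2, nat_lit 1, nat_lit 2, nat_lit 1, nat_lit 3, nat_lit 5, nat_lit 0, nat_lit 2, nat_lit 0, nat_lit 3, nat_lit 0, nat_lit 3, nat_lit 3, nat_lit 4]))))))) (.node (nat_lit 166) (.node (nat_lit 154) (.node (nat_lit 148) (.node (nat_lit 145) (.node (nat_lit 143) (.leaf (nat_lit 142) (nat_lit 5) [nat_lit 2, nat_lit 2, nat_lit 2, nat_lit 1, nat_lit 3, nat_lit 3, nat_lit 5, nat_lit 2, nat_lit 1, nat_lit 2, nat_lit 1, nat_lit 3, nat_lit 5, nat_lit 0, nat_lit 2, nat_lit 0, nat_lit 3, nat_lit 0, nat_lit 3, nat_lit 3]) (.node (nat_lit 144) (.leaf (nat_lit 143) (nat_lit 2) [nat_lit 4, nat_lit 2, nat_lit 2, nat_lit 2, nat_lit 1, nat_lit 3, nat_lit 3, nat_lit 5, nat_lit 2, nat_lit 1, nat_lit 2, nat_lit 1, nat_lit 3, nat_lit 5, nat_lit 0, nat_lit 2, nat_lit 0, nat_lit 3, nat_lit 0, nat_lit 3]) (.leaf (nat_lit 144) (nat_lit 2) [nat_lit 3, nat_lit 4, nat_lit 2, nat_lit 2, nat_lit 2, nat_lit 1, nat_lit 3, nat_lit 3, nat_lit 5, nat_lit 2, nat_lit 1, nat_lit 2, nat_lit 1, nat_lit 3, nat_lit 5, nat_lit 0, nat_lit 2, nat_lit 0, nat_lit 3, nat_lit 0]))) (.node (nat_lit 146) (.leaf (nat_lit 145) (nat_lit 1) [nat_lit 3, nat_lit 3, nat_lit 4, nat_lit 2, nat_lit 2, nat_lit 2, nat_lit 1, nat_lit 3, nat_lit 3, nat_lit 5, nat_lit 2, nat_lit 1, nat_lit 2, nat_lit 1, nat_lit 3, nat_lit 5, nat_lit 0, nat_lit 2, nat_lit 0, nat_lit 3]) (.node (nat_lit 147) (.leaf (nat_lit 146) (nat_lit 2) [nat_lit 0, nat_lit 3, nat_lit 3, nat_lit 4, nat_lit 2, nat_lit 2, nat_lit 2, nat_lit 1, nat_lit 3, nat_lit 3, nat_lit 5, nat_lit 2, nat_lit 1, nat_lit 2, nat_lit 1, nat_lit 3, nat_lit 5, nat_lit 0, nat_lit 2, nat_lit 0]) (.leaf (nat_lit 147) (nat_lit 1) [nat_lit 3, nat_lit 0, nat_lit 3, nat_lit 3, nat_lit 4, nat_lit 2, nat_lit 2, nat_lit 2, nat_lit 1, nat_lit 3, nat_lit 3, nat_lit 5, nat_lit 2, nat_lit 1, nat_lit 2, nat_lit 1, nat_lit 3, nat_lit 5, nat_lit 0, nat_lit 2])))) (.node (nat_lit 151) (.node (nat_lit 149) (.leaf (nat_lit 148) (nat_lit 3) [nat_lit 0, nat_lit 3, nat_lit 0, nat_lit 3, nat_lit 3, nat_lit 4, nat_lit 2, nat_lit 2, nat_lit 2, nat_lit 1, nat_lit 3, nat_lit 3, nat_lit 5, nat_lit 2, nat_lit 1, nat_lit 2, nat_lit 1, nat_lit 3, nat_lit 5, nat_lit 0]) (.node (nat_lit 150) (.leaf (nat_lit 149) (nat_lit 1) [nat_lit 2, nat_lit 0, nat_lit 3, nat_lit 0, nat_lit 3, nat_lit 3, nat_lit 4, nat_lit 2, nat_lit 2, nat_lit 2, nat_lit 1, nat_lit 3, nat_lit 3, nat_lit 5, nat_lit 2, nat_lit 1, nat_lit 2, nat_lit 1, nat_lit 3, nat_lit 5]) (.leaf (nat_lit 150) (nat_lit 0) [nat_lit 1]))) (.node (nat_lit 152) (.leaf (nat_lit 150) (nat_lit 0) [nat_lit 1]) (.node (nat_lit 153) (.leaf (nat_lit 152) (nat_lit 1) [nat_lit 0]) (.leaf (nat_lit 152) (nat_lit 1) [nat_lit 0]))))) (.node (nat_lit 160) (.node (nat_lit 157) (.node (nat_lit 155) (.leaf (nat_lit 154) (nat_lit 2) [nat_lit 3, nat_lit 3, nat_lit 3, nat_lit 3, nat_lit 3]) (.node (nat_lit 156) (.leaf (nat_lit 154) (nat_lit 2) [nat_lit 3, nat_lit 3, nat_lit 3, nat_lit 3, nat_lit 3]) (.leaf (nat_lit 154) (nat_lit 2) [nat_lit 3, nat_lit 3, nat_lit 3, nat_lit 3, nat_lit 3]))) (.node (nat_lit 158) (.leaf (nat_lit 154) (nat_lit 2) [nat_lit 3, nat_lit 3, nat_lit 3, nat_lit 3, nat_lit 3]) (.node (nat_lit 159) (.leaf (nat_lit 154) (nat_lit 2) [nat_lit 3, nat_lit 3, nat_lit 3, nat_lit 3, nat_lit 3]) (.leaf (nat_lit 154) (nat_lit 2) [nat_lit 3, nat_lit 3, nat_lit 3, nat_lit 3, nat_lit 3])))) (.node (nat_lit 163) (.node (nat_lit 161) (.leaf (nat_lit 160) (nat_lit 3) [nat_lit 2, nat_lit 2, nat_lit 2, nat_lit 2, nat_lit 2]) (.node (nat_lit 162) (.leaf (nat_lit 160) (nat_lit 3) [nat_lit 2, nat_lit 2, nat_lit 2, nat_lit 2, nat_lit 2]) (.leaf (nat_lit 160) (nat_lit 3) [nat_lit 2, nat_lit 2, nat_lit 2, nat_lit 2, nat_lit 2]))) (.node (nat_lit 164) (.leaf (nat_lit 160) (nat_lit 3) [nat_lit 2, nat_lit 2, nat_lit 2, nat_lit 2, nat_lit 2]) (.node (nat_lit 165) (.leaf (nat_lit 160) (nat_lit 3) [nat_lit 2, nat_lit 2, nat_lit 2, nat_lit 2, nat_lit 2]) (.leaf (nat_lit 160) (nat_lit 3) [nat_lit 2, nat_lit 2, nat_lit 2, nat_lit 2, nat_lit 2])))))) (.node (nat_lit 178) (.node (nat_lit 172) (.node (nat_lit 169) (.node (nat_lit 167) (.leaf (nat_lit 166) (nat_lit 0) [nat_lit 2, nat_lit 0, nat_lit 3, nat_lit 0, nat_lit 2, nat_lit 0, nat_lit 3, nat_lit 1, nat_lit 2, nat_lit 1, nat_lit 3]) (.node (nat_lit 168) (.leaf (nat_lit 167) (nat_lit 2) [nat_lit 1, nat_lit 2, nat_lit 0, nat_lit 3, nat_lit 0, nat_lit 2, nat_lit 0, nat_lit 3, nat_lit 1, nat_lit 2, nat_lit 1]) (.leaf (nat_lit 168) (nat_lit 0) [nat_lit 3, nat_lit 1, nat_lit 2, nat_lit 0, nat_lit 3, nat_lit 0, nat_lit 2, nat_lit 0, nat_lit 3, nat_lit 1, nat_lit 2]))) (.node (nat_lit 170) (.leaf (nat_lit 169) (nat_lit 3) [nat_lit 1, nat_lit 3, nat_lit 1, nat_lit 2, nat_lit 0, nat_lit 3, nat_lit 0, nat_lit 2, nat_lit 0, nat_lit 3, nat_lit 1]) (.node (nat_lit 171) (.leaf (nat_lit 170) (nat_lit 0) [nat_lit 2, nat_lit 1, nat_lit 3, nat_lit 1, nat_lit 2, nat_lit 0, nat_lit 3, nat_lit 0, nat_lit 2, nat_lit 0, nat_lit 3]) (.leaf (nat_lit 171) (nat_lit 2) [nat_lit 1, nat_lit 2, nat_lit 1, nat_lit 3, nat_lit 1, nat_lit 2, nat_lit 0, nat_lit 3, nat_lit 0, nat_lit 2, nat_lit 0])))) (.node (nat_lit 175) (.node (nat_lit 173) (.leaf (nat_lit 172) (nat_lit 1) [nat_lit 3, nat_lit 1, nat_lit 2, nat_lit 1, nat_lit 3, nat_lit 1, nat_lit 2, nat_lit 0, nat_lit 3, nat_lit 0, nat_lit 2]) (.node (nat_lit 174) (.leaf (nat_lit 173) (nat_lit 3) [nat_lit 0, nat_lit 3, nat_lit 1, nat_lit 2, nat_lit 1, nat_lit 3, nat_lit 1, nat_lit 2, nat_lit 0, nat_lit 3, nat_lit 0]) (.leaf (nat_lit 174) (nat_lit 1) [nat_lit 2, nat_lit 0, nat_lit 3, nat_lit 1, nat_lit 2, nat_lit 1, nat_lit 3, nat_lit 1, nat_lit 2, nat_lit 0, nat_lit 3]))) (.node (nat_lit 176) (.leaf (nat_lit 175) (nat_lit 2) [nat_lit 0, nat_lit 2, nat_lit 0, nat_lit 3, nat_lit 1, nat_lit 2, nat_lit 1, nat_lit 3, nat_lit 1, nat_lit 2, nat_lit 0]) (.node (nat_lit 177) (.leaf (nat_lit 176) (nat_lit 1) [nat_lit 3, nat_lit 0, nat_lit 2, nat_lit 0, nat_lit 3, nat_lit 1, nat_lit 2, nat_lit 1, nat_lit 3, nat_lit 1, nat_lit 2]) (.leaf (nat_lit 177) (nat_lit 3) [nat_lit 0, nat_lit 3, nat_lit 0, nat_lit 2, nat_lit 0, nat_lit 3, nat_lit 1, nat_lit 2, nat_lit 1, nat_lit 3, nat_lit 1]))))) (.node (nat_lit 184) (.node (nat_lit 181) (.node (nat_lit 179) (.leaf (nat_lit 178) (nat_lit 2) [nat_lit 0, nat_lit 2, nat_lit 0, nat_lit 3, nat_lit 0, nat_lit 2, nat_lit 1, nat_lit 3, nat_lit 1, nat_lit 2, nat_lit 1]) (.node (nat_lit 180) (.leaf (nat_lit 179) (nat_lit 0) [nat_lit 3, nat_lit 0, nat_lit 2, nat_lit 0, nat_lit 3, nat_lit 0, nat_lit 2, nat_lit 1, nat_lit 3, nat_lit 1, nat_lit 2]) (.leaf (nat_lit 180) (nat_lit 3) [nat_lit 1, nat_lit 3, nat_lit 0, nat_lit 2, nat_lit 0, nat_lit 3, nat_lit 0, nat_lit 2, nat_lit 1, nat_lit 3, nat_lit 1]))) (.node (nat_lit 182) (.leaf (nat_lit 181) (nat_lit 0) [nat_lit 2, nat_lit 1, nat_lit 3, nat_lit 0, nat_lit 2, nat_lit 0, nat_lit 3, nat_lit 0, nat_lit 2, nat_lit 1, nat_lit 3]) (.node (nat_lit 183) (.leaf (nat_lit 182) (nat_lit 2) [nat_lit 1, nat_lit 2, nat_lit 1, nat_lit 3, nat_lit 0, nat_lit 2, nat_lit 0, nat_lit 3, nat_lit 0, nat_lit 2, nat_lit 1]) (.leaf (nat_lit 183) (nat_lit 0) [nat_lit 3, nat_lit 1, nat_lit 2, nat_lit 1, nat_lit 3, nat_lit 0, nat_lit 2, nat_lit 0, nat_lit 3, nat_lit 0, nat_lit 2])))) (.node (nat_lit 187) (.node (nat_lit 185) (.leaf (nat_lit 184) (nat_lit 3) [nat_lit 1, nat_lit 3, nat_lit 1, nat_lit 2, nat_lit 1, nat_lit 3, nat_lit 0, nat_lit 2, nat_lit 0, nat_lit 3, nat_lit 0]) (.node (nat_lit 186) (.leaf (nat_lit 185) (nat_lit 1) [nat_lit 2, nat_lit 1, nat_lit 3, nat_lit 1, nat_lit 2, nat_lit 1, nat_lit 3, nat_lit 0, nat_lit 2, nat_lit 0, nat_lit 3]) (.leaf (nat_lit 186) (nat_lit 2) [nat_lit 0, nat_lit 2, nat_lit 1, nat_lit 3, nat_lit 1, nat_lit 2, nat_lit 1, nat_lit 3, nat_lit 0, nat_lit 2, nat_lit 0]))) (.node (nat_lit 188) (.leaf (nat_lit 187) (nat_lit 1) [nat_lit 3, nat_lit 0, nat_lit 2, nat_lit 1, nat_lit 3, nat_lit 1, nat_lit 2, nat_lit 1, nat_lit 3, nat_lit 0, nat_lit 2]) (.node (nat_lit 189) (.leaf (nat_lit 188) (nat_lit 3) [nat_lit 0, nat_lit 3, nat_lit 0, nat_lit 2, nat_lit 1, nat_lit 3, nat_lit 1, nat_lit 2, nat_lit 1, nat_lit 3, nat_lit 0]) (.leaf (nat_lit 189) (nat_lit 1) [nat_lit 2, nat_lit 0, nat_lit 3, nat_lit 0, nat_lit 2, nat_lit 1, nat_lit 3, nat_lit 1, nat_lit 2, nat_lit 1, nat_lit 3]))))))))) (.node (nat_lit 285) (.node (nat_lit 237) (.node (nat_lit 213) (.node (nat_lit 201) (.node (nat_lit 195) (.node (nat_lit 192) (.node (nat_lit 191) (.leaf (nat_lit 190) (nat_lit 0) [nat_lit 2, nat_lit 0, nat_lit 3, nat_lit 0, nat_lit 2, nat_lit 1, nat_lit 3, nat_lit 1, nat_lit 2, nat_lit 1, nat_lit 3]) (.leaf (nat_lit 191) (nat_lit 2) [nat_lit 1, nat_lit 2, nat_lit 0, nat_lit 3, nat_lit 0, nat_lit 2, nat_lit 1, nat_lit 3, nat_lit 1, nat_lit 2, nat_lit 1])) (.node (nat_lit 193) (.leaf (nat_lit 192) (nat_lit 0) [nat_lit 3, nat_lit 1, nat_lit 2, nat_lit 0, nat_lit 3, nat_lit 0, nat_lit 2, nat_lit 1, nat_lit 3, nat_lit 1, nat_lit 2]) (.node (nat_lit 194) (.leaf (nat_lit 193) (nat_lit 3) [nat_lit 1, nat_lit 3, nat_lit 1, nat_lit 2, nat_lit 0, nat_lit 3, nat_lit 0, nat_lit 2, nat_lit 1, nat_lit 3, nat_lit 1]) (.leaf (nat_lit 194) (nat_lit 0) [nat_lit 2, nat_lit 1, nat_lit 3, nat_lit 1, nat_lit 2, nat_lit 0, nat_lit 3, nat_lit 0, nat_lit 2, nat_lit 1, nat_lit 3])))) (.node (nat_lit 198) (.node (nat_lit 196) (.leaf (nat_lit 195) (nat_lit 2) [nat_lit 1, nat_lit 2, nat_lit 1, nat_lit 3, nat_lit 1, nat_lit 2, nat_lit 0, nat_lit 3, nat_lit 0, nat_lit 2, nat_lit 1]) (.node (nat_lit 197) (.leaf (nat_lit 196) (nat_lit 0) [nat_lit 3, nat_lit 1, nat_lit 2, nat_lit 1, nat_lit 3, nat_lit 1, nat_lit 2, nat_lit 0, nat_lit 3, nat_lit 0, nat_lit 2]) (.leaf (nat_lit 197) (nat_lit 3) [nat_lit 1, nat_lit 3, nat_lit 1, nat_lit 2, nat_lit 1, nat_lit 3, nat_lit 1, nat_lit 2, nat_lit 0, nat_lit 3, nat_lit 0]))) (.node (nat_lit 199) (.leaf (nat_lit 198) (nat_lit 1) [nat_lit 2, nat_lit 1, nat_lit 3, nat_lit 1, nat_lit 2, nat_lit 1, nat_lit 3, nat_lit 1, nat_lit 2, nat_lit 0, nat_lit 3]) (.node (nat_lit 200) (.leaf (nat_lit 199) (nat_lit 2) [nat_lit 0, nat_lit 2, nat_lit 1, nat_lit 3, nat_lit 1, nat_lit 2, nat_lit 1, nat_lit 3, nat_lit 1, nat_lit 2, nat_lit 0]) (.leaf (nat_lit 200) (nat_lit 1) [nat_lit 3, nat_lit 0, nat_lit 2, nat_lit 1, nat_lit 3, nat_lit 1, nat_lit 2, nat_lit 1, nat_lit 3, nat_lit 1, nat_lit 2]))))) (.node (nat_lit 207) (.node (nat_lit 204) (.node (nat_lit 202) (.leaf (nat_lit 201) (nat_lit 3) [nat_lit 0, nat_lit 3, nat_lit 0, nat_lit 2, nat_lit 1, nat_lit 3, nat_lit 1, nat_lit 2, nat_lit 1, nat_lit 3, nat_lit 1]) (.node (nat_lit 203) (.leaf (nat_lit 202) (nat_lit 2) [nat_lit 0, nat_lit 2, nat_lit 0, nat_lit 3, nat_lit 0, nat_lit 2, nat_lit 0, nat_lit 3, nat_lit 1, nat_lit 2, nat_lit 1]) (.leaf (nat_lit 203) (nat_lit 0) [nat_lit 3, nat_lit 0, nat_lit 2, nat_lit 0, nat_lit 3, nat_lit 0, nat_lit 2, nat_lit 0, nat_lit 3, nat_lit 1, nat_lit 2]))) (.node (nat_lit 205) (.leaf (nat_lit 204) (nat_lit 3) [nat_lit 1, nat_lit 3, nat_lit 0, nat_lit 2, nat_lit 0, nat_lit 3, nat_lit 0, nat_lit 2, nat_lit 0, nat_lit 3, nat_lit 1]) (.node (nat_lit 206) (.leaf (nat_lit 205) (nat_lit 0) [nat_lit 2, nat_lit 1, nat_lit 3, nat_lit 0, nat_lit 2, nat_lit 0, nat_lit 3, nat_lit 0, nat_lit 2, nat_lit 0, nat_lit 3]) (.leaf (nat_lit 206) (nat_lit 2) [nat_lit 1, nat_lit 2, nat_lit 1, nat_lit 3, nat_lit 0, nat_lit 2, nat_lit 0, nat_lit 3, nat_lit 0, nat_lit 2, nat_lit 0])))) (.node (nat_lit 210) (.node (nat_lit 208) (.leaf (nat_lit 207) (nat_lit 1) [nat_lit 3, nat_lit 1, nat_lit 2, nat_lit 1, nat_lit 3, nat_lit 0, nat_lit 2, nat_lit 0, nat_lit 3, nat_lit 0, nat_lit 2]) (.node (nat_lit 209) (.leaf (nat_lit 208) (nat_lit 3) [nat_lit 0, nat_lit 3, nat_lit 1, nat_lit 2, nat_lit 1, nat_lit 3, nat_lit 0, nat_lit 2, nat_lit 0, nat_lit 3, nat_lit 0]) (.leaf (nat_lit 209) (nat_lit 1) [nat_lit 2, nat_lit 0, nat_lit 3, nat_lit 1, nat_lit 2, nat_lit 1, nat_lit 3, nat_lit 0, nat_lit 2, nat_lit 0, nat_lit 3]))) (.node (nat_lit 211) (.leaf (nat_lit 210) (nat_lit 2) [nat_lit 0, nat_lit 2, nat_lit 0, nat_lit 3, nat_lit 1, nat_lit 2, nat_lit 1, nat_lit 3, nat_lit 0, nat_lit 2, nat_lit 0]) (.node (nat_lit 212) (.leaf (nat_lit 211) (nat_lit 1) [nat_lit 3, nat_lit 0, nat_lit 2, nat_lit 0, nat_lit 3, nat_lit 1, nat_lit 2, nat_lit 1, nat_lit 3, nat_lit 0, nat_lit 2]) (.leaf (nat_lit 212) (nat_lit 3) [nat_lit 0, nat_lit 3, nat_lit 0, nat_lit 2, nat_lit 0, nat_lit 3, nat_lit 1, nat_lit 2, nat_lit 1, nat_lit 3, nat_lit 0])))))) (.node (nat_lit 225) (.node (nat_lit 219) (.node (nat_lit 216) (.node (nat_lit 214) (.leaf (nat_lit 213) (nat_lit 1) [nat_lit 2, nat_lit 0, nat_lit 3, nat_lit 0, nat_lit 2, nat_lit 0, nat_lit 3, nat_lit 1, nat_lit 2, nat_lit 1, nat_lit 3]) (.node (nat_lit 215) (.leaf (nat_lit 214) (nat_lit 0) [nat_lit 2, nat_lit 1, nat_lit 3, nat_lit 0, nat_lit 2, nat_lit 0, nat_lit 3, nat_lit 1, nat_lit 2, nat_lit 1, nat_lit 3]) (.leaf (nat_lit 215) (nat_lit 2) [nat_lit 1, nat_lit 2, nat_lit 1, nat_lit 3, nat_lit 0, nat_lit 2, nat_lit 0, nat_lit 3, nat_lit 1, nat_lit 2, nat_lit 1]))) (.node (nat_lit 217) (.leaf (nat_lit 216) (nat_lit 0) [nat_lit 3, nat_lit 1, nat_lit 2, nat_lit 1, nat_lit 3, nat_lit 0, nat_lit 2, nat_lit 0, nat_lit 3, nat_lit 1, nat_lit 2]) (.node (nat_lit 218) (.leaf (nat_lit 217) (nat_lit 3) [nat_lit 1, nat_lit 3, nat_lit 1, nat_lit 2, nat_lit 1, nat_lit 3, nat_lit 0, nat_lit 2, nat_lit 0, nat_lit 3, nat_lit 1]) (.leaf (nat_lit 218) (nat_lit 0) [nat_lit 2, nat_lit 1, nat_lit 3, nat_lit 1, nat_lit 2, nat_lit 1, nat_lit 3, nat_lit 0, nat_lit 2, nat_lit 0, nat_lit 3])))) (.node (nat_lit 222) (.node (nat_lit 220) (.leaf (nat_lit 219) (nat_lit 2) [nat_lit 1, nat_lit 2, nat_lit 1, nat_lit 3, nat_lit 1, nat_lit 2, nat_lit 1, nat_lit 3, nat_lit 0, nat_lit 2, nat_lit 0]) (.node (nat_lit 221) (.leaf (nat_lit 220) (nat_lit 1) [nat_lit 3, nat_lit 1, nat_lit 2, nat_lit 1, nat_lit 3, nat_lit 1, nat_lit 2, nat_lit 1, nat_lit 3, nat_lit 0, nat_lit 2]) (.leaf (nat_lit 221) (nat_lit 3) [nat_lit 0, nat_lit 3, nat_lit 1, nat_lit 2, nat_lit 1, nat_lit 3, nat_lit 1, nat_lit 2, nat_lit 1, nat_lit 3, nat_lit 0]))) (.node (nat_lit 223) (.leaf (nat_lit 222) (nat_lit 1) [nat_lit 2, nat_lit 0, nat_lit 3, nat_lit 1, nat_lit 2, nat_lit 1, nat_lit 3, nat_lit 1, nat_lit 2, nat_lit 1, nat_lit 3]) (.node (nat_lit 224) (.leaf (nat_lit 223) (nat_lit 2) [nat_lit 0, nat_lit 2, nat_lit 0, nat_lit 3, nat_lit 1, nat_lit 2, nat_lit 1, nat_lit 3, nat_lit 1, nat_lit 2, nat_lit 1]) (.leaf (nat_lit 224) (nat_lit 0) [nat_lit 3, nat_lit 0, nat_lit 2, nat_lit 0, nat_lit 3, nat_lit 1, nat_lit 2, nat_lit 1, nat_lit 3, nat_lit 1, nat_lit 2]))))) (.node (nat_lit 231) (.node (nat_lit 228) (.node (nat_lit 226) (.leaf (nat_lit 225) (nat_lit 3) [nat_lit 1, nat_lit 3, nat_lit 0, nat_lit 2, nat_lit 0, nat_lit 3, nat_lit 1, nat_lit 2, nat_lit 1, nat_lit 3, nat_lit 1]) (.node (nat_lit 227) (.leaf (nat_lit 226) (nat_lit 2) [nat_lit 0, nat_lit 2, nat_lit 0, nat_lit 3, nat_lit 0, nat_lit 2, nat_lit 1, nat_lit 3, nat_lit 1, nat_lit 2, nat_lit 0]) (.leaf (nat_lit 227) (nat_lit 1) [nat_lit 3, nat_lit 0, nat_lit 2, nat_lit 0, nat_lit 3, nat_lit 0, nat_lit 2, nat_lit 1, nat_lit 3, nat_lit 1, nat_lit 2]))) (.node (nat_lit 229) (.leaf (nat_lit 228) (nat_lit 3) [nat_lit 0, nat_lit 3, nat_lit 0, nat_lit 2, nat_lit 0, nat_lit 3, nat_lit 0, nat_lit 2, nat_lit 1, nat_lit 3, nat_lit 1]) (.node (nat_lit 230) (.leaf (nat_lit 229) (nat_lit 0) [nat_lit 2, nat_lit 0, nat_lit 3, nat_lit 0, nat_lit 2, nat_lit 0, nat_lit 3, nat_lit 0, nat_lit 2, nat_lit 1, nat_lit 3]) (.leaf (nat_lit 230) (nat_lit 2) [nat_lit 1, nat_lit 2, nat_lit 0, nat_lit 3, nat_lit 0, nat_lit 2, nat_lit 0, nat_lit 3, nat_lit 0, nat_lit 2, nat_lit 1])))) (.node (nat_lit 234) (.node (nat_lit 232) (.leaf (nat_lit 231) (nat_lit 0) [nat_lit 3, nat_lit 1, nat_lit 2, nat_lit 0, nat_lit 3, nat_lit 0, nat_lit 2, nat_lit 0, nat_lit 3, nat_lit 0, nat_lit 2]) (.node (nat_lit 233) (.leaf (nat_lit 232) (nat_lit 3) [nat_lit 1, nat_lit 3, nat_lit 1, nat_lit 2, nat_lit 0, nat_lit 3, nat_lit 0, nat_lit 2, nat_lit 0, nat_lit 3, nat_lit 0]) (.leaf (nat_lit 233) (nat_lit 1) [nat_lit 2, nat_lit 1, nat_lit 3, nat_lit 1, nat_lit 2, nat_lit 0, nat_lit 3, nat_lit 0, nat_lit 2, nat_lit 0, nat_lit 3]))) (.node (nat_lit 235) (.leaf (nat_lit 234) (nat_lit 2) [nat_lit 0, nat_lit 2, nat_lit 1, nat_lit 3, nat_lit 1, nat_lit 2, nat_lit 0, nat_lit 3, nat_lit 0, nat_lit 2, nat_lit 0]) (.node (nat_lit 236) (.leaf (nat_lit 235) (nat_lit 1) [nat_lit 3, nat_lit 0, nat_lit 2, nat_lit 1, nat_lit 3, nat_lit 1, nat_lit 2, nat_lit 0, nat_lit 3, nat_lit 0, nat_lit 2]) (.leaf (nat_lit 236) (nat_lit 3) [nat_lit 0, nat_lit 3, nat_lit 0, nat_lit 2, nat_lit 1, nat_lit 3, nat_lit 1, nat_lit 2, nat_lit 0, nat_lit 3, nat_lit 0]))))))) (.node (nat_lit 261) (.node (nat_lit 249) (.node (nat_lit 243) (.node (nat_lit 240) (.node (nat_lit 238) (.leaf (nat_lit 237) (nat_lit 1) [nat_lit 2, nat_lit 0, nat_lit 3, nat_lit 0, nat_lit 2, nat_lit 1, nat_lit 3, nat_lit 1, nat_lit 2, nat_lit 0, nat_lit 3]) (.node (nat_lit 239) (.leaf (nat_lit 238) (nat_lit 0) [nat_lit 1, nat_lit 2, nat_lit 0, nat_lit 2, nat_lit 1, nat_lit 1, nat_lit 1, nat_lit 1, nat_lit 3, nat_lit 1, nat_lit 1, nat_lit 2, nat_lit 0, nat_lit 2, nat_lit 1, nat_lit 1, nat_lit 1, nat_lit 1, nat_lit 3, nat_lit 1, nat_lit 1, nat_lit 2, nat_lit 0, nat_lit 2, nat_lit 1, nat_lit 1, nat_lit 1, nat_lit 1, nat_lit 3, nat_lit 1, nat_lit 1, nat_lit 2, nat_lit 0, nat_lit 2, nat_lit 1, nat_lit 1, nat_lit 1, nat_lit 1, nat_lit 3, nat_lit 1, nat_lit 1, nat_lit 2, nat_lit 0, nat_lit 2, nat_lit 1, nat_lit 1, nat_lit 1, nat_lit 1, nat_lit 3, nat_lit 1, nat_lit 1, nat_lit 2, nat_lit 0, nat_lit 2, nat_lit 1, nat_lit 1, nat_lit 1, nat_lit 1, nat_lit 3, nat_lit 1, nat_lit 1, nat_lit 2, nat_lit 0, nat_lit 2, nat_lit 1, nat_lit 1, nat_lit 1, nat_lit 1, nat_lit 3]) (.leaf (nat_lit 239) (nat_lit 2) [nat_lit 1, nat_lit 1, nat_lit 2, nat_lit 0, nat_lit 2, nat_lit 1, nat_lit 1, nat_lit 1, nat_lit 1, nat_lit 3, nat_lit 1, nat_lit 1, nat_lit 2, nat_lit 0, nat_lit 2, nat_lit 1, nat_lit 1, nat_lit 1, nat_lit 1, nat_lit 3, nat_lit 1, nat_lit 1, nat_lit 2, nat_lit 0, nat_lit 2, nat_lit 1, nat_lit 1, nat_lit 1, nat_lit 1, nat_lit 3, nat_lit 1, nat_lit 1, nat_lit 2, nat_lit 0, nat_lit 2, nat_lit 1, nat_lit 1, nat_lit 1, nat_lit 1, nat_lit 3, nat_lit 1, nat_lit 1, nat_lit 2, nat_lit 0, nat_lit 2, nat_lit 1, nat_lit 1, nat_lit 1, nat_lit 1, nat_lit 3, nat_lit 1, nat_lit 1, nat_lit 2, nat_lit 0, nat_lit 2, nat_lit 1, nat_lit 1, nat_lit 1, nat_lit 1, nat_lit 3, nat_lit 1, nat_lit 1, nat_lit 2, nat_lit 0, nat_lit 2, nat_lit 1, nat_lit 1, nat_lit 1, nat_lit 1]))) (.node (nat_lit 241) (.leaf (nat_lit 240) (nat_lit 0) [nat_lit 3, nat_lit 1, nat_lit 1, nat_lit 2, nat_lit 0, nat_lit 2, nat_lit 1, nat_lit 1, nat_lit 1, nat_lit 1, nat_lit 3, nat_lit 1, nat_lit 1, nat_lit 2, nat_lit 0, nat_lit 2, nat_lit 1, nat_lit 1, nat_lit 1, nat_lit 1, nat_lit 3, nat_lit 1, nat_lit 1, nat_lit 2, nat_lit 0, nat_lit 2, nat_lit 1, nat_lit 1, nat_lit 1, nat_lit 1, nat_lit 3, nat_lit 1, nat_lit 1, nat_lit 2, nat_lit 0, nat_lit 2, nat_lit 1, nat_lit 1, nat_lit 1, nat_lit 1, nat_lit 3, nat_lit 1, nat_lit 1, nat_lit 2, nat_lit 0, nat_lit 2, nat_lit 1, nat_lit 1, nat_lit 1, nat_lit 1, nat_lit 3, nat_lit 1, nat_lit 1, nat_lit 2, nat_lit 0, nat_lit 2, nat_lit 1, nat_lit 1, nat_lit 1, nat_lit 1, nat_lit 3, nat_lit 1, nat_lit 1, nat_lit 2, nat_lit 0, nat_lit 2, nat_lit 1, nat_lit 1, nat_lit 1]) (.node (nat_lit 242) (.leaf (nat_lit 241) (nat_lit 0) [nat_lit 1, nat_lit 3, nat_lit 1, nat_lit 1, nat_lit 2, nat_lit 0, nat_lit 2, nat_lit 1, nat_lit 1, nat_lit 1, nat_lit 1, nat_lit 3, nat_lit 1, nat_lit 1, nat_lit 2, nat_lit 0, nat_lit 2, nat_lit 1, nat_lit 1, nat_lit 1, nat_lit 1, nat_lit 3, nat_lit 1, nat_lit 1, nat_lit 2, nat_lit 0, nat_lit 2, nat_lit 1, nat_lit 1, nat_lit 1, nat_lit 1, nat_lit 3, nat_lit 1, nat_lit 1, nat_lit 2, nat_lit 0, nat_lit 2, nat_lit 1, nat_lit 1, nat_lit 1, nat_lit 1, nat_lit 3, nat_lit 1, nat_lit 1, nat_lit 2, nat_lit 0, nat_lit 2, nat_lit 1, nat_lit 1, nat_lit 1, nat_lit 1, nat_lit 3, nat_lit 1, nat_lit 1, nat_lit 2, nat_lit 0, nat_lit 2, nat_lit 1, nat_lit 1, nat_lit 1, nat_lit 1, nat_lit 3, nat_lit 1, nat_lit 1, nat_lit 2, nat_lit 0, nat_lit 2, nat_lit 1, nat_lit 1]) (.leaf (nat_lit 242) (nat_lit 0) [nat_lit 1, nat_lit 1, nat_lit 3, nat_lit 1, nat_lit 1, nat_lit 2, nat_lit 0, nat_lit 2, nat_lit 1, nat_lit 1, nat_lit 1, nat_lit 1, nat_lit 3, nat_lit 1, nat_lit 1, nat_lit 2, nat_lit 0, nat_lit 2, nat_lit 1, nat_lit 1, nat_lit 1, nat_lit 1, nat_lit 3, nat_lit 1, nat_lit 1, nat_lit 2, nat_lit 0, nat_lit 2, nat_lit 1, nat_lit 1, nat_lit 1, nat_lit 1, nat_lit 3, nat_lit 1, nat_lit 1, nat_lit 2, nat_lit 0, nat_lit 2, nat_lit 1, nat_lit 1, nat_lit 1, nat_lit 1, nat_lit 3, nat_lit 1, nat_lit 1, nat_lit 2, nat_lit 0, nat_lit 2, nat_lit 1, nat_lit 1, nat_lit 1, nat_lit 1, nat_lit 3, nat_lit 1, nat_lit 1, nat_lit 2, nat_lit 0, nat_lit 2, nat_lit 1, nat_lit 1, nat_lit 1, nat_lit 1, nat_lit 3, nat_lit 1, nat_lit 1, nat_lit 2, nat_lit 0, nat_lit 2, nat_lit 1])))) (.node (nat_lit 246) (.node (nat_lit 244) (.leaf (nat_lit 243) (nat_lit 0) [nat_lit 1, nat_lit 1, nat_lit 1, nat_lit 3, nat_lit 1, nat_lit 1, nat_lit 2, nat_lit 0, nat_lit 2, nat_lit 1, nat_lit 1, nat_lit 1, nat_lit 1, nat_lit 3, nat_lit 1, nat_lit 1, nat_lit 2, nat_lit 0, nat_lit 2, nat_lit 1, nat_lit 1, nat_lit 1, nat_lit 1, nat_lit 3, nat_lit 1, nat_lit 1, nat_lit 2, nat_lit 0, nat_lit 2, nat_lit 1, nat_lit 1, nat_lit 1, nat_lit 1, nat_lit 3, nat_lit 1, nat_lit 1, nat_lit 2, nat_lit 0, nat_lit 2, nat_lit 1, nat_lit 1, nat_lit 1, nat_lit 1, nat_lit 3, nat_lit 1, nat_lit 1, nat_lit 2, nat_lit 0, nat_lit 2, nat_lit 1, nat_lit 1, nat_lit 1, nat_lit 1, nat_lit 3, nat_lit 1, nat_lit 1, nat_lit 2, nat_lit 0, nat_lit 2, nat_lit 1, nat_lit 1, nat_lit 1, nat_lit 1, nat_lit 3, nat_lit 1, nat_lit 1, nat_lit 2, nat_lit 0, nat_lit 2]) (.node (nat_lit 245) (.leaf (nat_lit 244) (nat_lit 3) [nat_lit 1, nat_lit 1, nat_lit 1, nat_lit 1, nat_lit 3, nat_lit 1, nat_lit 1, nat_lit 2, nat_lit 0, nat_lit 2, nat_lit 1, nat_lit 1, nat_lit 1, nat_lit 1, nat_lit 3, nat_lit 1, nat_lit 1, nat_lit 2, nat_lit 0, nat_lit 2, nat_lit 1, nat_lit 1, nat_lit 1, nat_lit 1, nat_lit 3, nat_lit 1, nat_lit 1, nat_lit 2, nat_lit 0, nat_lit 2, nat_lit 1, nat_lit 1, nat_lit 1, nat_lit 1, nat_lit 3, nat_lit 1, nat_lit 1, nat_lit 2, nat_lit 0, nat_lit 2, nat_lit 1, nat_lit 1, nat_lit 1, nat_lit 1, nat_lit 3, nat_lit 1, nat_lit 1, nat_lit 2, nat_lit 0, nat_lit 2, nat_lit 1, nat_lit 1, nat_lit 1, nat_lit 1, nat_lit 3, nat_lit 1, nat_lit 1, nat_lit 2, nat_lit 0, nat_lit 2, nat_lit 1, nat_lit 1, nat_lit 1, nat_lit 1, nat_lit 3, nat_lit 1, nat_lit 1, nat_lit 2, nat_lit 0]) (.leaf (nat_lit 245) (nat_lit 1) [nat_lit 2, nat_lit 1, nat_lit 1, nat_lit 1, nat_lit 1, nat_lit 3, nat_lit 1, nat_lit 1, nat_lit 2, nat_lit 0, nat_lit 2, nat_lit 1, nat_lit 1, nat_lit 1, nat_lit 1, nat_lit 3, nat_lit 1, nat_lit 1, nat_lit 2, nat_lit 0, nat_lit 2, nat_lit 1, nat_lit 1, nat_lit 1, nat_lit 1, nat_lit 3, nat_lit 1, nat_lit 1, nat_lit 2, nat_lit 0, nat_lit 2, nat_lit 1, nat_lit 1, nat_lit 1, nat_lit 1, nat_lit 3, nat_lit 1, nat_lit 1, nat_lit 2, nat_lit 0, nat_lit 2, nat_lit 1, nat_lit 1, nat_lit 1, nat_lit 1, nat_lit 3, nat_lit 1, nat_lit 1, nat_lit 2, nat_lit 0, nat_lit 2, nat_lit 1, nat_lit 1, nat_lit 1, nat_lit 1, nat_lit 3, nat_lit 1, nat_lit 1, nat_lit 2, nat_lit 0, nat_lit 2, nat_lit 1, nat_lit 1, nat_lit 1, nat_lit 1, nat_lit 3, nat_lit 1, nat_lit 1, nat_lit 2]))) (.node (nat_lit 247) (.leaf (nat_lit 246) (nat_lit 3) [nat_lit 0, nat_lit 2, nat_lit 1, nat_lit 1, nat_lit 1, nat_lit 1, nat_lit 3, nat_lit 1, nat_lit 1, nat_lit 2, nat_lit 0, nat_lit 2, nat_lit 1, nat_lit 1, nat_lit 1, nat_lit 1, nat_lit 3, nat_lit 1, nat_lit 1, nat_lit 2, nat_lit 0, nat_lit 2, nat_lit 1, nat_lit 1, nat_lit 1, nat_lit 1, nat_lit 3, nat_lit 1, nat_lit 1, nat_lit 2, nat_lit 0, nat_lit 2, nat_lit 1, nat_lit 1, nat_lit 1, nat_lit 1, nat_lit 3, nat_lit 1, nat_lit 1, nat_lit 2, nat_lit 0, nat_lit 2, nat_lit 1, nat_lit 1, nat_lit 1, nat_lit 1, nat_lit 3, nat_lit 1, nat_lit 1, nat_lit 2, nat_lit 0, nat_lit 2, nat_lit 1, nat_lit 1, nat_lit 1, nat_lit 1, nat_lit 3, nat_lit 1, nat_lit 1, nat_lit 2, nat_lit 0, nat_lit 2, nat_lit 1, nat_lit 1, nat_lit 1, nat_lit 1, nat_lit 3, nat_lit 1, nat_lit 1]) (.node (nat_lit 248) (.leaf (nat_lit 247) (nat_lit 0) [nat_lit 2, nat_lit 0, nat_lit 2, nat_lit 1, nat_lit 1, nat_lit 1, nat_lit 1, nat_lit 3, nat_lit 1, nat_lit 1, nat_lit 2, nat_lit 0, nat_lit 2, nat_lit 1, nat_lit 1, nat_lit 1, nat_lit 1, nat_lit 3, nat_lit 1, nat_lit 1, nat_lit 2, nat_lit 0, nat_lit 2, nat_lit 1, nat_lit 1, nat_lit 1, nat_lit 1, nat_lit 3, nat_lit 1, nat_lit 1, nat_lit 2, nat_lit 0, nat_lit 2, nat_lit 1, nat_lit 1, nat_lit 1, nat_lit 1, nat_lit 3, nat_lit 1, nat_lit 1, nat_lit 2, nat_lit 0, nat_lit 2, nat_lit 1, nat_lit 1, nat_lit 1, nat_lit 1, nat_lit 3, nat_lit 1, nat_lit 1, nat_lit 2, nat_lit 0, nat_lit 2, nat_lit 1, nat_lit 1, nat_lit 1, nat_lit 1, nat_lit 3, nat_lit 1, nat_lit 1, nat_lit 2, nat_lit 0, nat_lit 2, nat_lit 1, nat_lit 1, nat_lit 1, nat_lit 1, nat_lit 3, nat_lit 1]) (.leaf (nat_lit 238) (nat_lit 0) [nat_lit 1, nat_lit 2, nat_lit 0, nat_lit 2, nat_lit 1, nat_lit 1, nat_lit 1, nat_lit 1, nat_lit 3, nat_lit 1, nat_lit 1, nat_lit 2, nat_lit 0, nat_lit 2, nat_lit 1, nat_lit 1, nat_lit 1, nat_lit 1, nat_lit 3, nat_lit 1, nat_lit 1, nat_lit 2, nat_lit 0, nat_lit 2, nat_lit 1, nat_lit 1, nat_lit 1, nat_lit 1, nat_lit 3, nat_lit 1, nat_lit 1, nat_lit 2, nat_lit 0, nat_lit 2, nat_lit 1, nat_lit 1, nat_lit 1, nat_lit 1, nat_lit 3, nat_lit 1, nat_lit 1, nat_lit 2, nat_lit 0, nat_lit 2, nat_lit 1, nat_lit 1, nat_lit 1, nat_lit 1, nat_lit 3, nat_lit 1, nat_lit 1, nat_lit 2, nat_lit 0, nat_lit 2, nat_lit 1, nat_lit 1, nat_lit 1, nat_lit 1, nat_lit 3, nat_lit 1, nat_lit 1, nat_lit 2, nat_lit 0, nat_lit 2, nat_lit 1, nat_lit 1, nat_lit 1, nat_lit 1, nat_lit 3]))))) (.node (nat_lit 255) (.node (nat_lit 252) (.node (nat_lit 250) (.leaf (nat_lit 239) (nat_lit 2) [nat_lit 1, nat_lit 1, nat_lit 2, nat_lit 0, nat_lit 2, nat_lit 1, nat_lit 1, nat_lit 1, nat_lit 1, nat_lit 3, nat_lit 1, nat_lit 1, nat_lit 2, nat_lit 0, nat_lit 2, nat_lit 1, nat_lit 1, nat_lit 1, nat_lit 1, nat_lit 3, nat_lit 1, nat_lit 1, nat_lit 2, nat_lit 0, nat_lit 2, nat_lit 1, nat_lit 1, nat_lit 1, nat_lit 1, nat_lit 3, nat_lit 1, nat_lit 1, nat_lit 2, nat_lit 0, nat_lit 2, nat_lit 1, nat_lit 1, nat_lit 1, nat_lit 1, nat_lit 3, nat_lit 1, nat_lit 1, nat_lit 2, nat_lit 0, nat_lit 2, nat_lit 1, nat_lit 1, nat_lit 1, nat_lit 1, nat_lit 3, nat_lit 1, nat_lit 1, nat_lit 2, nat_lit 0, nat_lit 2, nat_lit 1, nat_lit 1, nat_lit 1, nat_lit 1, nat_lit 3, nat_lit 1, nat_lit 1, nat_lit 2, nat_lit 0, nat_lit 2, nat_lit 1, nat_lit 1, nat_lit 1, nat_lit 1]) (.node (nat_lit 251) (.leaf (nat_lit 240) (nat_lit 0) [nat_lit 3, nat_lit 1, nat_lit 1, nat_lit 2, nat_lit 0, nat_lit 2, nat_lit 1, nat_lit 1, nat_lit 1, nat_lit 1, nat_lit 3, nat_lit 1, nat_lit 1, nat_lit 2, nat_lit 0, nat_lit 2, nat_lit 1, nat_lit 1, nat_lit 1, nat_lit 1, nat_lit 3, nat_lit 1, nat_lit 1, nat_lit 2, nat_lit 0, nat_lit 2, nat_lit 1, nat_lit 1, nat_lit 1, nat_lit 1, nat_lit 3, nat_lit 1, nat_lit 1, nat_lit 2, nat_lit 0, nat_lit 2, nat_lit 1, nat_lit 1, nat_lit 1, nat_lit 1, nat_lit 3, nat_lit 1, nat_lit 1, nat_lit 2, nat_lit 0, nat_lit 2, nat_lit 1, nat_lit 1, nat_lit 1, nat_lit 1, nat_lit 3, nat_lit 1, nat_lit 1, nat_lit 2, nat_lit 0, nat_lit 2, nat_lit 1, nat_lit 1, nat_lit 1, nat_lit 1, nat_lit 3, nat_lit 1, nat_lit 1, nat_lit 2, nat_lit 0, nat_lit 2, nat_lit 1, nat_lit 1, nat_lit 1]) (.leaf (nat_lit 241) (nat_lit 0) [nat_lit 1, nat_lit 3, nat_lit 1, nat_lit 1, nat_lit 2, nat_lit 0, nat_lit 2, nat_lit 1, nat_lit 1, nat_lit 1, nat_lit 1, nat_lit 3, nat_lit 1, nat_lit 1, nat_lit 2, nat_lit 0, nat_lit 2, nat_lit 1, nat_lit 1, nat_lit 1, nat_lit 1, nat_lit 3, nat_lit 1, nat_lit 1, nat_lit 2, nat_lit 0, nat_lit 2, nat_lit 1, nat_lit 1, nat_lit 1, nat_lit 1, nat_lit 3, nat_lit 1, nat_lit 1, nat_lit 2, nat_lit 0, nat_lit 2, nat_lit 1, nat_lit 1, nat_lit 1, nat_lit 1, nat_lit 3, nat_lit 1, nat_lit 1, nat_lit 2, nat_lit 0, nat_lit 2, nat_lit 1, nat_lit 1, nat_lit 1, nat_lit 1, nat_lit 3, nat_lit 1, nat_lit 1, nat_lit 2, nat_lit 0, nat_lit 2, nat_lit 1, nat_lit 1, nat_lit 1, nat_lit 1, nat_lit 3, nat_lit 1, nat_lit 1, nat_lit 2, nat_lit 0, nat_lit 2, nat_lit 1, nat_lit 1]))) (.node (nat_lit 253) (.leaf (nat_lit 242) (nat_lit 0) [nat_lit 1, nat_lit 1, nat_lit 3, nat_lit 1, nat_lit 1, nat_lit 2, nat_lit 0, nat_lit 2, nat_lit 1, nat_lit 1, nat_lit 1, nat_lit 1, nat_lit 3, nat_lit 1, nat_lit 1, nat_lit 2, nat_lit 0, nat_lit 2, nat_lit 1, nat_lit 1, nat_lit 1, nat_lit 1, nat_lit 3, nat_lit 1, nat_lit 1, nat_lit 2, nat_lit 0, nat_lit 2, nat_lit 1, nat_lit 1, nat_lit 1, nat_lit 1, nat_lit 3, nat_lit 1, nat_lit 1, nat_lit 2, nat_lit 0, nat_lit 2, nat_lit 1, nat_lit 1, nat_lit 1, nat_lit 1, nat_lit 3, nat_lit 1, nat_lit 1, nat_lit 2, nat_lit 0, nat_lit 2, nat_lit 1, nat_lit 1, nat_lit 1, nat_lit 1, nat_lit 3, nat_lit 1, nat_lit 1, nat_lit 2, nat_lit 0, nat_lit 2, nat_lit 1, nat_lit 1, nat_lit 1, nat_lit 1, nat_lit 3, nat_lit 1, nat_lit 1, nat_lit 2, nat_lit 0, nat_lit 2, nat_lit 1]) (.node (nat_lit 254) (.leaf (nat_lit 243) (nat_lit 0) [nat_lit 1, nat_lit 1, nat_lit 1, nat_lit 3, nat_lit 1, nat_lit 1, nat_lit 2, nat_lit 0, nat_lit 2, nat_lit 1, nat_lit 1, nat_lit 1, nat_lit 1, nat_lit 3, nat_lit 1, nat_lit 1, nat_lit 2, nat_lit 0, nat_lit 2, nat_lit 1, nat_lit 1, nat_lit 1, nat_lit 1, nat_lit 3, nat_lit 1, nat_lit 1, nat_lit 2, nat_lit 0, nat_lit 2, nat_lit 1, nat_lit 1, nat_lit 1, nat_lit 1, nat_lit 3, nat_lit 1, nat_lit 1, nat_lit 2, nat_lit 0, nat_lit 2, nat_lit 1, nat_lit 1, nat_lit 1, nat_lit 1, nat_lit 3, nat_lit 1, nat_lit 1, nat_lit 2, nat_lit 0, nat_lit 2, nat_lit 1, nat_lit 1, nat_lit 1, nat_lit 1, nat_lit 3, nat_lit 1, nat_lit 1, nat_lit 2, nat_lit 0, nat_lit 2, nat_lit 1, nat_lit 1, nat_lit 1, nat_lit 1, nat_lit 3, nat_lit 1, nat_lit 1, nat_lit 2, nat_lit 0, nat_lit 2]) (.leaf (nat_lit 244) (nat_lit 3) [nat_lit 1, nat_lit 1, nat_lit 1, nat_lit 1, nat_lit 3, nat_lit 1, nat_lit 1, nat_lit 2, nat_lit 0, nat_lit 2, nat_lit 1, nat_lit 1, nat_lit 1, nat_lit 1, nat_lit 3, nat_lit 1, nat_lit 1, nat_lit 2, nat_lit 0, nat_lit 2, nat_lit 1, nat_lit 1, nat_lit 1, nat_lit 1, nat_lit 3, nat_lit 1, nat_lit 1, nat_lit 2, nat_lit 0, nat_lit 2, nat_lit 1, nat_lit 1, nat_lit 1, nat_lit 1, nat_lit 3, nat_lit 1, nat_lit 1, nat_lit 2, nat_lit 0, nat_lit 2, nat_lit 1, nat_lit 1, nat_lit 1, nat_lit 1, nat_lit 3, nat_lit 1, nat_lit 1, nat_lit 2, nat_lit 0, nat_lit 2, nat_lit 1, nat_lit 1, nat_lit 1, nat_lit 1, nat_lit 3, nat_lit 1, nat_lit 1, nat_lit 2, nat_lit 0, nat_lit 2, nat_lit 1, nat_lit 1, nat_lit 1, nat_lit 1, nat_lit 3, nat_lit 1, nat_lit 1, nat_lit 2, nat_lit 0])))) (.node (nat_lit 258) (.node (nat_lit 256) (.leaf (nat_lit 245) (nat_lit 1) [nat_lit 2, nat_lit 1, nat_lit 1, nat_lit 1, nat_lit 1, nat_lit 3, nat_lit 1, nat_lit 1, nat_lit 2, nat_lit 0, nat_lit 2, nat_lit 1, nat_lit 1, nat_lit 1, nat_lit 1, nat_lit 3, nat_lit 1, nat_lit 1, nat_lit 2, nat_lit 0, nat_lit 2, nat_lit 1, nat_lit 1, nat_lit 1, nat_lit 1, nat_lit 3, nat_lit 1, nat_lit 1, nat_lit 2, nat_lit 0, nat_lit 2, nat_lit 1, nat_lit 1, nat_lit 1, nat_lit 1, nat_lit 3, nat_lit 1, nat_lit 1, nat_lit 2, nat_lit 0, nat_lit 2, nat_lit 1, nat_lit 1, nat_lit 1, nat_lit 1, nat_lit 3, nat_lit 1, nat_lit 1, nat_lit 2, nat_lit 0, nat_lit 2, nat_lit 1, nat_lit 1, nat_lit 1, nat_lit 1, nat_lit 3, nat_lit 1, nat_lit 1, nat_lit 2, nat_lit 0, nat_lit 2, nat_lit 1, nat_lit 1, nat_lit 1, nat_lit 1, nat_lit 3, nat_lit 1, nat_lit 1, nat_lit 2]) (.node (nat_lit 257) (.leaf (nat_lit 246) (nat_lit 3) [nat_lit 0, nat_lit 2, nat_lit 1, nat_lit 1, nat_lit 1, nat_lit 1, nat_lit 3, nat_lit 1, nat_lit 1, nat_lit 2, nat_lit 0, nat_lit 2, nat_lit 1, nat_lit 1, nat_lit 1, nat_lit 1, nat_lit 3, nat_lit 1, nat_lit 1, nat_lit 2, nat_lit 0, nat_lit 2, nat_lit 1, nat_lit 1, nat_lit 1, nat_lit 1, nat_lit 3, nat_lit 1, nat_lit 1, nat_lit 2, nat_lit 0, nat_lit 2, nat_lit 1, nat_lit 1, nat_lit 1, nat_lit 1, nat_lit 3, nat_lit 1, nat_lit 1, nat_lit 2, nat_lit 0, nat_lit 2, nat_lit 1, nat_lit 1, nat_lit 1, nat_lit 1, nat_lit 3, nat_lit 1, nat_lit 1, nat_lit 2, nat_lit 0, nat_lit 2, nat_lit 1, nat_lit 1, nat_lit 1, nat_lit 1, nat_lit 3, nat_lit 1, nat_lit 1, nat_lit 2, nat_lit 0, nat_lit 2, nat_lit 1, nat_lit 1, nat_lit 1, nat_lit 1, nat_lit 3, nat_lit 1, nat_lit 1]) (.leaf (nat_lit 247) (nat_lit 0) [nat_lit 2, nat_lit 0, nat_lit 2, nat_lit 1, nat_lit 1, nat_lit 1, nat_lit 1, nat_lit 3, nat_lit 1, nat_lit 1, nat_lit 2, nat_lit 0, nat_lit 2, nat_lit 1, nat_lit 1, nat_lit 1, nat_lit 1, nat_lit 3, nat_lit 1, nat_lit 1, nat_lit 2, nat_lit 0, nat_lit 2, nat_lit 1, nat_lit 1, nat_lit 1, nat_lit 1, nat_lit 3, nat_lit 1, nat_lit 1, nat_lit 2, nat_lit 0, nat_lit 2, nat_lit 1, nat_lit 1, nat_lit 1, nat_lit 1, nat_lit 3, nat_lit 1, nat_lit 1, nat_lit 2, nat_lit 0, nat_lit 2, nat_lit 1, nat_lit 1, nat_lit 1, nat_lit 1, nat_lit 3, nat_lit 1, nat_lit 1, nat_lit 2, nat_lit 0, nat_lit 2, nat_lit 1, nat_lit 1, nat_lit 1, nat_lit 1, nat_lit 3, nat_lit 1, nat_lit 1, nat_lit 2, nat_lit 0, nat_lit 2, nat_lit 1, nat_lit 1, nat_lit 1, nat_lit 1, nat_lit 3, nat_lit 1]))) (.node (nat_lit 259) (.leaf (nat_lit 238) (nat_lit 0) [nat_lit 1, nat_lit 2, nat_lit 0, nat_lit 2, nat_lit 1, nat_lit 1, nat_lit 1, nat_lit 1, nat_lit 3, nat_lit 1, nat_lit 1, nat_lit 2, nat_lit 0, nat_lit 2, nat_lit 1, nat_lit 1, nat_lit 1, nat_lit 1, nat_lit 3, nat_lit 1, nat_lit 1, nat_lit 2, nat_lit 0, nat_lit 2, nat_lit 1, nat_lit 1, nat_lit 1, nat_lit 1, nat_lit 3, nat_lit 1, nat_lit 1, nat_lit 2, nat_lit 0, nat_lit 2, nat_lit 1, nat_lit 1, nat_lit 1, nat_lit 1, nat_lit 3, nat_lit 1, nat_lit 1, nat_lit 2, nat_lit 0, nat_lit 2, nat_lit 1, nat_lit 1, nat_lit 1, nat_lit 1, nat_lit 3, nat_lit 1, nat_lit 1, nat_lit 2, nat_lit 0, nat_lit 2, nat_lit 1, nat_lit 1, nat_lit 1, nat_lit 1, nat_lit 3, nat_lit 1, nat_lit 1, nat_lit 2, nat_lit 0, nat_lit 2, nat_lit 1, nat_lit 1, nat_lit 1, nat_lit 1, nat_lit 3]) (.node (nat_lit 260) (.leaf (nat_lit 239) (nat_lit 2) [nat_lit 1, nat_lit 1, nat_lit 2, nat_lit 0, nat_lit 2, nat_lit 1, nat_lit 1, nat_lit 1, nat_lit 1, nat_lit 3, nat_lit 1, nat_lit 1, nat_lit 2, nat_lit 0, nat_lit 2, nat_lit 1, nat_lit 1, nat_lit 1, nat_lit 1, nat_lit 3, nat_lit 1, nat_lit 1, nat_lit 2, nat_lit 0, nat_lit 2, nat_lit 1, nat_lit 1, nat_lit 1, nat_lit 1, nat_lit 3, nat_lit 1, nat_lit 1, nat_lit 2, nat_lit 0, nat_lit 2, nat_lit 1, nat_lit 1, nat_lit 1, nat_lit 1, nat_lit 3, nat_lit 1, nat_lit 1, nat_lit 2, nat_lit 0, nat_lit 2, nat_lit 1, nat_lit 1, nat_lit 1, nat_lit 1, nat_lit 3, nat_lit 1, nat_lit 1, nat_lit 2, nat_lit 0, nat_lit 2, nat_lit 1, nat_lit 1, nat_lit 1, nat_lit 1, nat_lit 3, nat_lit 1, nat_lit 1, nat_lit 2, nat_lit 0, nat_lit 2, nat_lit 1, nat_lit 1, nat_lit 1, nat_lit 1]) (.leaf (nat_lit 240) (nat_lit 0) [nat_lit 3, nat_lit 1, nat_lit 1, nat_lit 2, nat_lit 0, nat_lit 2, nat_lit 1, nat_lit 1, nat_lit 1, nat_lit 1, nat_lit 3, nat_lit 1, nat_lit 1, nat_lit 2, nat_lit 0, nat_lit 2, nat_lit 1, nat_lit 1, nat_lit 1, nat_lit 1, nat_lit 3, nat_lit 1, nat_lit 1, nat_lit 2, nat_lit 0, nat_lit 2, nat_lit 1, nat_lit 1, nat_lit 1, nat_lit 1, nat_lit 3, nat_lit 1, nat_lit 1, nat_lit 2, nat_lit 0, nat_lit 2, nat_lit 1, nat_lit 1, nat_lit 1, nat_lit 1, nat_lit 3, nat_lit 1, nat_lit 1, nat_lit 2, nat_lit 0, nat_lit 2, nat_lit 1, nat_lit 1, nat_lit 1, nat_lit 1, nat_lit 3, nat_lit 1, nat_lit 1, nat_lit 2, nat_lit 0, nat_lit 2, nat_lit 1, nat_lit 1, nat_lit 1, nat_lit 1, nat_lit 3, nat_lit 1, nat_lit 1, nat_lit 2, nat_lit 0, nat_lit 2, nat_lit 1, nat_lit 1, nat_lit 1])))))) (.node (nat_lit 273) (.node (nat_lit 267) (.node (nat_lit 264) (.node (nat_lit 262) (.leaf (nat_lit 241) (nat_lit 0) [nat_lit 1, nat_lit 3, nat_lit 1, nat_lit 1, nat_lit 2, nat_lit 0, nat_lit 2, nat_lit 1, nat_lit 1, nat_lit 1, nat_lit 1, nat_lit 3, nat_lit 1, nat_lit 1, nat_lit 2, nat_lit 0, nat_lit 2, nat_lit 1, nat_lit 1, nat_lit 1, nat_lit 1, nat_lit 3, nat_lit 1, nat_lit 1, nat_lit 2, nat_lit 0, nat_lit 2, nat_lit 1, nat_lit 1, nat_lit 1, nat_lit 1, nat_lit 3, nat_lit 1, nat_lit 1, nat_lit 2, nat_lit 0, nat_lit 2, nat_lit 1, nat_lit 1, nat_lit 1, nat_lit 1, nat_lit 3, nat_lit 1, nat_lit 1, nat_lit 2, nat_lit 0, nat_lit 2, nat_lit 1, nat_lit 1, nat_lit 1, nat_lit 1, nat_lit 3, nat_lit 1, nat_lit 1, nat_lit 2, nat_lit 0, nat_lit 2, nat_lit 1, nat_lit 1, nat_lit 1, nat_lit 1, nat_lit 3, nat_lit 1, nat_lit 1, nat_lit 2, nat_lit 0, nat_lit 2, nat_lit 1, nat_lit 1]) (.node (nat_lit 263) (.leaf (nat_lit 242) (nat_lit 0) [nat_lit 1, nat_lit 1, nat_lit 3, nat_lit 1, nat_lit 1, nat_lit 2, nat_lit 0, nat_lit 2, nat_lit 1, nat_lit 1, nat_lit 1, nat_lit 1, nat_lit 3, nat_lit 1, nat_lit 1, nat_lit 2, nat_lit 0, nat_lit 2, nat_lit 1, nat_lit 1, nat_lit 1, nat_lit 1, nat_lit 3, nat_lit 1, nat_lit 1, nat_lit 2, nat_lit 0, nat_lit 2, nat_lit 1, nat_lit 1, nat_lit 1, nat_lit 1, nat_lit 3, nat_lit 1, nat_lit 1, nat_lit 2, nat_lit 0, nat_lit 2, nat_lit 1, nat_lit 1, nat_lit 1, nat_lit 1, nat_lit 3, nat_lit 1, nat_lit 1, nat_lit 2, nat_lit 0, nat_lit 2, nat_lit 1, nat_lit 1, nat_lit 1, nat_lit 1, nat_lit 3, nat_lit 1, nat_lit 1, nat_lit 2, nat_lit 0, nat_lit 2, nat_lit 1, nat_lit 1, nat_lit 1, nat_lit 1, nat_lit 3, nat_lit 1, nat_lit 1, nat_lit 2, nat_lit 0, nat_lit 2, nat_lit 1]) (.leaf (nat_lit 243) (nat_lit 0) [nat_lit 1, nat_lit 1, nat_lit 1, nat_lit 3, nat_lit 1, nat_lit 1, nat_lit 2, nat_lit 0, nat_lit 2, nat_lit 1, nat_lit 1, nat_lit 1, nat_lit 1, nat_lit 3, nat_lit 1, nat_lit 1, nat_lit 2, nat_lit 0, nat_lit 2, nat_lit 1, nat_lit 1, nat_lit 1, nat_lit 1, nat_lit 3, nat_lit 1, nat_lit 1, nat_lit 2, nat_lit 0, nat_lit 2, nat_lit 1, nat_lit 1, nat_lit 1, nat_lit 1, nat_lit 3, nat_lit 1, nat_lit 1, nat_lit 2, nat_lit 0, nat_lit 2, nat_lit 1, nat_lit 1, nat_lit 1, nat_lit 1, nat_lit 3, nat_lit 1, nat_lit 1, nat_lit 2, nat_lit 0, nat_lit 2, nat_lit 1, nat_lit 1, nat_lit 1, nat_lit 1, nat_lit 3, nat_lit 1, nat_lit 1, nat_lit 2, nat_lit 0, nat_lit 2, nat_lit 1, nat_lit 1, nat_lit 1, nat_lit 1, nat_lit 3, nat_lit 1, nat_lit 1, nat_lit 2, nat_lit 0, nat_lit 2]))) (.node (nat_lit 265) (.leaf (nat_lit 244) (nat_lit 3) [nat_lit 1, nat_lit 1, nat_lit 1, nat_lit 1, nat_lit 3, nat_lit 1, nat_lit 1, nat_lit 2, nat_lit 0, nat_lit 2, nat_lit 1, nat_lit 1, nat_lit 1, nat_lit 1, nat_lit 3, nat_lit 1, nat_lit 1, nat_lit 2, nat_lit 0, nat_lit 2, nat_lit 1, nat_lit 1, nat_lit 1, nat_lit 1, nat_lit 3, nat_lit 1, nat_lit 1, nat_lit 2, nat_lit 0, nat_lit 2, nat_lit 1, nat_lit 1, nat_lit 1, nat_lit 1, nat_lit 3, nat_lit 1, nat_lit 1, nat_lit 2, nat_lit 0, nat_lit 2, nat_lit 1, nat_lit 1, nat_lit 1, nat_lit 1, nat_lit 3, nat_lit 1, nat_lit 1, nat_lit 2, nat_lit 0, nat_lit 2, nat_lit 1, nat_lit 1, nat_lit 1, nat_lit 1, nat_lit 3, nat_lit 1, nat_lit 1, nat_lit 2, nat_lit 0, nat_lit 2, nat_lit 1, nat_lit 1, nat_lit 1, nat_lit 1, nat_lit 3, nat_lit 1, nat_lit 1, nat_lit 2, nat_lit 0]) (.node (nat_lit 266) (.leaf (nat_lit 245) (nat_lit 1) [nat_lit 2, nat_lit 1, nat_lit 1, nat_lit 1, nat_lit 1, nat_lit 3, nat_lit 1, nat_lit 1, nat_lit 2, nat_lit 0, nat_lit 2, nat_lit 1, nat_lit 1, nat_lit 1, nat_lit 1, nat_lit 3, nat_lit 1, nat_lit 1, nat_lit 2, nat_lit 0, nat_lit 2, nat_lit 1, nat_lit 1, nat_lit 1, nat_lit 1, nat_lit 3, nat_lit 1, nat_lit 1, nat_lit 2, nat_lit 0, nat_lit 2, nat_lit 1, nat_lit 1, nat_lit 1, nat_lit 1, nat_lit 3, nat_lit 1, nat_lit 1, nat_lit 2, nat_lit 0, nat_lit 2, nat_lit 1, nat_lit 1, nat_lit 1, nat_lit 1, nat_lit 3, nat_lit 1, nat_lit 1, nat_lit 2, nat_lit 0, nat_lit 2, nat_lit 1, nat_lit 1, nat_lit 1, nat_lit 1, nat_lit 3, nat_lit 1, nat_lit 1, nat_lit 2, nat_lit 0, nat_lit 2, nat_lit 1, nat_lit 1, nat_lit 1, nat_lit 1, nat_lit 3, nat_lit 1, nat_lit 1, nat_lit 2]) (.leaf (nat_lit 246) (nat_lit 3) [nat_lit 0, nat_lit 2, nat_lit 1, nat_lit 1, nat_lit 1, nat_lit 1, nat_lit 3, nat_lit 1, nat_lit 1, nat_lit 2, nat_lit 0, nat_lit 2, nat_lit 1, nat_lit 1, nat_lit 1, nat_lit 1, nat_lit 3, nat_lit 1, nat_lit 1, nat_lit 2, nat_lit 0, nat_lit 2, nat_lit 1, nat_lit 1, nat_lit 1, nat_lit 1, nat_lit 3, nat_lit 1, nat_lit 1, nat_lit 2, nat_lit 0, nat_lit 2, nat_lit 1, nat_lit 1, nat_lit 1, nat_lit 1, nat_lit 3, nat_lit 1, nat_lit 1, nat_lit 2, nat_lit 0, nat_lit 2, nat_lit 1, nat_lit 1, nat_lit 1, nat_lit 1, nat_lit 3, nat_lit 1, nat_lit 1, nat_lit 2, nat_lit 0, nat_lit 2, nat_lit 1, nat_lit 1, nat_lit 1, nat_lit 1, nat_lit 3, nat_lit 1, nat_lit 1, nat_lit 2, nat_lit 0, nat_lit 2, nat_lit 1, nat_lit 1, nat_lit 1, nat_lit 1, nat_lit 3, nat_lit 1, nat_lit 1])))) (.node (nat_lit 270) (.node (nat_lit 268) (.leaf (nat_lit 247) (nat_lit 0) [nat_lit 2, nat_lit 0, nat_lit 2, nat_lit 1, nat_lit 1, nat_lit 1, nat_lit 1, nat_lit 3, nat_lit 1, nat_lit 1, nat_lit 2, nat_lit 0, nat_lit 2, nat_lit 1, nat_lit 1, nat_lit 1, nat_lit 1, nat_lit 3, nat_lit 1, nat_lit 1, nat_lit 2, nat_lit 0, nat_lit 2, nat_lit 1, nat_lit 1, nat_lit 1, nat_lit 1, nat_lit 3, nat_lit 1, nat_lit 1, nat_lit 2, nat_lit 0, nat_lit 2, nat_lit 1, nat_lit 1, nat_lit 1, nat_lit 1, nat_lit 3, nat_lit 1, nat_lit 1, nat_lit 2, nat_lit 0, nat_lit 2, nat_lit 1, nat_lit 1, nat_lit 1, nat_lit 1, nat_lit 3, nat_lit 1, nat_lit 1, nat_lit 2, nat_lit 0, nat_lit 2, nat_lit 1, nat_lit 1, nat_lit 1, nat_lit 1, nat_lit 3, nat_lit 1, nat_lit 1, nat_lit 2, nat_lit 0, nat_lit 2, nat_lit 1, nat_lit 1, nat_lit 1, nat_lit 1, nat_lit 3, nat_lit 1]) (.node (nat_lit 269) (.leaf (nat_lit 238) (nat_lit 0) [nat_lit 1, nat_lit 2, nat_lit 0, nat_lit 2, nat_lit 1, nat_lit 1, nat_lit 1, nat_lit 1, nat_lit 3, nat_lit 1, nat_lit 1, nat_lit 2, nat_lit 0, nat_lit 2, nat_lit 1, nat_lit 1, nat_lit 1, nat_lit 1, nat_lit 3, nat_lit 1, nat_lit 1, nat_lit 2, nat_lit 0, nat_lit 2, nat_lit 1, nat_lit 1, nat_lit 1, nat_lit 1, nat_lit 3, nat_lit 1, nat_lit 1, nat_lit 2, nat_lit 0, nat_lit 2, nat_lit 1, nat_lit 1, nat_lit 1, nat_lit 1, nat_lit 3, nat_lit 1, nat_lit 1, nat_lit 2, nat_lit 0, nat_lit 2, nat_lit 1, nat_lit 1, nat_lit 1, nat_lit 1, nat_lit 3, nat_lit 1, nat_lit 1, nat_lit 2, nat_lit 0, nat_lit 2, nat_lit 1, nat_lit 1, nat_lit 1, nat_lit 1, nat_lit 3, nat_lit 1, nat_lit 1, nat_lit 2, nat_lit 0, nat_lit 2, nat_lit 1, nat_lit 1, nat_lit 1, nat_lit 1, nat_lit 3]) (.leaf (nat_lit 239) (nat_lit 2) [nat_lit 1, nat_lit 1, nat_lit 2, nat_lit 0, nat_lit 2, nat_lit 1, nat_lit 1, nat_lit 1, nat_lit 1, nat_lit 3, nat_lit 1, nat_lit 1, nat_lit 2, nat_lit 0, nat_lit 2, nat_lit 1, nat_lit 1, nat_lit 1, nat_lit 1, nat_lit 3, nat_lit 1, nat_lit 1, nat_lit 2, nat_lit 0, nat_lit 2, nat_lit 1, nat_lit 1, nat_lit 1, nat_lit 1, nat_lit 3, nat_lit 1, nat_lit 1, nat_lit 2, nat_lit 0, nat_lit 2, nat_lit 1, nat_lit 1, nat_lit 1, nat_lit 1, nat_lit 3, nat_lit 1, nat_lit 1, nat_lit 2, nat_lit 0, nat_lit 2, nat_lit 1, nat_lit 1, nat_lit 1, nat_lit 1, nat_lit 3, nat_lit 1, nat_lit 1, nat_lit 2, nat_lit 0, nat_lit 2, nat_lit 1, nat_lit 1, nat_lit 1, nat_lit 1, nat_lit 3, nat_lit 1, nat_lit 1, nat_lit 2, nat_lit 0, nat_lit 2, nat_lit 1, nat_lit 1, nat_lit 1, nat_lit 1]))) (.node (nat_lit 271) (.leaf (nat_lit 240) (nat_lit 0) [nat_lit 3, nat_lit 1, nat_lit 1, nat_lit 2, nat_lit 0, nat_lit 2, nat_lit 1, nat_lit 1, nat_lit 1, nat_lit 1, nat_lit 3, nat_lit 1, nat_lit 1, nat_lit 2, nat_lit 0, nat_lit 2, nat_lit 1, nat_lit 1, nat_lit 1, nat_lit 1, nat_lit 3, nat_lit 1, nat_lit 1, nat_lit 2, nat_lit 0, nat_lit 2, nat_lit 1, nat_lit 1, nat_lit 1, nat_lit 1, nat_lit 3, nat_lit 1, nat_lit 1, nat_lit 2, nat_lit 0, nat_lit 2, nat_lit 1, nat_lit 1, nat_lit 1, nat_lit 1, nat_lit 3, nat_lit 1, nat_lit 1, nat_lit 2, nat_lit 0, nat_lit 2, nat_lit 1, nat_lit 1, nat_lit 1, nat_lit 1, nat_lit 3, nat_lit 1, nat_lit 1, nat_lit 2, nat_lit 0, nat_lit 2, nat_lit 1, nat_lit 1, nat_lit 1, nat_lit 1, nat_lit 3, nat_lit 1, nat_lit 1, nat_lit 2, nat_lit 0, nat_lit 2, nat_lit 1, nat_lit 1, nat_lit 1]) (.node (nat_lit 272) (.leaf (nat_lit 241) (nat_lit 0) [nat_lit 1, nat_lit 3, nat_lit 1, nat_lit 1, nat_lit 2, nat_lit 0, nat_lit 2, nat_lit 1, nat_lit 1, nat_lit 1, nat_lit 1, nat_lit 3, nat_lit 1, nat_lit 1, nat_lit 2, nat_lit 0, nat_lit 2, nat_lit 1, nat_lit 1, nat_lit 1, nat_lit 1, nat_lit 3, nat_lit 1, nat_lit 1, nat_lit 2, nat_lit 0, nat_lit 2, nat_lit 1, nat_lit 1, nat_lit 1, nat_lit 1, nat_lit 3, nat_lit 1, nat_lit 1, nat_lit 2, nat_lit 0, nat_lit 2, nat_lit 1, nat_lit 1, nat_lit 1, nat_lit 1, nat_lit 3, nat_lit 1, nat_lit 1, nat_lit 2, nat_lit 0, nat_lit 2, nat_lit 1, nat_lit 1, nat_lit 1, nat_lit 1, nat_lit 3, nat_lit 1, nat_lit 1, nat_lit 2, nat_lit 0, nat_lit 2, nat_lit 1, nat_lit 1, nat_lit 1, nat_lit 1, nat_lit 3, nat_lit 1, nat_lit 1, nat_lit 2, nat_lit 0, nat_lit 2, nat_lit 1, nat_lit 1]) (.leaf (nat_lit 242) (nat_lit 0) [nat_lit 1, nat_lit 1, nat_lit 3, nat_lit 1, nat_lit 1, nat_lit 2, nat_lit 0, nat_lit 2, nat_lit 1, nat_lit 1, nat_lit 1, nat_lit 1, nat_lit 3, nat_lit 1, nat_lit 1, nat_lit 2, nat_lit 0, nat_lit 2, nat_lit 1, nat_lit 1, nat_lit 1, nat_lit 1, nat_lit 3, nat_lit 1, nat_lit 1, nat_lit 2, nat_lit 0, nat_lit 2, nat_lit 1, nat_lit 1, nat_lit 1, nat_lit 1, nat_lit 3, nat_lit 1, nat_lit 1, nat_lit 2, nat_lit 0, nat_lit 2, nat_lit 1, nat_lit 1, nat_lit 1, nat_lit 1, nat_lit 3, nat_lit 1, nat_lit 1, nat_lit 2, nat_lit 0, nat_lit 2, nat_lit 1, nat_lit 1, nat_lit 1, nat_lit 1, nat_lit 3, nat_lit 1, nat_lit 1, nat_lit 2, nat_lit 0, nat_lit 2, nat_lit 1, nat_lit 1, nat_lit 1, nat_lit 1, nat_lit 3, nat_lit 1, nat_lit 1, nat_lit 2, nat_lit 0, nat_lit 2, nat_lit 1]))))) (.node (nat_lit 279) (.node (nat_lit 276) (.node (nat_lit 274) (.leaf (nat_lit 243) (nat_lit 0) [nat_lit 1, nat_lit 1, nat_lit 1, nat_lit 3, nat_lit 1, nat_lit 1, nat_lit 2, nat_lit 0, nat_lit 2, nat_lit 1, nat_lit 1, nat_lit 1, nat_lit 1, nat_lit 3, nat_lit 1, nat_lit 1, nat_lit 2, nat_lit 0, nat_lit 2, nat_lit 1, nat_lit 1, nat_lit 1, nat_lit 1, nat_lit 3, nat_lit 1, nat_lit 1, nat_lit 2, nat_lit 0, nat_lit 2, nat_lit 1, nat_lit 1, nat_lit 1, nat_lit 1, nat_lit 3, nat_lit 1, nat_lit 1, nat_lit 2, nat_lit 0, nat_lit 2, nat_lit 1, nat_lit 1, nat_lit 1, nat_lit 1, nat_lit 3, nat_lit 1, nat_lit 1, nat_lit 2, nat_lit 0, nat_lit 2, nat_lit 1, nat_lit 1, nat_lit 1, nat_lit 1, nat_lit 3, nat_lit 1, nat_lit 1, nat_lit 2, nat_lit 0, nat_lit 2, nat_lit 1, nat_lit 1, nat_lit 1, nat_lit 1, nat_lit 3, nat_lit 1, nat_lit 1, nat_lit 2, nat_lit 0, nat_lit 2]) (.node (nat_lit 275) (.leaf (nat_lit 244) (nat_lit 3) [nat_lit 1, nat_lit 1, nat_lit 1, nat_lit 1, nat_lit 3, nat_lit 1, nat_lit 1, nat_lit 2, nat_lit 0, nat_lit 2, nat_lit 1, nat_lit 1, nat_lit 1, nat_lit 1, nat_lit 3, nat_lit 1, nat_lit 1, nat_lit 2, nat_lit 0, nat_lit 2, nat_lit 1, nat_lit 1, nat_lit 1, nat_lit 1, nat_lit 3, nat_lit 1, nat_lit 1, nat_lit 2, nat_lit 0, nat_lit 2, nat_lit 1, nat_lit 1, nat_lit 1, nat_lit 1, nat_lit 3, nat_lit 1, nat_lit 1, nat_lit 2, nat_lit 0, nat_lit 2, nat_lit 1, nat_lit 1, nat_lit 1, nat_lit 1, nat_lit 3, nat_lit 1, nat_lit 1, nat_lit 2, nat_lit 0, nat_lit 2, nat_lit 1, nat_lit 1, nat_lit 1, nat_lit 1, nat_lit 3, nat_lit 1, nat_lit 1, nat_lit 2, nat_lit 0, nat_lit 2, nat_lit 1, nat_lit 1, nat_lit 1, nat_lit 1, nat_lit 3, nat_lit 1, nat_lit 1, nat_lit 2, nat_lit 0]) (.leaf (nat_lit 245) (nat_lit 1) [nat_lit 2, nat_lit 1, nat_lit 1, nat_lit 1, nat_lit 1, nat_lit 3, nat_lit 1, nat_lit 1, nat_lit 2, nat_lit 0, nat_lit 2, nat_lit 1, nat_lit 1, nat_lit 1, nat_lit 1, nat_lit 3, nat_lit 1, nat_lit 1, nat_lit 2, nat_lit 0, nat_lit 2, nat_lit 1, nat_lit 1, nat_lit 1, nat_lit 1, nat_lit 3, nat_lit 1, nat_lit 1, nat_lit 2, nat_lit 0, nat_lit 2, nat_lit 1, nat_lit 1, nat_lit 1, nat_lit 1, nat_lit 3, nat_lit 1, nat_lit 1, nat_lit 2, nat_lit 0, nat_lit 2, nat_lit 1, nat_lit 1, nat_lit 1, nat_lit 1, nat_lit 3, nat_lit 1, nat_lit 1, nat_lit 2, nat_lit 0, nat_lit 2, nat_lit 1, nat_lit 1, nat_lit 1, nat_lit 1, nat_lit 3, nat_lit 1, nat_lit 1, nat_lit 2, nat_lit 0, nat_lit 2, nat_lit 1, nat_lit 1, nat_lit 1, nat_lit 1, nat_lit 3, nat_lit 1, nat_lit 1, nat_lit 2]))) (.node (nat_lit 277) (.leaf (nat_lit 246) (nat_lit 3) [nat_lit 0, nat_lit 2, nat_lit 1, nat_lit 1, nat_lit 1, nat_lit 1, nat_lit 3, nat_lit 1, nat_lit 1, nat_lit 2, nat_lit 0, nat_lit 2, nat_lit 1, nat_lit 1, nat_lit 1, nat_lit 1, nat_lit 3, nat_lit 1, nat_lit 1, nat_lit 2, nat_lit 0, nat_lit 2, nat_lit 1, nat_lit 1, nat_lit 1, nat_lit 1, nat_lit 3, nat_lit 1, nat_lit 1, nat_lit 2, nat_lit 0, nat_lit 2, nat_lit 1, nat_lit 1, nat_lit 1, nat_lit 1, nat_lit 3, nat_lit 1, nat_lit 1, nat_lit 2, nat_lit 0, nat_lit 2, nat_lit 1, nat_lit 1, nat_lit 1, nat_lit 1, nat_lit 3, nat_lit 1, nat_lit 1, nat_lit 2, nat_lit 0, nat_lit 2, nat_lit 1, nat_lit 1, nat_lit 1, nat_lit 1, nat_lit 3, nat_lit 1, nat_lit 1, nat_lit 2, nat_lit 0, nat_lit 2, nat_lit 1, nat_lit 1, nat_lit 1, nat_lit 1, nat_lit 3, nat_lit 1, nat_lit 1]) (.node (nat_lit 278) (.leaf (nat_lit 247) (nat_lit 0) [nat_lit 2, nat_lit 0, nat_lit 2, nat_lit 1, nat_lit 1, nat_lit 1, nat_lit 1, nat_lit 3, nat_lit 1, nat_lit 1, nat_lit 2, nat_lit 0, nat_lit 2, nat_lit 1, nat_lit 1, nat_lit 1, nat_lit 1, nat_lit 3, nat_lit 1, nat_lit 1, nat_lit 2, nat_lit 0, nat_lit 2, nat_lit 1, nat_lit 1, nat_lit 1, nat_lit 1, nat_lit 3, nat_lit 1, nat_lit 1, nat_lit 2, nat_lit 0, nat_lit 2, nat_lit 1, nat_lit 1, nat_lit 1, nat_lit 1, nat_lit 3, nat_lit 1, nat_lit 1, nat_lit 2, nat_lit 0, nat_lit 2, nat_lit 1, nat_lit 1, nat_lit 1, nat_lit 1, nat_lit 3, nat_lit 1, nat_lit 1, nat_lit 2, nat_lit 0, nat_lit 2, nat_lit 1, nat_lit 1, nat_lit 1, nat_lit 1, nat_lit 3, nat_lit 1, nat_lit 1, nat_lit 2, nat_lit 0, nat_lit 2, nat_lit 1, nat_lit 1, nat_lit 1, nat_lit 1, nat_lit 3, nat_lit 1]) (.leaf (nat_lit 238) (nat_lit 0) [nat_lit 1, nat_lit 2, nat_lit 0, nat_lit 2, nat_lit 1, nat_lit 1, nat_lit 1, nat_lit 1, nat_lit 3, nat_lit 1, nat_lit 1, nat_lit 2, nat_lit 0, nat_lit 2, nat_lit 1, nat_lit 1, nat_lit 1, nat_lit 1, nat_lit 3, nat_lit 1, nat_lit 1, nat_lit 2, nat_lit 0, nat_lit 2, nat_lit 1, nat_lit 1, nat_lit 1, nat_lit 1, nat_lit 3, nat_lit 1, nat_lit 1, nat_lit 2, nat_lit 0, nat_lit 2, nat_lit 1, nat_lit 1, nat_lit 1, nat_lit 1, nat_lit 3, nat_lit 1, nat_lit 1, nat_lit 2, nat_lit 0, nat_lit 2, nat_lit 1, nat_lit 1, nat_lit 1, nat_lit 1, nat_lit 3, nat_lit 1, nat_lit 1, nat_lit 2, nat_lit 0, nat_lit 2, nat_lit 1, nat_lit 1, nat_lit 1, nat_lit 1, nat_lit 3, nat_lit 1, nat_lit 1, nat_lit 2, nat_lit 0, nat_lit 2, nat_lit 1, nat_lit 1, nat_lit 1, nat_lit 1, nat_lit 3])))) (.node (nat_lit 282) (.node (nat_lit 280) (.leaf (nat_lit 239) (nat_lit 2) [nat_lit 1, nat_lit 1, nat_lit 2, nat_lit 0, nat_lit 2, nat_lit 1, nat_lit 1, nat_lit 1, nat_lit 1, nat_lit 3, nat_lit 1, nat_lit 1, nat_lit 2, nat_lit 0, nat_lit 2, nat_lit 1, nat_lit 1, nat_lit 1, nat_lit 1, nat_lit 3, nat_lit 1, nat_lit 1, nat_lit 2, nat_lit 0, nat_lit 2, nat_lit 1, nat_lit 1, nat_lit 1, nat_lit 1, nat_lit 3, nat_lit 1, nat_lit 1, nat_lit 2, nat_lit 0, nat_lit 2, nat_lit 1, nat_lit 1, nat_lit 1, nat_lit 1, nat_lit 3, nat_lit 1, nat_lit 1, nat_lit 2, nat_lit 0, nat_lit 2, nat_lit 1, nat_lit 1, nat_lit 1, nat_lit 1, nat_lit 3, nat_lit 1, nat_lit 1, nat_lit 2, nat_lit 0, nat_lit 2, nat_lit 1, nat_lit 1, nat_lit 1, nat_lit 1, nat_lit 3, nat_lit 1, nat_lit 1, nat_lit 2, nat_lit 0, nat_lit 2, nat_lit 1, nat_lit 1, nat_lit 1, nat_lit 1]) (.node (nat_lit 281) (.leaf (nat_lit 240) (nat_lit 0) [nat_lit 3, nat_lit 1, nat_lit 1, nat_lit 2, nat_lit 0, nat_lit 2, nat_lit 1, nat_lit 1, nat_lit 1, nat_lit 1, nat_lit 3, nat_lit 1, nat_lit 1, nat_lit 2, nat_lit 0, nat_lit 2, nat_lit 1, nat_lit 1, nat_lit 1, nat_lit 1, nat_lit 3, nat_lit 1, nat_lit 1, nat_lit 2, nat_lit 0, nat_lit 2, nat_lit 1, nat_lit 1, nat_lit 1, nat_lit 1, nat_lit 3, nat_lit 1, nat_lit 1, nat_lit 2, nat_lit 0, nat_lit 2, nat_lit 1, nat_lit 1, nat_lit 1, nat_lit 1, nat_lit 3, nat_lit 1, nat_lit 1, nat_lit 2, nat_lit 0, nat_lit 2, nat_lit 1, nat_lit 1, nat_lit 1, nat_lit 1, nat_lit 3, nat_lit 1, nat_lit 1, nat_lit 2, nat_lit 0, nat_lit 2, nat_lit 1, nat_lit 1, nat_lit 1, nat_lit 1, nat_lit 3, nat_lit 1, nat_lit 1, nat_lit 2, nat_lit 0, nat_lit 2, nat_lit 1, nat_lit 1, nat_lit 1]) (.leaf (nat_lit 241) (nat_lit 0) [nat_lit 1, nat_lit 3, nat_lit 1, nat_lit 1, nat_lit 2, nat_lit 0, nat_lit 2, nat_lit 1, nat_lit 1, nat_lit 1, nat_lit 1, nat_lit 3, nat_lit 1, nat_lit 1, nat_lit 2, nat_lit 0, nat_lit 2, nat_lit 1, nat_lit 1, nat_lit 1, nat_lit 1, nat_lit 3, nat_lit 1, nat_lit 1, nat_lit 2, nat_lit 0, nat_lit 2, nat_lit 1, nat_lit 1, nat_lit 1, nat_lit 1, nat_lit 3, nat_lit 1, nat_lit 1, nat_lit 2, nat_lit 0, nat_lit 2, nat_lit 1, nat_lit 1, nat_lit 1, nat_lit 1, nat_lit 3, nat_lit 1, nat_lit 1, nat_lit 2, nat_lit 0, nat_lit 2, nat_lit 1, nat_lit 1, nat_lit 1, nat_lit 1, nat_lit 3, nat_lit 1, nat_lit 1, nat_lit 2, nat_lit 0, nat_lit 2, nat_lit 1, nat_lit 1, nat_lit 1, nat_lit 1, nat_lit 3, nat_lit 1, nat_lit 1, nat_lit 2, nat_lit 0, nat_lit 2, nat_lit 1, nat_lit 1]))) (.node (nat_lit 283) (.leaf (nat_lit 242) (nat_lit 0) [nat_lit 1, nat_lit 1, nat_lit 3, nat_lit 1, nat_lit 1, nat_lit 2, nat_lit 0, nat_lit 2, nat_lit 1, nat_lit 1, nat_lit 1, nat_lit 1, nat_lit 3, nat_lit 1, nat_lit 1, nat_lit 2, nat_lit 0, nat_lit 2, nat_lit 1, nat_lit 1, nat_lit 1, nat_lit 1, nat_lit 3, nat_lit 1, nat_lit 1, nat_lit 2, nat_lit 0, nat_lit 2, nat_lit 1, nat_lit 1, nat_lit 1, nat_lit 1, nat_lit 3, nat_lit 1, nat_lit 1, nat_lit 2, nat_lit 0, nat_lit 2, nat_lit 1, nat_lit 1, nat_lit 1, nat_lit 1, nat_lit 3, nat_lit 1, nat_lit 1, nat_lit 2, nat_lit 0, nat_lit 2, nat_lit 1, nat_lit 1, nat_lit 1, nat_lit 1, nat_lit 3, nat_lit 1, nat_lit 1, nat_lit 2, nat_lit 0, nat_lit 2, nat_lit 1, nat_lit 1, nat_lit 1, nat_lit 1, nat_lit 3, nat_lit 1, nat_lit 1, nat_lit 2, nat_lit 0, nat_lit 2, nat_lit 1]) (.node (nat_lit 284) (.leaf (nat_lit 243) (nat_lit 0) [nat_lit 1, nat_lit 1, nat_lit 1, nat_lit 3, nat_lit 1, nat_lit 1, nat_lit 2, nat_lit 0, nat_lit 2, nat_lit 1, nat_lit 1, nat_lit 1, nat_lit 1, nat_lit 3, nat_lit 1, nat_lit 1, nat_lit 2, nat_lit 0, nat_lit 2, nat_lit 1, nat_lit 1, nat_lit 1, nat_lit 1, nat_lit 3, nat_lit 1, nat_lit 1, nat_lit 2, nat_lit 0, nat_lit 2, nat_lit 1, nat_lit 1, nat_lit 1, nat_lit 1, nat_lit 3, nat_lit 1, nat_lit 1, nat_lit 2, nat_lit 0, nat_lit 2, nat_lit 1, nat_lit 1, nat_lit 1, nat_lit 1, nat_lit 3, nat_lit 1, nat_lit 1, nat_lit 2, nat_lit 0, nat_lit 2, nat_lit 1, nat_lit 1, nat_lit 1, nat_lit 1, nat_lit 3, nat_lit 1, nat_lit 1, nat_lit 2, nat_lit 0, nat_lit 2, nat_lit 1, nat_lit 1, nat_lit 1, nat_lit 1, nat_lit 3, nat_lit 1, nat_lit 1, nat_lit 2, nat_lit 0, nat_lit 2]) (.leaf (nat_lit 244) (nat_lit 3) [nat_lit 1, nat_lit 1, nat_lit 1, nat_lit 1, nat_lit 3, nat_lit 1, nat_lit 1, nat_lit 2, nat_lit 0, nat_lit 2, nat_lit 1, nat_lit 1, nat_lit 1, nat_lit 1, nat_lit 3, nat_lit 1, nat_lit 1, nat_lit 2, nat_lit 0, nat_lit 2, nat_lit 1, nat_lit 1, nat_lit 1, nat_lit 1, nat_lit 3, nat_lit 1, nat_lit 1, nat_lit 2, nat_lit 0, nat_lit 2, nat_lit 1, nat_lit 1, nat_lit 1, nat_lit 1, nat_lit 3, nat_lit 1, nat_lit 1, nat_lit 2, nat_lit 0, nat_lit 2, nat_lit 1, nat_lit 1, nat_lit 1, nat_lit 1, nat_lit 3, nat_lit 1, nat_lit 1, nat_lit 2, nat_lit 0, nat_lit 2, nat_lit 1, nat_lit 1, nat_lit 1, nat_lit 1, nat_lit 3, nat_lit 1, nat_lit 1, nat_lit 2, nat_lit 0, nat_lit 2, nat_lit 1, nat_lit 1, nat_lit 1, nat_lit 1, nat_lit 3, nat_lit 1, nat_lit 1, nat_lit 2, nat_lit 0])))))))) (.node (nat_lit 333) (.node (nat_lit 309) (.node (nat_lit 297) (.node (nat_lit 291) (.node (nat_lit 288) (.node (nat_lit 286) (.leaf (nat_lit 245) (nat_lit 1) [nat_lit 2, nat_lit 1, nat_lit 1, nat_lit 1, nat_lit 1, nat_lit 3, nat_lit 1, nat_lit 1, nat_lit 2, nat_lit 0, nat_lit 2, nat_lit 1, nat_lit 1, nat_lit 1, nat_lit 1, nat_lit 3, nat_lit 1, nat_lit 1, nat_lit 2, nat_lit 0, nat_lit 2, nat_lit 1, nat_lit 1, nat_lit 1, nat_lit 1, nat_lit 3, nat_lit 1, nat_lit 1, nat_lit 2, nat_lit 0, nat_lit 2, nat_lit 1, nat_lit 1, nat_lit 1, nat_lit 1, nat_lit 3, nat_lit 1, nat_lit 1, nat_lit 2, nat_lit 0, nat_lit 2, nat_lit 1, nat_lit 1, nat_lit 1, nat_lit 1, nat_lit 3, nat_lit 1, nat_lit 1, nat_lit 2, nat_lit 0, nat_lit 2, nat_lit 1, nat_lit 1, nat_lit 1, nat_lit 1, nat_lit 3, nat_lit 1, nat_lit 1, nat_lit 2, nat_lit 0, nat_lit 2, nat_lit 1, nat_lit 1, nat_lit 1, nat_lit 1, nat_lit 3, nat_lit 1, nat_lit 1, nat_lit 2]) (.node (nat_lit 287) (.leaf (nat_lit 246) (nat_lit 3) [nat_lit 0, nat_lit 2, nat_lit 1, nat_lit 1, nat_lit 1, nat_lit 1, nat_lit 3, nat_lit 1, nat_lit 1, nat_lit 2, nat_lit 0, nat_lit 2, nat_lit 1, nat_lit 1, nat_lit 1, nat_lit 1, nat_lit 3, nat_lit 1, nat_lit 1, nat_lit 2, nat_lit 0, nat_lit 2, nat_lit 1, nat_lit 1, nat_lit 1, nat_lit 1, nat_lit 3, nat_lit 1, nat_lit 1, nat_lit 2, nat_lit 0, nat_lit 2, nat_lit 1, nat_lit 1, nat_lit 1, nat_lit 1, nat_lit 3, nat_lit 1, nat_lit 1, nat_lit 2, nat_lit 0, nat_lit 2, nat_lit 1, nat_lit 1, nat_lit 1, nat_lit 1, nat_lit 3, nat_lit 1, nat_lit 1, nat_lit 2, nat_lit 0, nat_lit 2, nat_lit 1, nat_lit 1, nat_lit 1, nat_lit 1, nat_lit 3, nat_lit 1, nat_lit 1, nat_lit 2, nat_lit 0, nat_lit 2, nat_lit 1, nat_lit 1, nat_lit 1, nat_lit 1, nat_lit 3, nat_lit 1, nat_lit 1]) (.leaf (nat_lit 247) (nat_lit 0) [nat_lit 2, nat_lit 0, nat_lit 2, nat_lit 1, nat_lit 1, nat_lit 1, nat_lit 1, nat_lit 3, nat_lit 1, nat_lit 1, nat_lit 2, nat_lit 0, nat_lit 2, nat_lit 1, nat_lit 1, nat_lit 1, nat_lit 1, nat_lit 3, nat_lit 1, nat_lit 1, nat_lit 2, nat_lit 0, nat_lit 2, nat_lit 1, nat_lit 1, nat_lit 1, nat_lit 1, nat_lit 3, nat_lit 1, nat_lit 1, nat_lit 2, nat_lit 0, nat_lit 2, nat_lit 1, nat_lit 1, nat_lit 1, nat_lit 1, nat_lit 3, nat_lit 1, nat_lit 1, nat_lit 2, nat_lit 0, nat_lit 2, nat_lit 1, nat_lit 1, nat_lit 1, nat_lit 1, nat_lit 3, nat_lit 1, nat_lit 1, nat_lit 2, nat_lit 0, nat_lit 2, nat_lit 1, nat_lit 1, nat_lit 1, nat_lit 1, nat_lit 3, nat_lit 1, nat_lit 1, nat_lit 2, nat_lit 0, nat_lit 2, nat_lit 1, nat_lit 1, nat_lit 1, nat_lit 1, nat_lit 3, nat_lit 1]))) (.node (nat_lit 289) (.leaf (nat_lit 238) (nat_lit 0) [nat_lit 1, nat_lit 2, nat_lit 0, nat_lit 2, nat_lit 1, nat_lit 1, nat_lit 1, nat_lit 1, nat_lit 3, nat_lit 1, nat_lit 1, nat_lit 2, nat_lit 0, nat_lit 2, nat_lit 1, nat_lit 1, nat_lit 1, nat_lit 1, nat_lit 3, nat_lit 1, nat_lit 1, nat_lit 2, nat_lit 0, nat_lit 2, nat_lit 1, nat_lit 1, nat_lit 1, nat_lit 1, nat_lit 3, nat_lit 1, nat_lit 1, nat_lit 2, nat_lit 0, nat_lit 2, nat_lit 1, nat_lit 1, nat_lit 1, nat_lit 1, nat_lit 3, nat_lit 1, nat_lit 1, nat_lit 2, nat_lit 0, nat_lit 2, nat_lit 1, nat_lit 1, nat_lit 1, nat_lit 1, nat_lit 3, nat_lit 1, nat_lit 1, nat_lit 2, nat_lit 0, nat_lit 2, nat_lit 1, nat_lit 1, nat_lit 1, nat_lit 1, nat_lit 3, nat_lit 1, nat_lit 1, nat_lit 2, nat_lit 0, nat_lit 2, nat_lit 1, nat_lit 1, nat_lit 1, nat_lit 1, nat_lit 3]) (.node (nat_lit 290) (.leaf (nat_lit 239) (nat_lit 2) [nat_lit 1, nat_lit 1, nat_lit 2, nat_lit 0, nat_lit 2, nat_lit 1, nat_lit 1, nat_lit 1, nat_lit 1, nat_lit 3, nat_lit 1, nat_lit 1, nat_lit 2, nat_lit 0, nat_lit 2, nat_lit 1, nat_lit 1, nat_lit 1, nat_lit 1, nat_lit 3, nat_lit 1, nat_lit 1, nat_lit 2, nat_lit 0, nat_lit 2, nat_lit 1, nat_lit 1, nat_lit 1, nat_lit 1, nat_lit 3, nat_lit 1, nat_lit 1, nat_lit 2, nat_lit 0, nat_lit 2, nat_lit 1, nat_lit 1, nat_lit 1, nat_lit 1, nat_lit 3, nat_lit 1, nat_lit 1, nat_lit 2, nat_lit 0, nat_lit 2, nat_lit 1, nat_lit 1, nat_lit 1, nat_lit 1, nat_lit 3, nat_lit 1, nat_lit 1, nat_lit 2, nat_lit 0, nat_lit 2, nat_lit 1, nat_lit 1, nat_lit 1, nat_lit 1, nat_lit 3, nat_lit 1, nat_lit 1, nat_lit 2, nat_lit 0, nat_lit 2, nat_lit 1, nat_lit 1, nat_lit 1, nat_lit 1]) (.leaf (nat_lit 240) (nat_lit 0) [nat_lit 3, nat_lit 1, nat_lit 1, nat_lit 2, nat_lit 0, nat_lit 2, nat_lit 1, nat_lit 1, nat_lit 1, nat_lit 1, nat_lit 3, nat_lit 1, nat_lit 1, nat_lit 2, nat_lit 0, nat_lit 2, nat_lit 1, nat_lit 1, nat_lit 1, nat_lit 1, nat_lit 3, nat_lit 1, nat_lit 1, nat_lit 2, nat_lit 0, nat_lit 2, nat_lit 1, nat_lit 1, nat_lit 1, nat_lit 1, nat_lit 3, nat_lit 1, nat_lit 1, nat_lit 2, nat_lit 0, nat_lit 2, nat_lit 1, nat_lit 1, nat_lit 1, nat_lit 1, nat_lit 3, nat_lit 1, nat_lit 1, nat_lit 2, nat_lit 0, nat_lit 2, nat_lit 1, nat_lit 1, nat_lit 1, nat_lit 1, nat_lit 3, nat_lit 1, nat_lit 1, nat_lit 2, nat_lit 0, nat_lit 2, nat_lit 1, nat_lit 1, nat_lit 1, nat_lit 1, nat_lit 3, nat_lit 1, nat_lit 1, nat_lit 2, nat_lit 0, nat_lit 2, nat_lit 1, nat_lit 1, nat_lit 1])))) (.node (nat_lit 294) (.node (nat_lit 292) (.leaf (nat_lit 241) (nat_lit 0) [nat_lit 1, nat_lit 3, nat_lit 1, nat_lit 1, nat_lit 2, nat_lit 0, nat_lit 2, nat_lit 1, nat_lit 1, nat_lit 1, nat_lit 1, nat_lit 3, nat_lit 1, nat_lit 1, nat_lit 2, nat_lit 0, nat_lit 2, nat_lit 1, nat_lit 1, nat_lit 1, nat_lit 1, nat_lit 3, nat_lit 1, nat_lit 1, nat_lit 2, nat_lit 0, nat_lit 2, nat_lit 1, nat_lit 1, nat_lit 1, nat_lit 1, nat_lit 3, nat_lit 1, nat_lit 1, nat_lit 2, nat_lit 0, nat_lit 2, nat_lit 1, nat_lit 1, nat_lit 1, nat_lit 1, nat_lit 3, nat_lit 1, nat_lit 1, nat_lit 2, nat_lit 0, nat_lit 2, nat_lit 1, nat_lit 1, nat_lit 1, nat_lit 1, nat_lit 3, nat_lit 1, nat_lit 1, nat_lit 2, nat_lit 0, nat_lit 2, nat_lit 1, nat_lit 1, nat_lit 1, nat_lit 1, nat_lit 3, nat_lit 1, nat_lit 1, nat_lit 2, nat_lit 0, nat_lit 2, nat_lit 1, nat_lit 1]) (.node (nat_lit 293) (.leaf (nat_lit 242) (nat_lit 0) [nat_lit 1, nat_lit 1, nat_lit 3, nat_lit 1, nat_lit 1, nat_lit 2, nat_lit 0, nat_lit 2, nat_lit 1, nat_lit 1, nat_lit 1, nat_lit 1, nat_lit 3, nat_lit 1, nat_lit 1, nat_lit 2, nat_lit 0, nat_lit 2, nat_lit 1, nat_lit 1, nat_lit 1, nat_lit 1, nat_lit 3, nat_lit 1, nat_lit 1, nat_lit 2, nat_lit 0, nat_lit 2, nat_lit 1, nat_lit 1, nat_lit 1, nat_lit 1, nat_lit 3, nat_lit 1, nat_lit 1, nat_lit 2, nat_lit 0, nat_lit 2, nat_lit 1, nat_lit 1, nat_lit 1, nat_lit 1, nat_lit 3, nat_lit 1, nat_lit 1, nat_lit 2, nat_lit 0, nat_lit 2, nat_lit 1, nat_lit 1, nat_lit 1, nat_lit 1, nat_lit 3, nat_lit 1, nat_lit 1, nat_lit 2, nat_lit 0, nat_lit 2, nat_lit 1, nat_lit 1, nat_lit 1, nat_lit 1, nat_lit 3, nat_lit 1, nat_lit 1, nat_lit 2, nat_lit 0, nat_lit 2, nat_lit 1]) (.leaf (nat_lit 243) (nat_lit 0) [nat_lit 1, nat_lit 1, nat_lit 1, nat_lit 3, nat_lit 1, nat_lit 1, nat_lit 2, nat_lit 0, nat_lit 2, nat_lit 1, nat_lit 1, nat_lit 1, nat_lit 1, nat_lit 3, nat_lit 1, nat_lit 1, nat_lit 2, nat_lit 0, nat_lit 2, nat_lit 1, nat_lit 1, nat_lit 1, nat_lit 1, nat_lit 3, nat_lit 1, nat_lit 1, nat_lit 2, nat_lit 0, nat_lit 2, nat_lit 1, nat_lit 1, nat_lit 1, nat_lit 1, nat_lit 3, nat_lit 1, nat_lit 1, nat_lit 2, nat_lit 0, nat_lit 2, nat_lit 1, nat_lit 1, nat_lit 1, nat_lit 1, nat_lit 3, nat_lit 1, nat_lit 1, nat_lit 2, nat_lit 0, nat_lit 2, nat_lit 1, nat_lit 1, nat_lit 1, nat_lit 1, nat_lit 3, nat_lit 1, nat_lit 1, nat_lit 2, nat_lit 0, nat_lit 2, nat_lit 1, nat_lit 1, nat_lit 1, nat_lit 1, nat_lit 3, nat_lit 1, nat_lit 1, nat_lit 2, nat_lit 0, nat_lit 2]))) (.node (nat_lit 295) (.leaf (nat_lit 244) (nat_lit 3) [nat_lit 1, nat_lit 1, nat_lit 1, nat_lit 1, nat_lit 3, nat_lit 1, nat_lit 1, nat_lit 2, nat_lit 0, nat_lit 2, nat_lit 1, nat_lit 1, nat_lit 1, nat_lit 1, nat_lit 3, nat_lit 1, nat_lit 1, nat_lit 2, nat_lit 0, nat_lit 2, nat_lit 1, nat_lit 1, nat_lit 1, nat_lit 1, nat_lit 3, nat_lit 1, nat_lit 1, nat_lit 2, nat_lit 0, nat_lit 2, nat_lit 1, nat_lit 1, nat_lit 1, nat_lit 1, nat_lit 3, nat_lit 1, nat_lit 1, nat_lit 2, nat_lit 0, nat_lit 2, nat_lit 1, nat_lit 1, nat_lit 1, nat_lit 1, nat_lit 3, nat_lit 1, nat_lit 1, nat_lit 2, nat_lit 0, nat_lit 2, nat_lit 1, nat_lit 1, nat_lit 1, nat_lit 1, nat_lit 3, nat_lit 1, nat_lit 1, nat_lit 2, nat_lit 0, nat_lit 2, nat_lit 1, nat_lit 1, nat_lit 1, nat_lit 1, nat_lit 3, nat_lit 1, nat_lit 1, nat_lit 2, nat_lit 0]) (.node (nat_lit 296) (.leaf (nat_lit 245) (nat_lit 1) [nat_lit 2, nat_lit 1, nat_lit 1, nat_lit 1, nat_lit 1, nat_lit 3, nat_lit 1, nat_lit 1, nat_lit 2, nat_lit 0, nat_lit 2, nat_lit 1, nat_lit 1, nat_lit 1, nat_lit 1, nat_lit 3, nat_lit 1, nat_lit 1, nat_lit 2, nat_lit 0, nat_lit 2, nat_lit 1, nat_lit 1, nat_lit 1, nat_lit 1, nat_lit 3, nat_lit 1, nat_lit 1, nat_lit 2, nat_lit 0, nat_lit 2, nat_lit 1, nat_lit 1, nat_lit 1, nat_lit 1, nat_lit 3, nat_lit 1, nat_lit 1, nat_lit 2, nat_lit 0, nat_lit 2, nat_lit 1, nat_lit 1, nat_lit 1, nat_lit 1, nat_lit 3, nat_lit 1, nat_lit 1, nat_lit 2, nat_lit 0, nat_lit 2, nat_lit 1, nat_lit 1, nat_lit 1, nat_lit 1, nat_lit 3, nat_lit 1, nat_lit 1, nat_lit 2, nat_lit 0, nat_lit 2, nat_lit 1, nat_lit 1, nat_lit 1, nat_lit 1, nat_lit 3, nat_lit 1, nat_lit 1, nat_lit 2]) (.leaf (nat_lit 246) (nat_lit 3) [nat_lit 0, nat_lit 2, nat_lit 1, nat_lit 1, nat_lit 1, nat_lit 1, nat_lit 3, nat_lit 1, nat_lit 1, nat_lit 2, nat_lit 0, nat_lit 2, nat_lit 1, nat_lit 1, nat_lit 1, nat_lit 1, nat_lit 3, nat_lit 1, nat_lit 1, nat_lit 2, nat_lit 0, nat_lit 2, nat_lit 1, nat_lit 1, nat_lit 1, nat_lit 1, nat_lit 3, nat_lit 1, nat_lit 1, nat_lit 2, nat_lit 0, nat_lit 2, nat_lit 1, nat_lit 1, nat_lit 1, nat_lit 1, nat_lit 3, nat_lit 1, nat_lit 1, nat_lit 2, nat_lit 0, nat_lit 2, nat_lit 1, nat_lit 1, nat_lit 1, nat_lit 1, nat_lit 3, nat_lit 1, nat_lit 1, nat_lit 2, nat_lit 0, nat_lit 2, nat_lit 1, nat_lit 1, nat_lit 1, nat_lit 1, nat_lit 3, nat_lit 1, nat_lit 1, nat_lit 2, nat_lit 0, nat_lit 2, nat_lit 1, nat_lit 1, nat_lit 1, nat_lit 1, nat_lit 3, nat_lit 1, nat_lit 1]))))) (.node (nat_lit 303) (.node (nat_lit 300) (.node (nat_lit 298) (.leaf (nat_lit 247) (nat_lit 0) [nat_lit 2, nat_lit 0, nat_lit 2, nat_lit 1, nat_lit 1, nat_lit 1, nat_lit 1, nat_lit 3, nat_lit 1, nat_lit 1, nat_lit 2, nat_lit 0, nat_lit 2, nat_lit 1, nat_lit 1, nat_lit 1, nat_lit 1, nat_lit 3, nat_lit 1, nat_lit 1, nat_lit 2, nat_lit 0, nat_lit 2, nat_lit 1, nat_lit 1, nat_lit 1, nat_lit 1, nat_lit 3, nat_lit 1, nat_lit 1, nat_lit 2, nat_lit 0, nat_lit 2, nat_lit 1, nat_lit 1, nat_lit 1, nat_lit 1, nat_lit 3, nat_lit 1, nat_lit 1, nat_lit 2, nat_lit 0, nat_lit 2, nat_lit 1, nat_lit 1, nat_lit 1, nat_lit 1, nat_lit 3, nat_lit 1, nat_lit 1, nat_lit 2, nat_lit 0, nat_lit 2, nat_lit 1, nat_lit 1, nat_lit 1, nat_lit 1, nat_lit 3, nat_lit 1, nat_lit 1, nat_lit 2, nat_lit 0, nat_lit 2, nat_lit 1, nat_lit 1, nat_lit 1, nat_lit 1, nat_lit 3, nat_lit 1]) (.node (nat_lit 299) (.leaf (nat_lit 238) (nat_lit 0) [nat_lit 1, nat_lit 2, nat_lit 0, nat_lit 2, nat_lit 1, nat_lit 1, nat_lit 1, nat_lit 1, nat_lit 3, nat_lit 1, nat_lit 1, nat_lit 2, nat_lit 0, nat_lit 2, nat_lit 1, nat_lit 1, nat_lit 1, nat_lit 1, nat_lit 3, nat_lit 1, nat_lit 1, nat_lit 2, nat_lit 0, nat_lit 2, nat_lit 1, nat_lit 1, nat_lit 1, nat_lit 1, nat_lit 3, nat_lit 1, nat_lit 1, nat_lit 2, nat_lit 0, nat_lit 2, nat_lit 1, nat_lit 1, nat_lit 1, nat_lit 1, nat_lit 3, nat_lit 1, nat_lit 1, nat_lit 2, nat_lit 0, nat_lit 2, nat_lit 1, nat_lit 1, nat_lit 1, nat_lit 1, nat_lit 3, nat_lit 1, nat_lit 1, nat_lit 2, nat_lit 0, nat_lit 2, nat_lit 1, nat_lit 1, nat_lit 1, nat_lit 1, nat_lit 3, nat_lit 1, nat_lit 1, nat_lit 2, nat_lit 0, nat_lit 2, nat_lit 1, nat_lit 1, nat_lit 1, nat_lit 1, nat_lit 3]) (.leaf (nat_lit 239) (nat_lit 2) [nat_lit 1, nat_lit 1, nat_lit 2, nat_lit 0, nat_lit 2, nat_lit 1, nat_lit 1, nat_lit 1, nat_lit 1, nat_lit 3, nat_lit 1, nat_lit 1, nat_lit 2, nat_lit 0, nat_lit 2, nat_lit 1, nat_lit 1, nat_lit 1, nat_lit 1, nat_lit 3, nat_lit 1, nat_lit 1, nat_lit 2, nat_lit 0, nat_lit 2, nat_lit 1, nat_lit 1, nat_lit 1, nat_lit 1, nat_lit 3, nat_lit 1, nat_lit 1, nat_lit 2, nat_lit 0, nat_lit 2, nat_lit 1, nat_lit 1, nat_lit 1, nat_lit 1, nat_lit 3, nat_lit 1, nat_lit 1, nat_lit 2, nat_lit 0, nat_lit 2, nat_lit 1, nat_lit 1, nat_lit 1, nat_lit 1, nat_lit 3, nat_lit 1, nat_lit 1, nat_lit 2, nat_lit 0, nat_lit 2, nat_lit 1, nat_lit 1, nat_lit 1, nat_lit 1, nat_lit 3, nat_lit 1, nat_lit 1, nat_lit 2, nat_lit 0, nat_lit 2, nat_lit 1, nat_lit 1, nat_lit 1, nat_lit 1]))) (.node (nat_lit 301) (.leaf (nat_lit 240) (nat_lit 0) [nat_lit 3, nat_lit 1, nat_lit 1, nat_lit 2, nat_lit 0, nat_lit 2, nat_lit 1, nat_lit 1, nat_lit 1, nat_lit 1, nat_lit 3, nat_lit 1, nat_lit 1, nat_lit 2, nat_lit 0, nat_lit 2, nat_lit 1, nat_lit 1, nat_lit 1, nat_lit 1, nat_lit 3, nat_lit 1, nat_lit 1, nat_lit 2, nat_lit 0, nat_lit 2, nat_lit 1, nat_lit 1, nat_lit 1, nat_lit 1, nat_lit 3, nat_lit 1, nat_lit 1, nat_lit 2, nat_lit 0, nat_lit 2, nat_lit 1, nat_lit 1, nat_lit 1, nat_lit 1, nat_lit 3, nat_lit 1, nat_lit 1, nat_lit 2, nat_lit 0, nat_lit 2, nat_lit 1, nat_lit 1, nat_lit 1, nat_lit 1, nat_lit 3, nat_lit 1, nat_lit 1, nat_lit 2, nat_lit 0, nat_lit 2, nat_lit 1, nat_lit 1, nat_lit 1, nat_lit 1, nat_lit 3, nat_lit 1, nat_lit 1, nat_lit 2, nat_lit 0, nat_lit 2, nat_lit 1, nat_lit 1, nat_lit 1]) (.node (nat_lit 302) (.leaf (nat_lit 241) (nat_lit 0) [nat_lit 1, nat_lit 3, nat_lit 1, nat_lit 1, nat_lit 2, nat_lit 0, nat_lit 2, nat_lit 1, nat_lit 1, nat_lit 1, nat_lit 1, nat_lit 3, nat_lit 1, nat_lit 1, nat_lit 2, nat_lit 0, nat_lit 2, nat_lit 1, nat_lit 1, nat_lit 1, nat_lit 1, nat_lit 3, nat_lit 1, nat_lit 1, nat_lit 2, nat_lit 0, nat_lit 2, nat_lit 1, nat_lit 1, nat_lit 1, nat_lit 1, nat_lit 3, nat_lit 1, nat_lit 1, nat_lit 2, nat_lit 0, nat_lit 2, nat_lit 1, nat_lit 1, nat_lit 1, nat_lit 1, nat_lit 3, nat_lit 1, nat_lit 1, nat_lit 2, nat_lit 0, nat_lit 2, nat_lit 1, nat_lit 1, nat_lit 1, nat_lit 1, nat_lit 3, nat_lit 1, nat_lit 1, nat_lit 2, nat_lit 0, nat_lit 2, nat_lit 1, nat_lit 1, nat_lit 1, nat_lit 1, nat_lit 3, nat_lit 1, nat_lit 1, nat_lit 2, nat_lit 0, nat_lit 2, nat_lit 1, nat_lit 1]) (.leaf (nat_lit 242) (nat_lit 0) [nat_lit 1, nat_lit 1, nat_lit 3, nat_lit 1, nat_lit 1, nat_lit 2, nat_lit 0, nat_lit 2, nat_lit 1, nat_lit 1, nat_lit 1, nat_lit 1, nat_lit 3, nat_lit 1, nat_lit 1, nat_lit 2, nat_lit 0, nat_lit 2, nat_lit 1, nat_lit 1, nat_lit 1, nat_lit 1, nat_lit 3, nat_lit 1, nat_lit 1, nat_lit 2, nat_lit 0, nat_lit 2, nat_lit 1, nat_lit 1, nat_lit 1, nat_lit 1, nat_lit 3, nat_lit 1, nat_lit 1, nat_lit 2, nat_lit 0, nat_lit 2, nat_lit 1, nat_lit 1, nat_lit 1, nat_lit 1, nat_lit 3, nat_lit 1, nat_lit 1, nat_lit 2, nat_lit 0, nat_lit 2, nat_lit 1, nat_lit 1, nat_lit 1, nat_lit 1, nat_lit 3, nat_lit 1, nat_lit 1, nat_lit 2, nat_lit 0, nat_lit 2, nat_lit 1, nat_lit 1, nat_lit 1, nat_lit 1, nat_lit 3, nat_lit 1, nat_lit 1, nat_lit 2, nat_lit 0, nat_lit 2, nat_lit 1])))) (.node (nat_lit 306) (.node (nat_lit 304) (.leaf (nat_lit 243) (nat_lit 0) [nat_lit 1, nat_lit 1, nat_lit 1, nat_lit 3, nat_lit 1, nat_lit 1, nat_lit 2, nat_lit 0, nat_lit 2, nat_lit 1, nat_lit 1, nat_lit 1, nat_lit 1, nat_lit 3, nat_lit 1, nat_lit 1, nat_lit 2, nat_lit 0, nat_lit 2, nat_lit 1, nat_lit 1, nat_lit 1, nat_lit 1, nat_lit 3, nat_lit 1, nat_lit 1, nat_lit 2, nat_lit 0, nat_lit 2, nat_lit 1, nat_lit 1, nat_lit 1, nat_lit 1, nat_lit 3, nat_lit 1, nat_lit 1, nat_lit 2, nat_lit 0, nat_lit 2, nat_lit 1, nat_lit 1, nat_lit 1, nat_lit 1, nat_lit 3, nat_lit 1, nat_lit 1, nat_lit 2, nat_lit 0, nat_lit 2, nat_lit 1, nat_lit 1, nat_lit 1, nat_lit 1, nat_lit 3, nat_lit 1, nat_lit 1, nat_lit 2, nat_lit 0, nat_lit 2, nat_lit 1, nat_lit 1, nat_lit 1, nat_lit 1, nat_lit 3, nat_lit 1, nat_lit 1, nat_lit 2, nat_lit 0, nat_lit 2]) (.node (nat_lit 305) (.leaf (nat_lit 244) (nat_lit 3) [nat_lit 1, nat_lit 1, nat_lit 1, nat_lit 1, nat_lit 3, nat_lit 1, nat_lit 1, nat_lit 2, nat_lit 0, nat_lit 2, nat_lit 1, nat_lit 1, nat_lit 1, nat_lit 1, nat_lit 3, nat_lit 1, nat_lit 1, nat_lit 2, nat_lit 0, nat_lit 2, nat_lit 1, nat_lit 1, nat_lit 1, nat_lit 1, nat_lit 3, nat_lit 1, nat_lit 1, nat_lit 2, nat_lit 0, nat_lit 2, nat_lit 1, nat_lit 1, nat_lit 1, nat_lit 1, nat_lit 3, nat_lit 1, nat_lit 1, nat_lit 2, nat_lit 0, nat_lit 2, nat_lit 1, nat_lit 1, nat_lit 1, nat_lit 1, nat_lit 3, nat_lit 1, nat_lit 1, nat_lit 2, nat_lit 0, nat_lit 2, nat_lit 1, nat_lit 1, nat_lit 1, nat_lit 1, nat_lit 3, nat_lit 1, nat_lit 1, nat_lit 2, nat_lit 0, nat_lit 2, nat_lit 1, nat_lit 1, nat_lit 1, nat_lit 1, nat_lit 3, nat_lit 1, nat_lit 1, nat_lit 2, nat_lit 0]) (.leaf (nat_lit 245) (nat_lit 1) [nat_lit 2, nat_lit 1, nat_lit 1, nat_lit 1, nat_lit 1, nat_lit 3, nat_lit 1, nat_lit 1, nat_lit 2, nat_lit 0, nat_lit 2, nat_lit 1, nat_lit 1, nat_lit 1, nat_lit 1, nat_lit 3, nat_lit 1, nat_lit 1, nat_lit 2, nat_lit 0, nat_lit 2, nat_lit 1, nat_lit 1, nat_lit 1, nat_lit 1, nat_lit 3, nat_lit 1, nat_lit 1, nat_lit 2, nat_lit 0, nat_lit 2, nat_lit 1, nat_lit 1, nat_lit 1, nat_lit 1, nat_lit 3, nat_lit 1, nat_lit 1, nat_lit 2, nat_lit 0, nat_lit 2, nat_lit 1, nat_lit 1, nat_lit 1, nat_lit 1, nat_lit 3, nat_lit 1, nat_lit 1, nat_lit 2, nat_lit 0, nat_lit 2, nat_lit 1, nat_lit 1, nat_lit 1, nat_lit 1, nat_lit 3, nat_lit 1, nat_lit 1, nat_lit 2, nat_lit 0, nat_lit 2, nat_lit 1, nat_lit 1, nat_lit 1, nat_lit 1, nat_lit 3, nat_lit 1, nat_lit 1, nat_lit 2]))) (.node (nat_lit 307) (.leaf (nat_lit 246) (nat_lit 3) [nat_lit 0, nat_lit 2, nat_lit 1, nat_lit 1, nat_lit 1, nat_lit 1, nat_lit 3, nat_lit 1, nat_lit 1, nat_lit 2, nat_lit 0, nat_lit 2, nat_lit 1, nat_lit 1, nat_lit 1, nat_lit 1, nat_lit 3, nat_lit 1, nat_lit 1, nat_lit 2, nat_lit 0, nat_lit 2, nat_lit 1, nat_lit 1, nat_lit 1, nat_lit 1, nat_lit 3, nat_lit 1, nat_lit 1, nat_lit 2, nat_lit 0, nat_lit 2, nat_lit 1, nat_lit 1, nat_lit 1, nat_lit 1, nat_lit 3, nat_lit 1, nat_lit 1, nat_lit 2, nat_lit 0, nat_lit 2, nat_lit 1, nat_lit 1, nat_lit 1, nat_lit 1, nat_lit 3, nat_lit 1, nat_lit 1, nat_lit 2, nat_lit 0, nat_lit 2, nat_lit 1, nat_lit 1, nat_lit 1, nat_lit 1, nat_lit 3, nat_lit 1, nat_lit 1, nat_lit 2, nat_lit 0, nat_lit 2, nat_lit 1, nat_lit 1, nat_lit 1, nat_lit 1, nat_lit 3, nat_lit 1, nat_lit 1]) (.node (nat_lit 308) (.leaf (nat_lit 247) (nat_lit 0) [nat_lit 2, nat_lit 0, nat_lit 2, nat_lit 1, nat_lit 1, nat_lit 1, nat_lit 1, nat_lit 3, nat_lit 1, nat_lit 1, nat_lit 2, nat_lit 0, nat_lit 2, nat_lit 1, nat_lit 1, nat_lit 1, nat_lit 1, nat_lit 3, nat_lit 1, nat_lit 1, nat_lit 2, nat_lit 0, nat_lit 2, nat_lit 1, nat_lit 1, nat_lit 1, nat_lit 1, nat_lit 3, nat_lit 1, nat_lit 1, nat_lit 2, nat_lit 0, nat_lit 2, nat_lit 1, nat_lit 1, nat_lit 1, nat_lit 1, nat_lit 3, nat_lit 1, nat_lit 1, nat_lit 2, nat_lit 0, nat_lit 2, nat_lit 1, nat_lit 1, nat_lit 1, nat_lit 1, nat_lit 3, nat_lit 1, nat_lit 1, nat_lit 2, nat_lit 0, nat_lit 2, nat_lit 1, nat_lit 1, nat_lit 1, nat_lit 1, nat_lit 3, nat_lit 1, nat_lit 1, nat_lit 2, nat_lit 0, nat_lit 2, nat_lit 1, nat_lit 1, nat_lit 1, nat_lit 1, nat_lit 3, nat_lit 1]) (.leaf (nat_lit 308) (nat_lit 1) [nat_lit 0, nat_lit 2, nat_lit 0, nat_lit 0, nat_lit 0, nat_lit 0, nat_lit 3, nat_lit 1, nat_lit 3, nat_lit 0, nat_lit 0, nat_lit 2, nat_lit 0, nat_lit 0, nat_lit 0, nat_lit 0, nat_lit 3, nat_lit 1, nat_lit 3, nat_lit 0, nat_lit 0, nat_lit 2, nat_lit 0, nat_lit 0, nat_lit 0, nat_lit 0, nat_lit 3, nat_lit 1, nat_lit 3, nat_lit 0, nat_lit 0, nat_lit 2, nat_lit 0, nat_lit 0, nat_lit 0, nat_lit 0, nat_lit 3, nat_lit 1, nat_lit 3, nat_lit 0, nat_lit 0, nat_lit 2, nat_lit 0, nat_lit 0, nat_lit 0, nat_lit 0, nat_lit 3, nat_lit 1, nat_lit 3, nat_lit 0, nat_lit 0, nat_lit 2, nat_lit 0, nat_lit 0, nat_lit 0, nat_lit 0, nat_lit 3, nat_lit 1, nat_lit 3, nat_lit 0, nat_lit 0, nat_lit 2, nat_lit 0, nat_lit 0, nat_lit 0, nat_lit 0, nat_lit 3, nat_lit 1, nat_lit 3])))))) (.node (nat_lit 321) (.node (nat_lit 315) (.node (nat_lit 312) (.node (nat_lit 310) (.leaf (nat_lit 309) (nat_lit 2) [nat_lit 0, nat_lit 0, nat_lit 2, nat_lit 0, nat_lit 0, nat_lit 0, nat_lit 0, nat_lit 3, nat_lit 1, nat_lit 3, nat_lit 0, nat_lit 0, nat_lit 2, nat_lit 0, nat_lit 0, nat_lit 0, nat_lit 0, nat_lit 3, nat_lit 1, nat_lit 3, nat_lit 0, nat_lit 0, nat_lit 2, nat_lit 0, nat_lit 0, nat_lit 0, nat_lit 0, nat_lit 3, nat_lit 1, nat_lit 3, nat_lit 0, nat_lit 0, nat_lit 2, nat_lit 0, nat_lit 0, nat_lit 0, nat_lit 0, nat_lit 3, nat_lit 1, nat_lit 3, nat_lit 0, nat_lit 0, nat_lit 2, nat_lit 0, nat_lit 0, nat_lit 0, nat_lit 0, nat_lit 3, nat_lit 1, nat_lit 3, nat_lit 0, nat_lit 0, nat_lit 2, nat_lit 0, nat_lit 0, nat_lit 0, nat_lit 0, nat_lit 3, nat_lit 1, nat_lit 3, nat_lit 0, nat_lit 0, nat_lit 2, nat_lit 0, nat_lit 0, nat_lit 0, nat_lit 0, nat_lit 3, nat_lit 1]) (.node (nat_lit 311) (.leaf (nat_lit 310) (nat_lit 0) [nat_lit 3, nat_lit 0, nat_lit 0, nat_lit 2, nat_lit 0, nat_lit 0, nat_lit 0, nat_lit 0, nat_lit 3, nat_lit 1, nat_lit 3, nat_lit 0, nat_lit 0, nat_lit 2, nat_lit 0, nat_lit 0, nat_lit 0, nat_lit 0, nat_lit 3, nat_lit 1, nat_lit 3, nat_lit 0, nat_lit 0, nat_lit 2, nat_lit 0, nat_lit 0, nat_lit 0, nat_lit 0, nat_lit 3, nat_lit 1, nat_lit 3, nat_lit 0, nat_lit 0, nat_lit 2, nat_lit 0, nat_lit 0, nat_lit 0, nat_lit 0, nat_lit 3, nat_lit 1, nat_lit 3, nat_lit 0, nat_lit 0, nat_lit 2, nat_lit 0, nat_lit 0, nat_lit 0, nat_lit 0, nat_lit 3, nat_lit 1, nat_lit 3, nat_lit 0, nat_lit 0, nat_lit 2, nat_lit 0, nat_lit 0, nat_lit 0, nat_lit 0, nat_lit 3, nat_lit 1, nat_lit 3, nat_lit 0, nat_lit 0, nat_lit 2, nat_lit 0, nat_lit 0, nat_lit 0, nat_lit 0, nat_lit 3]) (.leaf (nat_lit 311) (nat_lit 2) [nat_lit 1, nat_lit 3, nat_lit 0, nat_lit 0, nat_lit 2, nat_lit 0, nat_lit 0, nat_lit 0, nat_lit 0, nat_lit 3, nat_lit 1, nat_lit 3, nat_lit 0, nat_lit 0, nat_lit 2, nat_lit 0, nat_lit 0, nat_lit 0, nat_lit 0, nat_lit 3, nat_lit 1, nat_lit 3, nat_lit 0, nat_lit 0, nat_lit 2, nat_lit 0, nat_lit 0, nat_lit 0, nat_lit 0, nat_lit 3, nat_lit 1, nat_lit 3, nat_lit 0, nat_lit 0, nat_lit 2, nat_lit 0, nat_lit 0, nat_lit 0, nat_lit 0, nat_lit 3, nat_lit 1, nat_lit 3, nat_lit 0, nat_lit 0, nat_lit 2, nat_lit 0, nat_lit 0, nat_lit 0, nat_lit 0, nat_lit 3, nat_lit 1, nat_lit 3, nat_lit 0, nat_lit 0, nat_lit 2, nat_lit 0, nat_lit 0, nat_lit 0, nat_lit 0, nat_lit 3, nat_lit 1, nat_lit 3, nat_lit 0, nat_lit 0, nat_lit 2, nat_lit 0, nat_lit 0, nat_lit 0, nat_lit 0]))) (.node (nat_lit 313) (.leaf (nat_lit 312) (nat_lit 1) [nat_lit 3, nat_lit 1, nat_lit 3, nat_lit 0, nat_lit 0, nat_lit 2, nat_lit 0, nat_lit 0, nat_lit 0, nat_lit 0, nat_lit 3, nat_lit 1, nat_lit 3, nat_lit 0, nat_lit 0, nat_lit 2, nat_lit 0, nat_lit 0, nat_lit 0, nat_lit 0, nat_lit 3, nat_lit 1, nat_lit 3, nat_lit 0, nat_lit 0, nat_lit 2, nat_lit 0, nat_lit 0, nat_lit 0, nat_lit 0, nat_lit 3, nat_lit 1, nat_lit 3, nat_lit 0, nat_lit 0, nat_lit 2, nat_lit 0, nat_lit 0, nat_lit 0, nat_lit 0, nat_lit 3, nat_lit 1, nat_lit 3, nat_lit 0, nat_lit 0, nat_lit 2, nat_lit 0, nat_lit 0, nat_lit 0, nat_lit 0, nat_lit 3, nat_lit 1, nat_lit 3, nat_lit 0, nat_lit 0, nat_lit 2, nat_lit 0, nat_lit 0, nat_lit 0, nat_lit 0, nat_lit 3, nat_lit 1, nat_lit 3, nat_lit 0, nat_lit 0, nat_lit 2, nat_lit 0, nat_lit 0, nat_lit 0]) (.node (nat_lit 314) (.leaf (nat_lit 313) (nat_lit 1) [nat_lit 0, nat_lit 3, nat_lit 1, nat_lit 3, nat_lit 0, nat_lit 0, nat_lit 2, nat_lit 0, nat_lit 0, nat_lit 0, nat_lit 0, nat_lit 3, nat_lit 1, nat_lit 3, nat_lit 0, nat_lit 0, nat_lit 2, nat_lit 0, nat_lit 0, nat_lit 0, nat_lit 0, nat_lit 3, nat_lit 1, nat_lit 3, nat_lit 0, nat_lit 0, nat_lit 2, nat_lit 0, nat_lit 0, nat_lit 0, nat_lit 0, nat_lit 3, nat_lit 1, nat_lit 3, nat_lit 0, nat_lit 0, nat_lit 2, nat_lit 0, nat_lit 0, nat_lit 0, nat_lit 0, nat_lit 3, nat_lit 1, nat_lit 3, nat_lit 0, nat_lit 0, nat_lit 2, nat_lit 0, nat_lit 0, nat_lit 0, nat_lit 0, nat_lit 3, nat_lit 1, nat_lit 3, nat_lit 0, nat_lit 0, nat_lit 2, nat_lit 0, nat_lit 0, nat_lit 0, nat_lit 0, nat_lit 3, nat_lit 1, nat_lit 3, nat_lit 0, nat_lit 0, nat_lit 2, nat_lit 0, nat_lit 0]) (.leaf (nat_lit 314) (nat_lit 1) [nat_lit 0, nat_lit 0, nat_lit 3, nat_lit 1, nat_lit 3, nat_lit 0, nat_lit 0, nat_lit 2, nat_lit 0, nat_lit 0, nat_lit 0, nat_lit 0, nat_lit 3, nat_lit 1, nat_lit 3, nat_lit 0, nat_lit 0, nat_lit 2, nat_lit 0, nat_lit 0, nat_lit 0, nat_lit 0, nat_lit 3, nat_lit 1, nat_lit 3, nat_lit 0, nat_lit 0, nat_lit 2, nat_lit 0, nat_lit 0, nat_lit 0, nat_lit 0, nat_lit 3, nat_lit 1, nat_lit 3, nat_lit 0, nat_lit 0, nat_lit 2, nat_lit 0, nat_lit 0, nat_lit 0, nat_lit 0, nat_lit 3, nat_lit 1, nat_lit 3, nat_lit 0, nat_lit 0, nat_lit 2, nat_lit 0, nat_lit 0, nat_lit 0, nat_lit 0, nat_lit 3, nat_lit 1, nat_lit 3, nat_lit 0, nat_lit 0, nat_lit 2, nat_lit 0, nat_lit 0, nat_lit 0, nat_lit 0, nat_lit 3, nat_lit 1, nat_lit 3, nat_lit 0, nat_lit 0, nat_lit 2, nat_lit 0])))) (.node (nat_lit 318) (.node (nat_lit 316) (.leaf (nat_lit 315) (nat_lit 1) [nat_lit 0, nat_lit 0, nat_lit 0, nat_lit 3, nat_lit 1, nat_lit 3, nat_lit 0, nat_lit 0, nat_lit 2, nat_lit 0, nat_lit 0, nat_lit 0, nat_lit 0, nat_lit 3, nat_lit 1, nat_lit 3, nat_lit 0, nat_lit 0, nat_lit 2, nat_lit 0, nat_lit 0, nat_lit 0, nat_lit 0, nat_lit 3, nat_lit 1, nat_lit 3, nat_lit 0, nat_lit 0, nat_lit 2, nat_lit 0, nat_lit 0, nat_lit 0, nat_lit 0, nat_lit 3, nat_lit 1, nat_lit 3, nat_lit 0, nat_lit 0, nat_lit 2, nat_lit 0, nat_lit 0, nat_lit 0, nat_lit 0, nat_lit 3, nat_lit 1, nat_lit 3, nat_lit 0, nat_lit 0, nat_lit 2, nat_lit 0, nat_lit 0, nat_lit 0, nat_lit 0, nat_lit 3, nat_lit 1, nat_lit 3, nat_lit 0, nat_lit 0, nat_lit 2, nat_lit 0, nat_lit 0, nat_lit 0, nat_lit 0, nat_lit 3, nat_lit 1, nat_lit 3, nat_lit 0, nat_lit 0, nat_lit 2]) (.node (nat_lit 317) (.leaf (nat_lit 316) (nat_lit 3) [nat_lit 0, nat_lit 0, nat_lit 0, nat_lit 0, nat_lit 3, nat_lit 1, nat_lit 3, nat_lit 0, nat_lit 0, nat_lit 2, nat_lit 0, nat_lit 0, nat_lit 0, nat_lit 0, nat_lit 3, nat_lit 1, nat_lit 3, nat_lit 0, nat_lit 0, nat_lit 2, nat_lit 0, nat_lit 0, nat_lit 0, nat_lit 0, nat_lit 3, nat_lit 1, nat_lit 3, nat_lit 0, nat_lit 0, nat_lit 2, nat_lit 0, nat_lit 0, nat_lit 0, nat_lit 0, nat_lit 3, nat_lit 1, nat_lit 3, nat_lit 0, nat_lit 0, nat_lit 2, nat_lit 0, nat_lit 0, nat_lit 0, nat_lit 0, nat_lit 3, nat_lit 1, nat_lit 3, nat_lit 0, nat_lit 0, nat_lit 2, nat_lit 0, nat_lit 0, nat_lit 0, nat_lit 0, nat_lit 3, nat_lit 1, nat_lit 3, nat_lit 0, nat_lit 0, nat_lit 2, nat_lit 0, nat_lit 0, nat_lit 0, nat_lit 0, nat_lit 3, nat_lit 1, nat_lit 3, nat_lit 0, nat_lit 0]) (.leaf (nat_lit 317) (nat_lit 1) [nat_lit 2, nat_lit 0, nat_lit 0, nat_lit 0, nat_lit 0, nat_lit 3, nat_lit 1, nat_lit 3, nat_lit 0, nat_lit 0, nat_lit 2, nat_lit 0, nat_lit 0, nat_lit 0, nat_lit 0, nat_lit 3, nat_lit 1, nat_lit 3, nat_lit 0, nat_lit 0, nat_lit 2, nat_lit 0, nat_lit 0, nat_lit 0, nat_lit 0, nat_lit 3, nat_lit 1, nat_lit 3, nat_lit 0, nat_lit 0, nat_lit 2, nat_lit 0, nat_lit 0, nat_lit 0, nat_lit 0, nat_lit 3, nat_lit 1, nat_lit 3, nat_lit 0, nat_lit 0, nat_lit 2, nat_lit 0, nat_lit 0, nat_lit 0, nat_lit 0, nat_lit 3, nat_lit 1, nat_lit 3, nat_lit 0, nat_lit 0, nat_lit 2, nat_lit 0, nat_lit 0, nat_lit 0, nat_lit 0, nat_lit 3, nat_lit 1, nat_lit 3, nat_lit 0, nat_lit 0, nat_lit 2, nat_lit 0, nat_lit 0, nat_lit 0, nat_lit 0, nat_lit 3, nat_lit 1, nat_lit 3, nat_lit 0]))) (.node (nat_lit 319) (.leaf (nat_lit 308) (nat_lit 1) [nat_lit 0, nat_lit 2, nat_lit 0, nat_lit 0, nat_lit 0, nat_lit 0, nat_lit 3, nat_lit 1, nat_lit 3, nat_lit 0, nat_lit 0, nat_lit 2, nat_lit 0, nat_lit 0, nat_lit 0, nat_lit 0, nat_lit 3, nat_lit 1, nat_lit 3, nat_lit 0, nat_lit 0, nat_lit 2, nat_lit 0, nat_lit 0, nat_lit 0, nat_lit 0, nat_lit 3, nat_lit 1, nat_lit 3, nat_lit 0, nat_lit 0, nat_lit 2, nat_lit 0, nat_lit 0, nat_lit 0, nat_lit 0, nat_lit 3, nat_lit 1, nat_lit 3, nat_lit 0, nat_lit 0, nat_lit 2, nat_lit 0, nat_lit 0, nat_lit 0, nat_lit 0, nat_lit 3, nat_lit 1, nat_lit 3, nat_lit 0, nat_lit 0, nat_lit 2, nat_lit 0, nat_lit 0, nat_lit 0, nat_lit 0, nat_lit 3, nat_lit 1, nat_lit 3, nat_lit 0, nat_lit 0, nat_lit 2, nat_lit 0, nat_lit 0, nat_lit 0, nat_lit 0, nat_lit 3, nat_lit 1, nat_lit 3]) (.node (nat_lit 320) (.leaf (nat_lit 309) (nat_lit 2) [nat_lit 0, nat_lit 0, nat_lit 2, nat_lit 0, nat_lit 0, nat_lit 0, nat_lit 0, nat_lit 3, nat_lit 1, nat_lit 3, nat_lit 0, nat_lit 0, nat_lit 2, nat_lit 0, nat_lit 0, nat_lit 0, nat_lit 0, nat_lit 3, nat_lit 1, nat_lit 3, nat_lit 0, nat_lit 0, nat_lit 2, nat_lit 0, nat_lit 0, nat_lit 0, nat_lit 0, nat_lit 3, nat_lit 1, nat_lit 3, nat_lit 0, nat_lit 0, nat_lit 2, nat_lit 0, nat_lit 0, nat_lit 0, nat_lit 0, nat_lit 3, nat_lit 1, nat_lit 3, nat_lit 0, nat_lit 0, nat_lit 2, nat_lit 0, nat_lit 0, nat_lit 0, nat_lit 0, nat_lit 3, nat_lit 1, nat_lit 3, nat_lit 0, nat_lit 0, nat_lit 2, nat_lit 0, nat_lit 0, nat_lit 0, nat_lit 0, nat_lit 3, nat_lit 1, nat_lit 3, nat_lit 0, nat_lit 0, nat_lit 2, nat_lit 0, nat_lit 0, nat_lit 0, nat_lit 0, nat_lit 3, nat_lit 1]) (.leaf (nat_lit 310) (nat_lit 0) [nat_lit 3, nat_lit 0, nat_lit 0, nat_lit 2, nat_lit 0, nat_lit 0, nat_lit 0, nat_lit 0, nat_lit 3, nat_lit 1, nat_lit 3, nat_lit 0, nat_lit 0, nat_lit 2, nat_lit 0, nat_lit 0, nat_lit 0, nat_lit 0, nat_lit 3, nat_lit 1, nat_lit 3, nat_lit 0, nat_lit 0, nat_lit 2, nat_lit 0, nat_lit 0, nat_lit 0, nat_lit 0, nat_lit 3, nat_lit 1, nat_lit 3, nat_lit 0, nat_lit 0, nat_lit 2, nat_lit 0, nat_lit 0, nat_lit 0, nat_lit 0, nat_lit 3, nat_lit 1, nat_lit 3, nat_lit 0, nat_lit 0, nat_lit 2, nat_lit 0, nat_lit 0, nat_lit 0, nat_lit 0, nat_lit 3, nat_lit 1, nat_lit 3, nat_lit 0, nat_lit 0, nat_lit 2, nat_lit 0, nat_lit 0, nat_lit 0, nat_lit 0, nat_lit 3, nat_lit 1, nat_lit 3, nat_lit 0, nat_lit 0, nat_lit 2, nat_lit 0, nat_lit 0, nat_lit 0, nat_lit 0, nat_lit 3]))))) (.node (nat_lit 327) (.node (nat_lit 324) (.node (nat_lit 322) (.leaf (nat_lit 311) (nat_lit 2) [nat_lit 1, nat_lit 3, nat_lit 0, nat_lit 0, nat_lit 2, nat_lit 0, nat_lit 0, nat_lit 0, nat_lit 0, nat_lit 3, nat_lit 1, nat_lit 3, nat_lit 0, nat_lit 0, nat_lit 2, nat_lit 0, nat_lit 0, nat_lit 0, nat_lit 0, nat_lit 3, nat_lit 1, nat_lit 3, nat_lit 0, nat_lit 0, nat_lit 2, nat_lit 0, nat_lit 0, nat_lit 0, nat_lit 0, nat_lit 3, nat_lit 1, nat_lit 3, nat_lit 0, nat_lit 0, nat_lit 2, nat_lit 0, nat_lit 0, nat_lit 0, nat_lit 0, nat_lit 3, nat_lit 1, nat_lit 3, nat_lit 0, nat_lit 0, nat_lit 2, nat_lit 0, nat_lit 0, nat_lit 0, nat_lit 0, nat_lit 3, nat_lit 1, nat_lit 3, nat_lit 0, nat_lit 0, nat_lit 2, nat_lit 0, nat_lit 0, nat_lit 0, nat_lit 0, nat_lit 3, nat_lit 1, nat_lit 3, nat_lit 0, nat_lit 0, nat_lit 2, nat_lit 0, nat_lit 0, nat_lit 0, nat_lit 0]) (.node (nat_lit 323) (.leaf (nat_lit 312) (nat_lit 1) [nat_lit 3, nat_lit 1, nat_lit 3, nat_lit 0, nat_lit 0, nat_lit 2, nat_lit 0, nat_lit 0, nat_lit 0, nat_lit 0, nat_lit 3, nat_lit 1, nat_lit 3, nat_lit 0, nat_lit 0, nat_lit 2, nat_lit 0, nat_lit 0, nat_lit 0, nat_lit 0, nat_lit 3, nat_lit 1, nat_lit 3, nat_lit 0, nat_lit 0, nat_lit 2, nat_lit 0, nat_lit 0, nat_lit 0, nat_lit 0, nat_lit 3, nat_lit 1, nat_lit 3, nat_lit 0, nat_lit 0, nat_lit 2, nat_lit 0, nat_lit 0, nat_lit 0, nat_lit 0, nat_lit 3, nat_lit 1, nat_lit 3, nat_lit 0, nat_lit 0, nat_lit 2, nat_lit 0, nat_lit 0, nat_lit 0, nat_lit 0, nat_lit 3, nat_lit 1, nat_lit 3, nat_lit 0, nat_lit 0, nat_lit 2, nat_lit 0, nat_lit 0, nat_lit 0, nat_lit 0, nat_lit 3, nat_lit 1, nat_lit 3, nat_lit 0, nat_lit 0, nat_lit 2, nat_lit 0, nat_lit 0, nat_lit 0]) (.leaf (nat_lit 313) (nat_lit 1) [nat_lit 0, nat_lit 3, nat_lit 1, nat_lit 3, nat_lit 0, nat_lit 0, nat_lit 2, nat_lit 0, nat_lit 0, nat_lit 0, nat_lit 0, nat_lit 3, nat_lit 1, nat_lit 3, nat_lit 0, nat_lit 0, nat_lit 2, nat_lit 0, nat_lit 0, nat_lit 0, nat_lit 0, nat_lit 3, nat_lit 1, nat_lit 3, nat_lit 0, nat_lit 0, nat_lit 2, nat_lit 0, nat_lit 0, nat_lit 0, nat_lit 0, nat_lit 3, nat_lit 1, nat_lit 3, nat_lit 0, nat_lit 0, nat_lit 2, nat_lit 0, nat_lit 0, nat_lit 0, nat_lit 0, nat_lit 3, nat_lit 1, nat_lit 3, nat_lit 0, nat_lit 0, nat_lit 2, nat_lit 0, nat_lit 0, nat_lit 0, nat_lit 0, nat_lit 3, nat_lit 1, nat_lit 3, nat_lit 0, nat_lit 0, nat_lit 2, nat_lit 0, nat_lit 0, nat_lit 0, nat_lit 0, nat_lit 3, nat_lit 1, nat_lit 3, nat_lit 0, nat_lit 0, nat_lit 2, nat_lit 0, nat_lit 0]))) (.node (nat_lit 325) (.leaf (nat_lit 314) (nat_lit 1) [nat_lit 0, nat_lit 0, nat_lit 3, nat_lit 1, nat_lit 3, nat_lit 0, nat_lit 0, nat_lit 2, nat_lit 0, nat_lit 0, nat_lit 0, nat_lit 0, nat_lit 3, nat_lit 1, nat_lit 3, nat_lit 0, nat_lit 0, nat_lit 2, nat_lit 0, nat_lit 0, nat_lit 0, nat_lit 0, nat_lit 3, nat_lit 1, nat_lit 3, nat_lit 0, nat_lit 0, nat_lit 2, nat_lit 0, nat_lit 0, nat_lit 0, nat_lit 0, nat_lit 3, nat_lit 1, nat_lit 3, nat_lit 0, nat_lit 0, nat_lit 2, nat_lit 0, nat_lit 0, nat_lit 0, nat_lit 0, nat_lit 3, nat_lit 1, nat_lit 3, nat_lit 0, nat_lit 0, nat_lit 2, nat_lit 0, nat_lit 0, nat_lit 0, nat_lit 0, nat_lit 3, nat_lit 1, nat_lit 3, nat_lit 0, nat_lit 0, nat_lit 2, nat_lit 0, nat_lit 0, nat_lit 0, nat_lit 0, nat_lit 3, nat_lit 1, nat_lit 3, nat_lit 0, nat_lit 0, nat_lit 2, nat_lit 0]) (.node (nat_lit 326) (.leaf (nat_lit 315) (nat_lit 1) [nat_lit 0, nat_lit 0, nat_lit 0, nat_lit 3, nat_lit 1, nat_lit 3, nat_lit 0, nat_lit 0, nat_lit 2, nat_lit 0, nat_lit 0, nat_lit 0, nat_lit 0, nat_lit 3, nat_lit 1, nat_lit 3, nat_lit 0, nat_lit 0, nat_lit 2, nat_lit 0, nat_lit 0, nat_lit 0, nat_lit 0, nat_lit 3, nat_lit 1, nat_lit 3, nat_lit 0, nat_lit 0, nat_lit 2, nat_lit 0, nat_lit 0, nat_lit 0, nat_lit 0, nat_lit 3, nat_lit 1, nat_lit 3, nat_lit 0, nat_lit 0, nat_lit 2, nat_lit 0, nat_lit 0, nat_lit 0, nat_lit 0, nat_lit 3, nat_lit 1, nat_lit 3, nat_lit 0, nat_lit 0, nat_lit 2, nat_lit 0, nat_lit 0, nat_lit 0, nat_lit 0, nat_lit 3, nat_lit 1, nat_lit 3, nat_lit 0, nat_lit 0, nat_lit 2, nat_lit 0, nat_lit 0, nat_lit 0, nat_lit 0, nat_lit 3, nat_lit 1, nat_lit 3, nat_lit 0, nat_lit 0, nat_lit 2]) (.leaf (nat_lit 316) (nat_lit 3) [nat_lit 0, nat_lit 0, nat_lit 0, nat_lit 0, nat_lit 3, nat_lit 1, nat_lit 3, nat_lit 0, nat_lit 0, nat_lit 2, nat_lit 0, nat_lit 0, nat_lit 0, nat_lit 0, nat_lit 3, nat_lit 1, nat_lit 3, nat_lit 0, nat_lit 0, nat_lit 2, nat_lit 0, nat_lit 0, nat_lit 0, nat_lit 0, nat_lit 3, nat_lit 1, nat_lit 3, nat_lit 0, nat_lit 0, nat_lit 2, nat_lit 0, nat_lit 0, nat_lit 0, nat_lit 0, nat_lit 3, nat_lit 1, nat_lit 3, nat_lit 0, nat_lit 0, nat_lit 2, nat_lit 0, nat_lit 0, nat_lit 0, nat_lit 0, nat_lit 3, nat_lit 1, nat_lit 3, nat_lit 0, nat_lit 0, nat_lit 2, nat_lit 0, nat_lit 0, nat_lit 0, nat_lit 0, nat_lit 3, nat_lit 1, nat_lit 3, nat_lit 0, nat_lit 0, nat_lit 2, nat_lit 0, nat_lit 0, nat_lit 0, nat_lit 0, nat_lit 3, nat_lit 1, nat_lit 3, nat_lit 0, nat_lit 0])))) (.node (nat_lit 330) (.node (nat_lit 328) (.leaf (nat_lit 317) (nat_lit 1) [nat_lit 2, nat_lit 0, nat_lit 0, nat_lit 0, nat_lit 0, nat_lit 3, nat_lit 1, nat_lit 3, nat_lit 0, nat_lit 0, nat_lit 2, nat_lit 0, nat_lit 0, nat_lit 0, nat_lit 0, nat_lit 3, nat_lit 1, nat_lit 3, nat_lit 0, nat_lit 0, nat_lit 2, nat_lit 0, nat_lit 0, nat_lit 0, nat_lit 0, nat_lit 3, nat_lit 1, nat_lit 3, nat_lit 0, nat_lit 0, nat_lit 2, nat_lit 0, nat_lit 0, nat_lit 0, nat_lit 0, nat_lit 3, nat_lit 1, nat_lit 3, nat_lit 0, nat_lit 0, nat_lit 2, nat_lit 0, nat_lit 0, nat_lit 0, nat_lit 0, nat_lit 3, nat_lit 1, nat_lit 3, nat_lit 0, nat_lit 0, nat_lit 2, nat_lit 0, nat_lit 0, nat_lit 0, nat_lit 0, nat_lit 3, nat_lit 1, nat_lit 3, nat_lit 0, nat_lit 0, nat_lit 2, nat_lit 0, nat_lit 0, nat_lit 0, nat_lit 0, nat_lit 3, nat_lit 1, nat_lit 3, nat_lit 0]) (.node (nat_lit 329) (.leaf (nat_lit 308) (nat_lit 1) [nat_lit 0, nat_lit 2, nat_lit 0, nat_lit 0, nat_lit 0, nat_lit 0, nat_lit 3, nat_lit 1, nat_lit 3, nat_lit 0, nat_lit 0, nat_lit 2, nat_lit 0, nat_lit 0, nat_lit 0, nat_lit 0, nat_lit 3, nat_lit 1, nat_lit 3, nat_lit 0, nat_lit 0, nat_lit 2, nat_lit 0, nat_lit 0, nat_lit 0, nat_lit 0, nat_lit 3, nat_lit 1, nat_lit 3, nat_lit 0, nat_lit 0, nat_lit 2, nat_lit 0, nat_lit 0, nat_lit 0, nat_lit 0, nat_lit 3, nat_lit 1, nat_lit 3, nat_lit 0, nat_lit 0, nat_lit 2, nat_lit 0, nat_lit 0, nat_lit 0, nat_lit 0, nat_lit 3, nat_lit 1, nat_lit 3, nat_lit 0, nat_lit 0, nat_lit 2, nat_lit 0, nat_lit 0, nat_lit 0, nat_lit 0, nat_lit 3, nat_lit 1, nat_lit 3, nat_lit 0, nat_lit 0, nat_lit 2, nat_lit 0, nat_lit 0, nat_lit 0, nat_lit 0, nat_lit 3, nat_lit 1, nat_lit 3]) (.leaf (nat_lit 309) (nat_lit 2) [nat_lit 0, nat_lit 0, nat_lit 2, nat_lit 0, nat_lit 0, nat_lit 0, nat_lit 0, nat_lit 3, nat_lit 1, nat_lit 3, nat_lit 0, nat_lit 0, nat_lit 2, nat_lit 0, nat_lit 0, nat_lit 0, nat_lit 0, nat_lit 3, nat_lit 1, nat_lit 3, nat_lit 0, nat_lit 0, nat_lit 2, nat_lit 0, nat_lit 0, nat_lit 0, nat_lit 0, nat_lit 3, nat_lit 1, nat_lit 3, nat_lit 0, nat_lit 0, nat_lit 2, nat_lit 0, nat_lit 0, nat_lit 0, nat_lit 0, nat_lit 3, nat_lit 1, nat_lit 3, nat_lit 0, nat_lit 0, nat_lit 2, nat_lit 0, nat_lit 0, nat_lit 0, nat_lit 0, nat_lit 3, nat_lit 1, nat_lit 3, nat_lit 0, nat_lit 0, nat_lit 2, nat_lit 0, nat_lit 0, nat_lit 0, nat_lit 0, nat_lit 3, nat_lit 1, nat_lit 3, nat_lit 0, nat_lit 0, nat_lit 2, nat_lit 0, nat_lit 0, nat_lit 0, nat_lit 0, nat_lit 3, nat_lit 1]))) (.node (nat_lit 331) (.leaf (nat_lit 310) (nat_lit 0) [nat_lit 3, nat_lit 0, nat_lit 0, nat_lit 2, nat_lit 0, nat_lit 0, nat_lit 0, nat_lit 0, nat_lit 3, nat_lit 1, nat_lit 3, nat_lit 0, nat_lit 0, nat_lit 2, nat_lit 0, nat_lit 0, nat_lit 0, nat_lit 0, nat_lit 3, nat_lit 1, nat_lit 3, nat_lit 0, nat_lit 0, nat_lit 2, nat_lit 0, nat_lit 0, nat_lit 0, nat_lit 0, nat_lit 3, nat_lit 1, nat_lit 3, nat_lit 0, nat_lit 0, nat_lit 2, nat_lit 0, nat_lit 0, nat_lit 0, nat_lit 0, nat_lit 3, nat_lit 1, nat_lit 3, nat_lit 0, nat_lit 0, nat_lit 2, nat_lit 0, nat_lit 0, nat_lit 0, nat_lit 0, nat_lit 3, nat_lit 1, nat_lit 3, nat_lit 0, nat_lit 0, nat_lit 2, nat_lit 0, nat_lit 0, nat_lit 0, nat_lit 0, nat_lit 3, nat_lit 1, nat_lit 3, nat_lit 0, nat_lit 0, nat_lit 2, nat_lit 0, nat_lit 0, nat_lit 0, nat_lit 0, nat_lit 3]) (.node (nat_lit 332) (.leaf (nat_lit 311) (nat_lit 2) [nat_lit 1, nat_lit 3, nat_lit 0, nat_lit 0, nat_lit 2, nat_lit 0, nat_lit 0, nat_lit 0, nat_lit 0, nat_lit 3, nat_lit 1, nat_lit 3, nat_lit 0, nat_lit 0, nat_lit 2, nat_lit 0, nat_lit 0, nat_lit 0, nat_lit 0, nat_lit 3, nat_lit 1, nat_lit 3, nat_lit 0, nat_lit 0, nat_lit 2, nat_lit 0, nat_lit 0, nat_lit 0, nat_lit 0, nat_lit 3, nat_lit 1, nat_lit 3, nat_lit 0, nat_lit 0, nat_lit 2, nat_lit 0, nat_lit 0, nat_lit 0, nat_lit 0, nat_lit 3, nat_lit 1, nat_lit 3, nat_lit 0, nat_lit 0, nat_lit 2, nat_lit 0, nat_lit 0, nat_lit 0, nat_lit 0, nat_lit 3, nat_lit 1, nat_lit 3, nat_lit 0, nat_lit 0, nat_lit 2, nat_lit 0, nat_lit 0, nat_lit 0, nat_lit 0, nat_lit 3, nat_lit 1, nat_lit 3, nat_lit 0, nat_lit 0, nat_lit 2, nat_lit 0, nat_lit 0, nat_lit 0, nat_lit 0]) (.leaf (nat_lit 312) (nat_lit 1) [nat_lit 3, nat_lit 1, nat_lit 3, nat_lit 0, nat_lit 0, nat_lit 2, nat_lit 0, nat_lit 0, nat_lit 0, nat_lit 0, nat_lit 3, nat_lit 1, nat_lit 3, nat_lit 0, nat_lit 0, nat_lit 2, nat_lit 0, nat_lit 0, nat_lit 0, nat_lit 0, nat_lit 3, nat_lit 1, nat_lit 3, nat_lit 0, nat_lit 0, nat_lit 2, nat_lit 0, nat_lit 0, nat_lit 0, nat_lit 0, nat_lit 3, nat_lit 1, nat_lit 3, nat_lit 0, nat_lit 0, nat_lit 2, nat_lit 0, nat_lit 0, nat_lit 0, nat_lit 0, nat_lit 3, nat_lit 1, nat_lit 3, nat_lit 0, nat_lit 0, nat_lit 2, nat_lit 0, nat_lit 0, nat_lit 0, nat_lit 0, nat_lit 3, nat_lit 1, nat_lit 3, nat_lit 0, nat_lit 0, nat_lit 2, nat_lit 0, nat_lit 0, nat_lit 0, nat_lit 0, nat_lit 3, nat_lit 1, nat_lit 3, nat_lit 0, nat_lit 0, nat_lit 2, nat_lit 0, nat_lit 0, nat_lit 0]))))))) (.node (nat_lit 357) (.node (nat_lit 345) (.node (nat_lit 339) (.node (nat_lit 336) (.node (nat_lit 334) (.leaf (nat_lit 313) (nat_lit 1) [nat_lit 0, nat_lit 3, nat_lit 1, nat_lit 3, nat_lit 0, nat_lit 0, nat_lit 2, nat_lit 0, nat_lit 0, nat_lit 0, nat_lit 0, nat_lit 3, nat_lit 1, nat_lit 3, nat_lit 0, nat_lit 0, nat_lit 2, nat_lit 0, nat_lit 0, nat_lit 0, nat_lit 0, nat_lit 3, nat_lit 1, nat_lit 3, nat_lit 0, nat_lit 0, nat_lit 2, nat_lit 0, nat_lit 0, nat_lit 0, nat_lit 0, nat_lit 3, nat_lit 1, nat_lit 3, nat_lit 0, nat_lit 0, nat_lit 2, nat_lit 0, nat_lit 0, nat_lit 0, nat_lit 0, nat_lit 3, nat_lit 1, nat_lit 3, nat_lit 0, nat_lit 0, nat_lit 2, nat_lit 0, nat_lit 0, nat_lit 0, nat_lit 0, nat_lit 3, nat_lit 1, nat_lit 3, nat_lit 0, nat_lit 0, nat_lit 2, nat_lit 0, nat_lit 0, nat_lit 0, nat_lit 0, nat_lit 3, nat_lit 1, nat_lit 3, nat_lit 0, nat_lit 0, nat_lit 2, nat_lit 0, nat_lit 0]) (.node (nat_lit 335) (.leaf (nat_lit 314) (nat_lit 1) [nat_lit 0, nat_lit 0, nat_lit 3, nat_lit 1, nat_lit 3, nat_lit 0, nat_lit 0, nat_lit 2, nat_lit 0, nat_lit 0, nat_lit 0, nat_lit 0, nat_lit 3, nat_lit 1, nat_lit 3, nat_lit 0, nat_lit 0, nat_lit 2, nat_lit 0, nat_lit 0, nat_lit 0, nat_lit 0, nat_lit 3, nat_lit 1, nat_lit 3, nat_lit 0, nat_lit 0, nat_lit 2, nat_lit 0, nat_lit 0, nat_lit 0, nat_lit 0, nat_lit 3, nat_lit 1, nat_lit 3, nat_lit 0, nat_lit 0, nat_lit 2, nat_lit 0, nat_lit 0, nat_lit 0, nat_lit 0, nat_lit 3, nat_lit 1, nat_lit 3, nat_lit 0, nat_lit 0, nat_lit 2, nat_lit 0, nat_lit 0, nat_lit 0, nat_lit 0, nat_lit 3, nat_lit 1, nat_lit 3, nat_lit 0, nat_lit 0, nat_lit 2, nat_lit 0, nat_lit 0, nat_lit 0, nat_lit 0, nat_lit 3, nat_lit 1, nat_lit 3, nat_lit 0, nat_lit 0, nat_lit 2, nat_lit 0]) (.leaf (nat_lit 315) (nat_lit 1) [nat_lit 0, nat_lit 0, nat_lit 0, nat_lit 3, nat_lit 1, nat_lit 3, nat_lit 0, nat_lit 0, nat_lit 2, nat_lit 0, nat_lit 0, nat_lit 0, nat_lit 0, nat_lit 3, nat_lit 1, nat_lit 3, nat_lit 0, nat_lit 0, nat_lit 2, nat_lit 0, nat_lit 0, nat_lit 0, nat_lit 0, nat_lit 3, nat_lit 1, nat_lit 3, nat_lit 0, nat_lit 0, nat_lit 2, nat_lit 0, nat_lit 0, nat_lit 0, nat_lit 0, nat_lit 3, nat_lit 1, nat_lit 3, nat_lit 0, nat_lit 0, nat_lit 2, nat_lit 0, nat_lit 0, nat_lit 0, nat_lit 0, nat_lit 3, nat_lit 1, nat_lit 3, nat_lit 0, nat_lit 0, nat_lit 2, nat_lit 0, nat_lit 0, nat_lit 0, nat_lit 0, nat_lit 3, nat_lit 1, nat_lit 3, nat_lit 0, nat_lit 0, nat_lit 2, nat_lit 0, nat_lit 0, nat_lit 0, nat_lit 0, nat_lit 3, nat_lit 1, nat_lit 3, nat_lit 0, nat_lit 0, nat_lit 2]))) (.node (nat_lit 337) (.leaf (nat_lit 316) (nat_lit 3) [nat_lit 0, nat_lit 0, nat_lit 0, nat_lit 0, nat_lit 3, nat_lit 1, nat_lit 3, nat_lit 0, nat_lit 0, nat_lit 2, nat_lit 0, nat_lit 0, nat_lit 0, nat_lit 0, nat_lit 3, nat_lit 1, nat_lit 3, nat_lit 0, nat_lit 0, nat_lit 2, nat_lit 0, nat_lit 0, nat_lit 0, nat_lit 0, nat_lit 3, nat_lit 1, nat_lit 3, nat_lit 0, nat_lit 0, nat_lit 2, nat_lit 0, nat_lit 0, nat_lit 0, nat_lit 0, nat_lit 3, nat_lit 1, nat_lit 3, nat_lit 0, nat_lit 0, nat_lit 2, nat_lit 0, nat_lit 0, nat_lit 0, nat_lit 0, nat_lit 3, nat_lit 1, nat_lit 3, nat_lit 0, nat_lit 0, nat_lit 2, nat_lit 0, nat_lit 0, nat_lit 0, nat_lit 0, nat_lit 3, nat_lit 1, nat_lit 3, nat_lit 0, nat_lit 0, nat_lit 2, nat_lit 0, nat_lit 0, nat_lit 0, nat_lit 0, nat_lit 3, nat_lit 1, nat_lit 3, nat_lit 0, nat_lit 0]) (.node (nat_lit 338) (.leaf (nat_lit 317) (nat_lit 1) [nat_lit 2, nat_lit 0, nat_lit 0, nat_lit 0, nat_lit 0, nat_lit 3, nat_lit 1, nat_lit 3, nat_lit 0, nat_lit 0, nat_lit 2, nat_lit 0, nat_lit 0, nat_lit 0, nat_lit 0, nat_lit 3, nat_lit 1, nat_lit 3, nat_lit 0, nat_lit 0, nat_lit 2, nat_lit 0, nat_lit 0, nat_lit 0, nat_lit 0, nat_lit 3, nat_lit 1, nat_lit 3, nat_lit 0, nat_lit 0, nat_lit 2, nat_lit 0, nat_lit 0, nat_lit 0, nat_lit 0, nat_lit 3, nat_lit 1, nat_lit 3, nat_lit 0, nat_lit 0, nat_lit 2, nat_lit 0, nat_lit 0, nat_lit 0, nat_lit 0, nat_lit 3, nat_lit 1, nat_lit 3, nat_lit 0, nat_lit 0, nat_lit 2, nat_lit 0, nat_lit 0, nat_lit 0, nat_lit 0, nat_lit 3, nat_lit 1, nat_lit 3, nat_lit 0, nat_lit 0, nat_lit 2, nat_lit 0, nat_lit 0, nat_lit 0, nat_lit 0, nat_lit 3, nat_lit 1, nat_lit 3, nat_lit 0]) (.leaf (nat_lit 308) (nat_lit 1) [nat_lit 0, nat_lit 2, nat_lit 0, nat_lit 0, nat_lit 0, nat_lit 0, nat_lit 3, nat_lit 1, nat_lit 3, nat_lit 0, nat_lit 0, nat_lit 2, nat_lit 0, nat_lit 0, nat_lit 0, nat_lit 0, nat_lit 3, nat_lit 1, nat_lit 3, nat_lit 0, nat_lit 0, nat_lit 2, nat_lit 0, nat_lit 0, nat_lit 0, nat_lit 0, nat_lit 3, nat_lit 1, nat_lit 3, nat_lit 0, nat_lit 0, nat_lit 2, nat_lit 0, nat_lit 0, nat_lit 0, nat_lit 0, nat_lit 3, nat_lit 1, nat_lit 3, nat_lit 0, nat_lit 0, nat_lit 2, nat_lit 0, nat_lit 0, nat_lit 0, nat_lit 0, nat_lit 3, nat_lit 1, nat_lit 3, nat_lit 0, nat_lit 0, nat_lit 2, nat_lit 0, nat_lit 0, nat_lit 0, nat_lit 0, nat_lit 3, nat_lit 1, nat_lit 3, nat_lit 0, nat_lit 0, nat_lit 2, nat_lit 0, nat_lit 0, nat_lit 0, nat_lit 0, nat_lit 3, nat_lit 1, nat_lit 3])))) (.node (nat_lit 342) (.node (nat_lit 340) (.leaf (nat_lit 309) (nat_lit 2) [nat_lit 0, nat_lit 0, nat_lit 2, nat_lit 0, nat_lit 0, nat_lit 0, nat_lit 0, nat_lit 3, nat_lit 1, nat_lit 3, nat_lit 0, nat_lit 0, nat_lit 2, nat_lit 0, nat_lit 0, nat_lit 0, nat_lit 0, nat_lit 3, nat_lit 1, nat_lit 3, nat_lit 0, nat_lit 0, nat_lit 2, nat_lit 0, nat_lit 0, nat_lit 0, nat_lit 0, nat_lit 3, nat_lit 1, nat_lit 3, nat_lit 0, nat_lit 0, nat_lit 2, nat_lit 0, nat_lit 0, nat_lit 0, nat_lit 0, nat_lit 3, nat_lit 1, nat_lit 3, nat_lit 0, nat_lit 0, nat_lit 2, nat_lit 0, nat_lit 0, nat_lit 0, nat_lit 0, nat_lit 3, nat_lit 1, nat_lit 3, nat_lit 0, nat_lit 0, nat_lit 2, nat_lit 0, nat_lit 0, nat_lit 0, nat_lit 0, nat_lit 3, nat_lit 1, nat_lit 3, nat_lit 0, nat_lit 0, nat_lit 2, nat_lit 0, nat_lit 0, nat_lit 0, nat_lit 0, nat_lit 3, nat_lit 1]) (.node (nat_lit 341) (.leaf (nat_lit 310) (nat_lit 0) [nat_lit 3, nat_lit 0, nat_lit 0, nat_lit 2, nat_lit 0, nat_lit 0, nat_lit 0, nat_lit 0, nat_lit 3, nat_lit 1, nat_lit 3, nat_lit 0, nat_lit 0, nat_lit 2, nat_lit 0, nat_lit 0, nat_lit 0, nat_lit 0, nat_lit 3, nat_lit 1, nat_lit 3, nat_lit 0, nat_lit 0, nat_lit 2, nat_lit 0, nat_lit 0, nat_lit 0, nat_lit 0, nat_lit 3, nat_lit 1, nat_lit 3, nat_lit 0, nat_lit 0, nat_lit 2, nat_lit 0, nat_lit 0, nat_lit 0, nat_lit 0, nat_lit 3, nat_lit 1, nat_lit 3, nat_lit 0, nat_lit 0, nat_lit 2, nat_lit 0, nat_lit 0, nat_lit 0, nat_lit 0, nat_lit 3, nat_lit 1, nat_lit 3, nat_lit 0, nat_lit 0, nat_lit 2, nat_lit 0, nat_lit 0, nat_lit 0, nat_lit 0, nat_lit 3, nat_lit 1, nat_lit 3, nat_lit 0, nat_lit 0, nat_lit 2, nat_lit 0, nat_lit 0, nat_lit 0, nat_lit 0, nat_lit 3]) (.leaf (nat_lit 311) (nat_lit 2) [nat_lit 1, nat_lit 3, nat_lit 0, nat_lit 0, nat_lit 2, nat_lit 0, nat_lit 0, nat_lit 0, nat_lit 0, nat_lit 3, nat_lit 1, nat_lit 3, nat_lit 0, nat_lit 0, nat_lit 2, nat_lit 0, nat_lit 0, nat_lit 0, nat_lit 0, nat_lit 3, nat_lit 1, nat_lit 3, nat_lit 0, nat_lit 0, nat_lit 2, nat_lit 0, nat_lit 0, nat_lit 0, nat_lit 0, nat_lit 3, nat_lit 1, nat_lit 3, nat_lit 0, nat_lit 0, nat_lit 2, nat_lit 0, nat_lit 0, nat_lit 0, nat_lit 0, nat_lit 3, nat_lit 1, nat_lit 3, nat_lit 0, nat_lit 0, nat_lit 2, nat_lit 0, nat_lit 0, nat_lit 0, nat_lit 0, nat_lit 3, nat_lit 1, nat_lit 3, nat_lit 0, nat_lit 0, nat_lit 2, nat_lit 0, nat_lit 0, nat_lit 0, nat_lit 0, nat_lit 3, nat_lit 1, nat_lit 3, nat_lit 0, nat_lit 0, nat_lit 2, nat_lit 0, nat_lit 0, nat_lit 0, nat_lit 0]))) (.node (nat_lit 343) (.leaf (nat_lit 312) (nat_lit 1) [nat_lit 3, nat_lit 1, nat_lit 3, nat_lit 0, nat_lit 0, nat_lit 2, nat_lit 0, nat_lit 0, nat_lit 0, nat_lit 0, nat_lit 3, nat_lit 1, nat_lit 3, nat_lit 0, nat_lit 0, nat_lit 2, nat_lit 0, nat_lit 0, nat_lit 0, nat_lit 0, nat_lit 3, nat_lit 1, nat_lit 3, nat_lit 0, nat_lit 0, nat_lit 2, nat_lit 0, nat_lit 0, nat_lit 0, nat_lit 0, nat_lit 3, nat_lit 1, nat_lit 3, nat_lit 0, nat_lit 0, nat_lit 2, nat_lit 0, nat_lit 0, nat_lit 0, nat_lit 0, nat_lit 3, nat_lit 1, nat_lit 3, nat_lit 0, nat_lit 0, nat_lit 2, nat_lit 0, nat_lit 0, nat_lit 0, nat_lit 0, nat_lit 3, nat_lit 1, nat_lit 3, nat_lit 0, nat_lit 0, nat_lit 2, nat_lit 0, nat_lit 0, nat_lit 0, nat_lit 0, nat_lit 3, nat_lit 1, nat_lit 3, nat_lit 0, nat_lit 0, nat_lit 2, nat_lit 0, nat_lit 0, nat_lit 0]) (.node (nat_lit 344) (.leaf (nat_lit 313) (nat_lit 1) [nat_lit 0, nat_lit 3, nat_lit 1, nat_lit 3, nat_lit 0, nat_lit 0, nat_lit 2, nat_lit 0, nat_lit 0, nat_lit 0, nat_lit 0, nat_lit 3, nat_lit 1, nat_lit 3, nat_lit 0, nat_lit 0, nat_lit 2, nat_lit 0, nat_lit 0, nat_lit 0, nat_lit 0, nat_lit 3, nat_lit 1, nat_lit 3, nat_lit 0, nat_lit 0, nat_lit 2, nat_lit 0, nat_lit 0, nat_lit 0, nat_lit 0, nat_lit 3, nat_lit 1, nat_lit 3, nat_lit 0, nat_lit 0, nat_lit 2, nat_lit 0, nat_lit 0, nat_lit 0, nat_lit 0, nat_lit 3, nat_lit 1, nat_lit 3, nat_lit 0, nat_lit 0, nat_lit 2, nat_lit 0, nat_lit 0, nat_lit 0, nat_lit 0, nat_lit 3, nat_lit 1, nat_lit 3, nat_lit 0, nat_lit 0, nat_lit 2, nat_lit 0, nat_lit 0, nat_lit 0, nat_lit 0, nat_lit 3, nat_lit 1, nat_lit 3, nat_lit 0, nat_lit 0, nat_lit 2, nat_lit 0, nat_lit 0]) (.leaf (nat_lit 314) (nat_lit 1) [nat_lit 0, nat_lit 0, nat_lit 3, nat_lit 1, nat_lit 3, nat_lit 0, nat_lit 0, nat_lit 2, nat_lit 0, nat_lit 0, nat_lit 0, nat_lit 0, nat_lit 3, nat_lit 1, nat_lit 3, nat_lit 0, nat_lit 0, nat_lit 2, nat_lit 0, nat_lit 0, nat_lit 0, nat_lit 0, nat_lit 3, nat_lit 1, nat_lit 3, nat_lit 0, nat_lit 0, nat_lit 2, nat_lit 0, nat_lit 0, nat_lit 0, nat_lit 0, nat_lit 3, nat_lit 1, nat_lit 3, nat_lit 0, nat_lit 0, nat_lit 2, nat_lit 0, nat_lit 0, nat_lit 0, nat_lit 0, nat_lit 3, nat_lit 1, nat_lit 3, nat_lit 0, nat_lit 0, nat_lit 2, nat_lit 0, nat_lit 0, nat_lit 0, nat_lit 0, nat_lit 3, nat_lit 1, nat_lit 3, nat_lit 0, nat_lit 0, nat_lit 2, nat_lit 0, nat_lit 0, nat_lit 0, nat_lit 0, nat_lit 3, nat_lit 1, nat_lit 3, nat_lit 0, nat_lit 0, nat_lit 2, nat_lit 0]))))) (.node (nat_lit 351) (.node (nat_lit 348) (.node (nat_lit 346) (.leaf (nat_lit 315) (nat_lit 1) [nat_lit 0, nat_lit 0, nat_lit 0, nat_lit 3, nat_lit 1, nat_lit 3, nat_lit 0, nat_lit 0, nat_lit 2, nat_lit 0, nat_lit 0, nat_lit 0, nat_lit 0, nat_lit 3, nat_lit 1, nat_lit 3, nat_lit 0, nat_lit 0, nat_lit 2, nat_lit 0, nat_lit 0, nat_lit 0, nat_lit 0, nat_lit 3, nat_lit 1, nat_lit 3, nat_lit 0, nat_lit 0, nat_lit 2, nat_lit 0, nat_lit 0, nat_lit 0, nat_lit 0, nat_lit 3, nat_lit 1, nat_lit 3, nat_lit 0, nat_lit 0, nat_lit 2, nat_lit 0, nat_lit 0, nat_lit 0, nat_lit 0, nat_lit 3, nat_lit 1, nat_lit 3, nat_lit 0, nat_lit 0, nat_lit 2, nat_lit 0, nat_lit 0, nat_lit 0, nat_lit 0, nat_lit 3, nat_lit 1, nat_lit 3, nat_lit 0, nat_lit 0, nat_lit 2, nat_lit 0, nat_lit 0, nat_lit 0, nat_lit 0, nat_lit 3, nat_lit 1, nat_lit 3, nat_lit 0, nat_lit 0, nat_lit 2]) (.node (nat_lit 347) (.leaf (nat_lit 316) (nat_lit 3) [nat_lit 0, nat_lit 0, nat_lit 0, nat_lit 0, nat_lit 3, nat_lit 1, nat_lit 3, nat_lit 0, nat_lit 0, nat_lit 2, nat_lit 0, nat_lit 0, nat_lit 0, nat_lit 0, nat_lit 3, nat_lit 1, nat_lit 3, nat_lit 0, nat_lit 0, nat_lit 2, nat_lit 0, nat_lit 0, nat_lit 0, nat_lit 0, nat_lit 3, nat_lit 1, nat_lit 3, nat_lit 0, nat_lit 0, nat_lit 2, nat_lit 0, nat_lit 0, nat_lit 0, nat_lit 0, nat_lit 3, nat_lit 1, nat_lit 3, nat_lit 0, nat_lit 0, nat_lit 2, nat_lit 0, nat_lit 0, nat_lit 0, nat_lit 0, nat_lit 3, nat_lit 1, nat_lit 3, nat_lit 0, nat_lit 0, nat_lit 2, nat_lit 0, nat_lit 0, nat_lit 0, nat_lit 0, nat_lit 3, nat_lit 1, nat_lit 3, nat_lit 0, nat_lit 0, nat_lit 2, nat_lit 0, nat_lit 0, nat_lit 0, nat_lit 0, nat_lit 3, nat_lit 1, nat_lit 3, nat_lit 0, nat_lit 0]) (.leaf (nat_lit 317) (nat_lit 1) [nat_lit 2, nat_lit 0, nat_lit 0, nat_lit 0, nat_lit 0, nat_lit 3, nat_lit 1, nat_lit 3, nat_lit 0, nat_lit 0, nat_lit 2, nat_lit 0, nat_lit 0, nat_lit 0, nat_lit 0, nat_lit 3, nat_lit 1, nat_lit 3, nat_lit 0, nat_lit 0, nat_lit 2, nat_lit 0, nat_lit 0, nat_lit 0, nat_lit 0, nat_lit 3, nat_lit 1, nat_lit 3, nat_lit 0, nat_lit 0, nat_lit 2, nat_lit 0, nat_lit 0, nat_lit 0, nat_lit 0, nat_lit 3, nat_lit 1, nat_lit 3, nat_lit 0, nat_lit 0, nat_lit 2, nat_lit 0, nat_lit 0, nat_lit 0, nat_lit 0, nat_lit 3, nat_lit 1, nat_lit 3, nat_lit 0, nat_lit 0, nat_lit 2, nat_lit 0, nat_lit 0, nat_lit 0, nat_lit 0, nat_lit 3, nat_lit 1, nat_lit 3, nat_lit 0, nat_lit 0, nat_lit 2, nat_lit 0, nat_lit 0, nat_lit 0, nat_lit 0, nat_lit 3, nat_lit 1, nat_lit 3, nat_lit 0]))) (.node (nat_lit 349) (.leaf (nat_lit 308) (nat_lit 1) [nat_lit 0, nat_lit 2, nat_lit 0, nat_lit 0, nat_lit 0, nat_lit 0, nat_lit 3, nat_lit 1, nat_lit 3, nat_lit 0, nat_lit 0, nat_lit 2, nat_lit 0, nat_lit 0, nat_lit 0, nat_lit 0, nat_lit 3, nat_lit 1, nat_lit 3, nat_lit 0, nat_lit 0, nat_lit 2, nat_lit 0, nat_lit 0, nat_lit 0, nat_lit 0, nat_lit 3, nat_lit 1, nat_lit 3, nat_lit 0, nat_lit 0, nat_lit 2, nat_lit 0, nat_lit 0, nat_lit 0, nat_lit 0, nat_lit 3, nat_lit 1, nat_lit 3, nat_lit 0, nat_lit 0, nat_lit 2, nat_lit 0, nat_lit 0, nat_lit 0, nat_lit 0, nat_lit 3, nat_lit 1, nat_lit 3, nat_lit 0, nat_lit 0, nat_lit 2, nat_lit 0, nat_lit 0, nat_lit 0, nat_lit 0, nat_lit 3, nat_lit 1, nat_lit 3, nat_lit 0, nat_lit 0, nat_lit 2, nat_lit 0, nat_lit 0, nat_lit 0, nat_lit 0, nat_lit 3, nat_lit 1, nat_lit 3]) (.node (nat_lit 350) (.leaf (nat_lit 309) (nat_lit 2) [nat_lit 0, nat_lit 0, nat_lit 2, nat_lit 0, nat_lit 0, nat_lit 0, nat_lit 0, nat_lit 3, nat_lit 1, nat_lit 3, nat_lit 0, nat_lit 0, nat_lit 2, nat_lit 0, nat_lit 0, nat_lit 0, nat_lit 0, nat_lit 3, nat_lit 1, nat_lit 3, nat_lit 0, nat_lit 0, nat_lit 2, nat_lit 0, nat_lit 0, nat_lit 0, nat_lit 0, nat_lit 3, nat_lit 1, nat_lit 3, nat_lit 0, nat_lit 0, nat_lit 2, nat_lit 0, nat_lit 0, nat_lit 0, nat_lit 0, nat_lit 3, nat_lit 1, nat_lit 3, nat_lit 0, nat_lit 0, nat_lit 2, nat_lit 0, nat_lit 0, nat_lit 0, nat_lit 0, nat_lit 3, nat_lit 1, nat_lit 3, nat_lit 0, nat_lit 0, nat_lit 2, nat_lit 0, nat_lit 0, nat_lit 0, nat_lit 0, nat_lit 3, nat_lit 1, nat_lit 3, nat_lit 0, nat_lit 0, nat_lit 2, nat_lit 0, nat_lit 0, nat_lit 0, nat_lit 0, nat_lit 3, nat_lit 1]) (.leaf (nat_lit 310) (nat_lit 0) [nat_lit 3, nat_lit 0, nat_lit 0, nat_lit 2, nat_lit 0, nat_lit 0, nat_lit 0, nat_lit 0, nat_lit 3, nat_lit 1, nat_lit 3, nat_lit 0, nat_lit 0, nat_lit 2, nat_lit 0, nat_lit 0, nat_lit 0, nat_lit 0, nat_lit 3, nat_lit 1, nat_lit 3, nat_lit 0, nat_lit 0, nat_lit 2, nat_lit 0, nat_lit 0, nat_lit 0, nat_lit 0, nat_lit 3, nat_lit 1, nat_lit 3, nat_lit 0, nat_lit 0, nat_lit 2, nat_lit 0, nat_lit 0, nat_lit 0, nat_lit 0, nat_lit 3, nat_lit 1, nat_lit 3, nat_lit 0, nat_lit 0, nat_lit 2, nat_lit 0, nat_lit 0, nat_lit 0, nat_lit 0, nat_lit 3, nat_lit 1, nat_lit 3, nat_lit 0, nat_lit 0, nat_lit 2, nat_lit 0, nat_lit 0, nat_lit 0, nat_lit 0, nat_lit 3, nat_lit 1, nat_lit 3, nat_lit 0, nat_lit 0, nat_lit 2, nat_lit 0, nat_lit 0, nat_lit 0, nat_lit 0, nat_lit 3])))) (.node (nat_lit 354) (.node (nat_lit 352) (.leaf (nat_lit 311) (nat_lit 2) [nat_lit 1, nat_lit 3, nat_lit 0, nat_lit 0, nat_lit 2, nat_lit 0, nat_lit 0, nat_lit 0, nat_lit 0, nat_lit 3, nat_lit 1, nat_lit 3, nat_lit 0, nat_lit 0, nat_lit 2, nat_lit 0, nat_lit 0, nat_lit 0, nat_lit 0, nat_lit 3, nat_lit 1, nat_lit 3, nat_lit 0, nat_lit 0, nat_lit 2, nat_lit 0, nat_lit 0, nat_lit 0, nat_lit 0, nat_lit 3, nat_lit 1, nat_lit 3, nat_lit 0, nat_lit 0, nat_lit 2, nat_lit 0, nat_lit 0, nat_lit 0, nat_lit 0, nat_lit 3, nat_lit 1, nat_lit 3, nat_lit 0, nat_lit 0, nat_lit 2, nat_lit 0, nat_lit 0, nat_lit 0, nat_lit 0, nat_lit 3, nat_lit 1, nat_lit 3, nat_lit 0, nat_lit 0, nat_lit 2, nat_lit 0, nat_lit 0, nat_lit 0, nat_lit 0, nat_lit 3, nat_lit 1, nat_lit 3, nat_lit 0, nat_lit 0, nat_lit 2, nat_lit 0, nat_lit 0, nat_lit 0, nat_lit 0]) (.node (nat_lit 353) (.leaf (nat_lit 312) (nat_lit 1) [nat_lit 3, nat_lit 1, nat_lit 3, nat_lit 0, nat_lit 0, nat_lit 2, nat_lit 0, nat_lit 0, nat_lit 0, nat_lit 0, nat_lit 3, nat_lit 1, nat_lit 3, nat_lit 0, nat_lit 0, nat_lit 2, nat_lit 0, nat_lit 0, nat_lit 0, nat_lit 0, nat_lit 3, nat_lit 1, nat_lit 3, nat_lit 0, nat_lit 0, nat_lit 2, nat_lit 0, nat_lit 0, nat_lit 0, nat_lit 0, nat_lit 3, nat_lit 1, nat_lit 3, nat_lit 0, nat_lit 0, nat_lit 2, nat_lit 0, nat_lit 0, nat_lit 0, nat_lit 0, nat_lit 3, nat_lit 1, nat_lit 3, nat_lit 0, nat_lit 0, nat_lit 2, nat_lit 0, nat_lit 0, nat_lit 0, nat_lit 0, nat_lit 3, nat_lit 1, nat_lit 3, nat_lit 0, nat_lit 0, nat_lit 2, nat_lit 0, nat_lit 0, nat_lit 0, nat_lit 0, nat_lit 3, nat_lit 1, nat_lit 3, nat_lit 0, nat_lit 0, nat_lit 2, nat_lit 0, nat_lit 0, nat_lit 0]) (.leaf (nat_lit 313) (nat_lit 1) [nat_lit 0, nat_lit 3, nat_lit 1, nat_lit 3, nat_lit 0, nat_lit 0, nat_lit 2, nat_lit 0, nat_lit 0, nat_lit 0, nat_lit 0, nat_lit 3, nat_lit 1, nat_lit 3, nat_lit 0, nat_lit 0, nat_lit 2, nat_lit 0, nat_lit 0, nat_lit 0, nat_lit 0, nat_lit 3, nat_lit 1, nat_lit 3, nat_lit 0, nat_lit 0, nat_lit 2, nat_lit 0, nat_lit 0, nat_lit 0, nat_lit 0, nat_lit 3, nat_lit 1, nat_lit 3, nat_lit 0, nat_lit 0, nat_lit 2, nat_lit 0, nat_lit 0, nat_lit 0, nat_lit 0, nat_lit 3, nat_lit 1, nat_lit 3, nat_lit 0, nat_lit 0, nat_lit 2, nat_lit 0, nat_lit 0, nat_lit 0, nat_lit 0, nat_lit 3, nat_lit 1, nat_lit 3, nat_lit 0, nat_lit 0, nat_lit 2, nat_lit 0, nat_lit 0, nat_lit 0, nat_lit 0, nat_lit 3, nat_lit 1, nat_lit 3, nat_lit 0, nat_lit 0, nat_lit 2, nat_lit 0, nat_lit 0]))) (.node (nat_lit 355) (.leaf (nat_lit 314) (nat_lit 1) [nat_lit 0, nat_lit 0, nat_lit 3, nat_lit 1, nat_lit 3, nat_lit 0, nat_lit 0, nat_lit 2, nat_lit 0, nat_lit 0, nat_lit 0, nat_lit 0, nat_lit 3, nat_lit 1, nat_lit 3, nat_lit 0, nat_lit 0, nat_lit 2, nat_lit 0, nat_lit 0, nat_lit 0, nat_lit 0, nat_lit 3, nat_lit 1, nat_lit 3, nat_lit 0, nat_lit 0, nat_lit 2, nat_lit 0, nat_lit 0, nat_lit 0, nat_lit 0, nat_lit 3, nat_lit 1, nat_lit 3, nat_lit 0, nat_lit 0, nat_lit 2, nat_lit 0, nat_lit 0, nat_lit 0, nat_lit 0, nat_lit 3, nat_lit 1, nat_lit 3, nat_lit 0, nat_lit 0, nat_lit 2, nat_lit 0, nat_lit 0, nat_lit 0, nat_lit 0, nat_lit 3, nat_lit 1, nat_lit 3, nat_lit 0, nat_lit 0, nat_lit 2, nat_lit 0, nat_lit 0, nat_lit 0, nat_lit 0, nat_lit 3, nat_lit 1, nat_lit 3, nat_lit 0, nat_lit 0, nat_lit 2, nat_lit 0]) (.node (nat_lit 356) (.leaf (nat_lit 315) (nat_lit 1) [nat_lit 0, nat_lit 0, nat_lit 0, nat_lit 3, nat_lit 1, nat_lit 3, nat_lit 0, nat_lit 0, nat_lit 2, nat_lit 0, nat_lit 0, nat_lit 0, nat_lit 0, nat_lit 3, nat_lit 1, nat_lit 3, nat_lit 0, nat_lit 0, nat_lit 2, nat_lit 0, nat_lit 0, nat_lit 0, nat_lit 0, nat_lit 3, nat_lit 1, nat_lit 3, nat_lit 0, nat_lit 0, nat_lit 2, nat_lit 0, nat_lit 0, nat_lit 0, nat_lit 0, nat_lit 3, nat_lit 1, nat_lit 3, nat_lit 0, nat_lit 0, nat_lit 2, nat_lit 0, nat_lit 0, nat_lit 0, nat_lit 0, nat_lit 3, nat_lit 1, nat_lit 3, nat_lit 0, nat_lit 0, nat_lit 2, nat_lit 0, nat_lit 0, nat_lit 0, nat_lit 0, nat_lit 3, nat_lit 1, nat_lit 3, nat_lit 0, nat_lit 0, nat_lit 2, nat_lit 0, nat_lit 0, nat_lit 0, nat_lit 0, nat_lit 3, nat_lit 1, nat_lit 3, nat_lit 0, nat_lit 0, nat_lit 2]) (.leaf (nat_lit 316) (nat_lit 3) [nat_lit 0, nat_lit 0, nat_lit 0, nat_lit 0, nat_lit 3, nat_lit 1, nat_lit 3, nat_lit 0, nat_lit 0, nat_lit 2, nat_lit 0, nat_lit 0, nat_lit 0, nat_lit 0, nat_lit 3, nat_lit 1, nat_lit 3, nat_lit 0, nat_lit 0, nat_lit 2, nat_lit 0, nat_lit 0, nat_lit 0, nat_lit 0, nat_lit 3, nat_lit 1, nat_lit 3, nat_lit 0, nat_lit 0, nat_lit 2, nat_lit 0, nat_lit 0, nat_lit 0, nat_lit 0, nat_lit 3, nat_lit 1, nat_lit 3, nat_lit 0, nat_lit 0, nat_lit 2, nat_lit 0, nat_lit 0, nat_lit 0, nat_lit 0, nat_lit 3, nat_lit 1, nat_lit 3, nat_lit 0, nat_lit 0, nat_lit 2, nat_lit 0, nat_lit 0, nat_lit 0, nat_lit 0, nat_lit 3, nat_lit 1, nat_lit 3, nat_lit 0, nat_lit 0, nat_lit 2, nat_lit 0, nat_lit 0, nat_lit 0, nat_lit 0, nat_lit 3, nat_lit 1, nat_lit 3, nat_lit 0, nat_lit 0])))))) (.node (nat_lit 369) (.node (nat_lit 363) (.node (nat_lit 360) (.node (nat_lit 358) (.leaf (nat_lit 317) (nat_lit 1) [nat_lit 2, nat_lit 0, nat_lit 0, nat_lit 0, nat_lit 0, nat_lit 3, nat_lit 1, nat_lit 3, nat_lit 0, nat_lit 0, nat_lit 2, nat_lit 0, nat_lit 0, nat_lit 0, nat_lit 0, nat_lit 3, nat_lit 1, nat_lit 3, nat_lit 0, nat_lit 0, nat_lit 2, nat_lit 0, nat_lit 0, nat_lit 0, nat_lit 0, nat_lit 3, nat_lit 1, nat_lit 3, nat_lit 0, nat_lit 0, nat_lit 2, nat_lit 0, nat_lit 0, nat_lit 0, nat_lit 0, nat_lit 3, nat_lit 1, nat_lit 3, nat_lit 0, nat_lit 0, nat_lit 2, nat_lit 0, nat_lit 0, nat_lit 0, nat_lit 0, nat_lit 3, nat_lit 1, nat_lit 3, nat_lit 0, nat_lit 0, nat_lit 2, nat_lit 0, nat_lit 0, nat_lit 0, nat_lit 0, nat_lit 3, nat_lit 1, nat_lit 3, nat_lit 0, nat_lit 0, nat_lit 2, nat_lit 0, nat_lit 0, nat_lit 0, nat_lit 0, nat_lit 3, nat_lit 1, nat_lit 3, nat_lit 0]) (.node (nat_lit 359) (.leaf (nat_lit 308) (nat_lit 1) [nat_lit 0, nat_lit 2, nat_lit 0, nat_lit 0, nat_lit 0, nat_lit 0, nat_lit 3, nat_lit 1, nat_lit 3, nat_lit 0, nat_lit 0, nat_lit 2, nat_lit 0, nat_lit 0, nat_lit 0, nat_lit 0, nat_lit 3, nat_lit 1, nat_lit 3, nat_lit 0, nat_lit 0, nat_lit 2, nat_lit 0, nat_lit 0, nat_lit 0, nat_lit 0, nat_lit 3, nat_lit 1, nat_lit 3, nat_lit 0, nat_lit 0, nat_lit 2, nat_lit 0, nat_lit 0, nat_lit 0, nat_lit 0, nat_lit 3, nat_lit 1, nat_lit 3, nat_lit 0, nat_lit 0, nat_lit 2, nat_lit 0, nat_lit 0, nat_lit 0, nat_lit 0, nat_lit 3, nat_lit 1, nat_lit 3, nat_lit 0, nat_lit 0, nat_lit 2, nat_lit 0, nat_lit 0, nat_lit 0, nat_lit 0, nat_lit 3, nat_lit 1, nat_lit 3, nat_lit 0, nat_lit 0, nat_lit 2, nat_lit 0, nat_lit 0, nat_lit 0, nat_lit 0, nat_lit 3, nat_lit 1, nat_lit 3]) (.leaf (nat_lit 309) (nat_lit 2) [nat_lit 0, nat_lit 0, nat_lit 2, nat_lit 0, nat_lit 0, nat_lit 0, nat_lit 0, nat_lit 3, nat_lit 1, nat_lit 3, nat_lit 0, nat_lit 0, nat_lit 2, nat_lit 0, nat_lit 0, nat_lit 0, nat_lit 0, nat_lit 3, nat_lit 1, nat_lit 3, nat_lit 0, nat_lit 0, nat_lit 2, nat_lit 0, nat_lit 0, nat_lit 0, nat_lit 0, nat_lit 3, nat_lit 1, nat_lit 3, nat_lit 0, nat_lit 0, nat_lit 2, nat_lit 0, nat_lit 0, nat_lit 0, nat_lit 0, nat_lit 3, nat_lit 1, nat_lit 3, nat_lit 0, nat_lit 0, nat_lit 2, nat_lit 0, nat_lit 0, nat_lit 0, nat_lit 0, nat_lit 3, nat_lit 1, nat_lit 3, nat_lit 0, nat_lit 0, nat_lit 2, nat_lit 0, nat_lit 0, nat_lit 0, nat_lit 0, nat_lit 3, nat_lit 1, nat_lit 3, nat_lit 0, nat_lit 0, nat_lit 2, nat_lit 0, nat_lit 0, nat_lit 0, nat_lit 0, nat_lit 3, nat_lit 1]))) (.node (nat_lit 361) (.leaf (nat_lit 310) (nat_lit 0) [nat_lit 3, nat_lit 0, nat_lit 0, nat_lit 2, nat_lit 0, nat_lit 0, nat_lit 0, nat_lit 0, nat_lit 3, nat_lit 1, nat_lit 3, nat_lit 0, nat_lit 0, nat_lit 2, nat_lit 0, nat_lit 0, nat_lit 0, nat_lit 0, nat_lit 3, nat_lit 1, nat_lit 3, nat_lit 0, nat_lit 0, nat_lit 2, nat_lit 0, nat_lit 0, nat_lit 0, nat_lit 0, nat_lit 3, nat_lit 1, nat_lit 3, nat_lit 0, nat_lit 0, nat_lit 2, nat_lit 0, nat_lit 0, nat_lit 0, nat_lit 0, nat_lit 3, nat_lit 1, nat_lit 3, nat_lit 0, nat_lit 0, nat_lit 2, nat_lit 0, nat_lit 0, nat_lit 0, nat_lit 0, nat_lit 3, nat_lit 1, nat_lit 3, nat_lit 0, nat_lit 0, nat_lit 2, nat_lit 0, nat_lit 0, nat_lit 0, nat_lit 0, nat_lit 3, nat_lit 1, nat_lit 3, nat_lit 0, nat_lit 0, nat_lit 2, nat_lit 0, nat_lit 0, nat_lit 0, nat_lit 0, nat_lit 3]) (.node (nat_lit 362) (.leaf (nat_lit 311) (nat_lit 2) [nat_lit 1, nat_lit 3, nat_lit 0, nat_lit 0, nat_lit 2, nat_lit 0, nat_lit 0, nat_lit 0, nat_lit 0, nat_lit 3, nat_lit 1, nat_lit 3, nat_lit 0, nat_lit 0, nat_lit 2, nat_lit 0, nat_lit 0, nat_lit 0, nat_lit 0, nat_lit 3, nat_lit 1, nat_lit 3, nat_lit 0, nat_lit 0, nat_lit 2, nat_lit 0, nat_lit 0, nat_lit 0, nat_lit 0, nat_lit 3, nat_lit 1, nat_lit 3, nat_lit 0, nat_lit 0, nat_lit 2, nat_lit 0, nat_lit 0, nat_lit 0, nat_lit 0, nat_lit 3, nat_lit 1, nat_lit 3, nat_lit 0, nat_lit 0, nat_lit 2, nat_lit 0, nat_lit 0, nat_lit 0, nat_lit 0, nat_lit 3, nat_lit 1, nat_lit 3, nat_lit 0, nat_lit 0, nat_lit 2, nat_lit 0, nat_lit 0, nat_lit 0, nat_lit 0, nat_lit 3, nat_lit 1, nat_lit 3, nat_lit 0, nat_lit 0, nat_lit 2, nat_lit 0, nat_lit 0, nat_lit 0, nat_lit 0]) (.leaf (nat_lit 312) (nat_lit 1) [nat_lit 3, nat_lit 1, nat_lit 3, nat_lit 0, nat_lit 0, nat_lit 2, nat_lit 0, nat_lit 0, nat_lit 0, nat_lit 0, nat_lit 3, nat_lit 1, nat_lit 3, nat_lit 0, nat_lit 0, nat_lit 2, nat_lit 0, nat_lit 0, nat_lit 0, nat_lit 0, nat_lit 3, nat_lit 1, nat_lit 3, nat_lit 0, nat_lit 0, nat_lit 2, nat_lit 0, nat_lit 0, nat_lit 0, nat_lit 0, nat_lit 3, nat_lit 1, nat_lit 3, nat_lit 0, nat_lit 0, nat_lit 2, nat_lit 0, nat_lit 0, nat_lit 0, nat_lit 0, nat_lit 3, nat_lit 1, nat_lit 3, nat_lit 0, nat_lit 0, nat_lit 2, nat_lit 0, nat_lit 0, nat_lit 0, nat_lit 0, nat_lit 3, nat_lit 1, nat_lit 3, nat_lit 0, nat_lit 0, nat_lit 2, nat_lit 0, nat_lit 0, nat_lit 0, nat_lit 0, nat_lit 3, nat_lit 1, nat_lit 3, nat_lit 0, nat_lit 0, nat_lit 2, nat_lit 0, nat_lit 0, nat_lit 0])))) (.node (nat_lit 366) (.node (nat_lit 364) (.leaf (nat_lit 313) (nat_lit 1) [nat_lit 0, nat_lit 3, nat_lit 1, nat_lit 3, nat_lit 0, nat_lit 0, nat_lit 2, nat_lit 0, nat_lit 0, nat_lit 0, nat_lit 0, nat_lit 3, nat_lit 1, nat_lit 3, nat_lit 0, nat_lit 0, nat_lit 2, nat_lit 0, nat_lit 0, nat_lit 0, nat_lit 0, nat_lit 3, nat_lit 1, nat_lit 3, nat_lit 0, nat_lit 0, nat_lit 2, nat_lit 0, nat_lit 0, nat_lit 0, nat_lit 0, nat_lit 3, nat_lit 1, nat_lit 3, nat_lit 0, nat_lit 0, nat_lit 2, nat_lit 0, nat_lit 0, nat_lit 0, nat_lit 0, nat_lit 3, nat_lit 1, nat_lit 3, nat_lit 0, nat_lit 0, nat_lit 2, nat_lit 0, nat_lit 0, nat_lit 0, nat_lit 0, nat_lit 3, nat_lit 1, nat_lit 3, nat_lit 0, nat_lit 0, nat_lit 2, nat_lit 0, nat_lit 0, nat_lit 0, nat_lit 0, nat_lit 3, nat_lit 1, nat_lit 3, nat_lit 0, nat_lit 0, nat_lit 2, nat_lit 0, nat_lit 0]) (.node (nat_lit 365) (.leaf (nat_lit 314) (nat_lit 1) [nat_lit 0, nat_lit 0, nat_lit 3, nat_lit 1, nat_lit 3, nat_lit 0, nat_lit 0, nat_lit 2, nat_lit 0, nat_lit 0, nat_lit 0, nat_lit 0, nat_lit 3, nat_lit 1, nat_lit 3, nat_lit 0, nat_lit 0, nat_lit 2, nat_lit 0, nat_lit 0, nat_lit 0, nat_lit 0, nat_lit 3, nat_lit 1, nat_lit 3, nat_lit 0, nat_lit 0, nat_lit 2, nat_lit 0, nat_lit 0, nat_lit 0, nat_lit 0, nat_lit 3, nat_lit 1, nat_lit 3, nat_lit 0, nat_lit 0, nat_lit 2, nat_lit 0, nat_lit 0, nat_lit 0, nat_lit 0, nat_lit 3, nat_lit 1, nat_lit 3, nat_lit 0, nat_lit 0, nat_lit 2, nat_lit 0, nat_lit 0, nat_lit 0, nat_lit 0, nat_lit 3, nat_lit 1, nat_lit 3, nat_lit 0, nat_lit 0, nat_lit 2, nat_lit 0, nat_lit 0, nat_lit 0, nat_lit 0, nat_lit 3, nat_lit 1, nat_lit 3, nat_lit 0, nat_lit 0, nat_lit 2, nat_lit 0]) (.leaf (nat_lit 315) (nat_lit 1) [nat_lit 0, nat_lit 0, nat_lit 0, nat_lit 3, nat_lit 1, nat_lit 3, nat_lit 0, nat_lit 0, nat_lit 2, nat_lit 0, nat_lit 0, nat_lit 0, nat_lit 0, nat_lit 3, nat_lit 1, nat_lit 3, nat_lit 0, nat_lit 0, nat_lit 2, nat_lit 0, nat_lit 0, nat_lit 0, nat_lit 0, nat_lit 3, nat_lit 1, nat_lit 3, nat_lit 0, nat_lit 0, nat_lit 2, nat_lit 0, nat_lit 0, nat_lit 0, nat_lit 0, nat_lit 3, nat_lit 1, nat_lit 3, nat_lit 0, nat_lit 0, nat_lit 2, nat_lit 0, nat_lit 0, nat_lit 0, nat_lit 0, nat_lit 3, nat_lit 1, nat_lit 3, nat_lit 0, nat_lit 0, nat_lit 2, nat_lit 0, nat_lit 0, nat_lit 0, nat_lit 0, nat_lit 3, nat_lit 1, nat_lit 3, nat_lit 0, nat_lit 0, nat_lit 2, nat_lit 0, nat_lit 0, nat_lit 0, nat_lit 0, nat_lit 3, nat_lit 1, nat_lit 3, nat_lit 0, nat_lit 0, nat_lit 2]))) (.node (nat_lit 367) (.leaf (nat_lit 316) (nat_lit 3) [nat_lit 0, nat_lit 0, nat_lit 0, nat_lit 0, nat_lit 3, nat_lit 1, nat_lit 3, nat_lit 0, nat_lit 0, nat_lit 2, nat_lit 0, nat_lit 0, nat_lit 0, nat_lit 0, nat_lit 3, nat_lit 1, nat_lit 3, nat_lit 0, nat_lit 0, nat_lit 2, nat_lit 0, nat_lit 0, nat_lit 0, nat_lit 0, nat_lit 3, nat_lit 1, nat_lit 3, nat_lit 0, nat_lit 0, nat_lit 2, nat_lit 0, nat_lit 0, nat_lit 0, nat_lit 0, nat_lit 3, nat_lit 1, nat_lit 3, nat_lit 0, nat_lit 0, nat_lit 2, nat_lit 0, nat_lit 0, nat_lit 0, nat_lit 0, nat_lit 3, nat_lit 1, nat_lit 3, nat_lit 0, nat_lit 0, nat_lit 2, nat_lit 0, nat_lit 0, nat_lit 0, nat_lit 0, nat_lit 3, nat_lit 1, nat_lit 3, nat_lit 0, nat_lit 0, nat_lit 2, nat_lit 0, nat_lit 0, nat_lit 0, nat_lit 0, nat_lit 3, nat_lit 1, nat_lit 3, nat_lit 0, nat_lit 0]) (.node (nat_lit 368) (.leaf (nat_lit 317) (nat_lit 1) [nat_lit 2, nat_lit 0, nat_lit 0, nat_lit 0, nat_lit 0, nat_lit 3, nat_lit 1, nat_lit 3, nat_lit 0, nat_lit 0, nat_lit 2, nat_lit 0, nat_lit 0, nat_lit 0, nat_lit 0, nat_lit 3, nat_lit 1, nat_lit 3, nat_lit 0, nat_lit 0, nat_lit 2, nat_lit 0, nat_lit 0, nat_lit 0, nat_lit 0, nat_lit 3, nat_lit 1, nat_lit 3, nat_lit 0, nat_lit 0, nat_lit 2, nat_lit 0, nat_lit 0, nat_lit 0, nat_lit 0, nat_lit 3, nat_lit 1, nat_lit 3, nat_lit 0, nat_lit 0, nat_lit 2, nat_lit 0, nat_lit 0, nat_lit 0, nat_lit 0, nat_lit 3, nat_lit 1, nat_lit 3, nat_lit 0, nat_lit 0, nat_lit 2, nat_lit 0, nat_lit 0, nat_lit 0, nat_lit 0, nat_lit 3, nat_lit 1, nat_lit 3, nat_lit 0, nat_lit 0, nat_lit 2, nat_lit 0, nat_lit 0, nat_lit 0, nat_lit 0, nat_lit 3, nat_lit 1, nat_lit 3, nat_lit 0]) (.leaf (nat_lit 308) (nat_lit 1) [nat_lit 0, nat_lit 2, nat_lit 0, nat_lit 0, nat_lit 0, nat_lit 0, nat_lit 3, nat_lit 1, nat_lit 3, nat_lit 0, nat_lit 0, nat_lit 2, nat_lit 0, nat_lit 0, nat_lit 0, nat_lit 0, nat_lit 3, nat_lit 1, nat_lit 3, nat_lit 0, nat_lit 0, nat_lit 2, nat_lit 0, nat_lit 0, nat_lit 0, nat_lit 0, nat_lit 3, nat_lit 1, nat_lit 3, nat_lit 0, nat_lit 0, nat_lit 2, nat_lit 0, nat_lit 0, nat_lit 0, nat_lit 0, nat_lit 3, nat_lit 1, nat_lit 3, nat_lit 0, nat_lit 0, nat_lit 2, nat_lit 0, nat_lit 0, nat_lit 0, nat_lit 0, nat_lit 3, nat_lit 1, nat_lit 3, nat_lit 0, nat_lit 0, nat_lit 2, nat_lit 0, nat_lit 0, nat_lit 0, nat_lit 0, nat_lit 3, nat_lit 1, nat_lit 3, nat_lit 0, nat_lit 0, nat_lit 2, nat_lit 0, nat_lit 0, nat_lit 0, nat_lit 0, nat_lit 3, nat_lit 1, nat_lit 3]))))) (.node (nat_lit 375) (.node (nat_lit 372) (.node (nat_lit 370) (.leaf (nat_lit 309) (nat_lit 2) [nat_lit 0, nat_lit 0, nat_lit 2, nat_lit 0, nat_lit 0, nat_lit 0, nat_lit 0, nat_lit 3, nat_lit 1, nat_lit 3, nat_lit 0, nat_lit 0, nat_lit 2, nat_lit 0, nat_lit 0, nat_lit 0, nat_lit 0, nat_lit 3, nat_lit 1, nat_lit 3, nat_lit 0, nat_lit 0, nat_lit 2, nat_lit 0, nat_lit 0, nat_lit 0, nat_lit 0, nat_lit 3, nat_lit 1, nat_lit 3, nat_lit 0, nat_lit 0, nat_lit 2, nat_lit 0, nat_lit 0, nat_lit 0, nat_lit 0, nat_lit 3, nat_lit 1, nat_lit 3, nat_lit 0, nat_lit 0, nat_lit 2, nat_lit 0, nat_lit 0, nat_lit 0, nat_lit 0, nat_lit 3, nat_lit 1, nat_lit 3, nat_lit 0, nat_lit 0, nat_lit 2, nat_lit 0, nat_lit 0, nat_lit 0, nat_lit 0, nat_lit 3, nat_lit 1, nat_lit 3, nat_lit 0, nat_lit 0, nat_lit 2, nat_lit 0, nat_lit 0, nat_lit 0, nat_lit 0, nat_lit 3, nat_lit 1]) (.node (nat_lit 371) (.leaf (nat_lit 310) (nat_lit 0) [nat_lit 3, nat_lit 0, nat_lit 0, nat_lit 2, nat_lit 0, nat_lit 0, nat_lit 0, nat_lit 0, nat_lit 3, nat_lit 1, nat_lit 3, nat_lit 0, nat_lit 0, nat_lit 2, nat_lit 0, nat_lit 0, nat_lit 0, nat_lit 0, nat_lit 3, nat_lit 1, nat_lit 3, nat_lit 0, nat_lit 0, nat_lit 2, nat_lit 0, nat_lit 0, nat_lit 0, nat_lit 0, nat_lit 3, nat_lit 1, nat_lit 3, nat_lit 0, nat_lit 0, nat_lit 2, nat_lit 0, nat_lit 0, nat_lit 0, nat_lit 0, nat_lit 3, nat_lit 1, nat_lit 3, nat_lit 0, nat_lit 0, nat_lit 2, nat_lit 0, nat_lit 0, nat_lit 0, nat_lit 0, nat_lit 3, nat_lit 1, nat_lit 3, nat_lit 0, nat_lit 0, nat_lit 2, nat_lit 0, nat_lit 0, nat_lit 0, nat_lit 0, nat_lit 3, nat_lit 1, nat_lit 3, nat_lit 0, nat_lit 0, nat_lit 2, nat_lit 0, nat_lit 0, nat_lit 0, nat_lit 0, nat_lit 3]) (.leaf (nat_lit 311) (nat_lit 2) [nat_lit 1, nat_lit 3, nat_lit 0, nat_lit 0, nat_lit 2, nat_lit 0, nat_lit 0, nat_lit 0, nat_lit 0, nat_lit 3, nat_lit 1, nat_lit 3, nat_lit 0, nat_lit 0, nat_lit 2, nat_lit 0, nat_lit 0, nat_lit 0, nat_lit 0, nat_lit 3, nat_lit 1, nat_lit 3, nat_lit 0, nat_lit 0, nat_lit 2, nat_lit 0, nat_lit 0, nat_lit 0, nat_lit 0, nat_lit 3, nat_lit 1, nat_lit 3, nat_lit 0, nat_lit 0, nat_lit 2, nat_lit 0, nat_lit 0, nat_lit 0, nat_lit 0, nat_lit 3, nat_lit 1, nat_lit 3, nat_lit 0, nat_lit 0, nat_lit 2, nat_lit 0, nat_lit 0, nat_lit 0, nat_lit 0, nat_lit 3, nat_lit 1, nat_lit 3, nat_lit 0, nat_lit 0, nat_lit 2, nat_lit 0, nat_lit 0, nat_lit 0, nat_lit 0, nat_lit 3, nat_lit 1, nat_lit 3, nat_lit 0, nat_lit 0, nat_lit 2, nat_lit 0, nat_lit 0, nat_lit 0, nat_lit 0]))) (.node (nat_lit 373) (.leaf (nat_lit 312) (nat_lit 1) [nat_lit 3, nat_lit 1, nat_lit 3, nat_lit 0, nat_lit 0, nat_lit 2, nat_lit 0, nat_lit 0, nat_lit 0, nat_lit 0, nat_lit 3, nat_lit 1, nat_lit 3, nat_lit 0, nat_lit 0, nat_lit 2, nat_lit 0, nat_lit 0, nat_lit 0, nat_lit 0, nat_lit 3, nat_lit 1, nat_lit 3, nat_lit 0, nat_lit 0, nat_lit 2, nat_lit 0, nat_lit 0, nat_lit 0, nat_lit 0, nat_lit 3, nat_lit 1, nat_lit 3, nat_lit 0, nat_lit 0, nat_lit 2, nat_lit 0, nat_lit 0, nat_lit 0, nat_lit 0, nat_lit 3, nat_lit 1, nat_lit 3, nat_lit 0, nat_lit 0, nat_lit 2, nat_lit 0, nat_lit 0, nat_lit 0, nat_lit 0, nat_lit 3, nat_lit 1, nat_lit 3, nat_lit 0, nat_lit 0, nat_lit 2, nat_lit 0, nat_lit 0, nat_lit 0, nat_lit 0, nat_lit 3, nat_lit 1, nat_lit 3, nat_lit 0, nat_lit 0, nat_lit 2, nat_lit 0, nat_lit 0, nat_lit 0]) (.node (nat_lit 374) (.leaf (nat_lit 313) (nat_lit 1) [nat_lit 0, nat_lit 3, nat_lit 1, nat_lit 3, nat_lit 0, nat_lit 0, nat_lit 2, nat_lit 0, nat_lit 0, nat_lit 0, nat_lit 0, nat_lit 3, nat_lit 1, nat_lit 3, nat_lit 0, nat_lit 0, nat_lit 2, nat_lit 0, nat_lit 0, nat_lit 0, nat_lit 0, nat_lit 3, nat_lit 1, nat_lit 3, nat_lit 0, nat_lit 0, nat_lit 2, nat_lit 0, nat_lit 0, nat_lit 0, nat_lit 0, nat_lit 3, nat_lit 1, nat_lit 3, nat_lit 0, nat_lit 0, nat_lit 2, nat_lit 0, nat_lit 0, nat_lit 0, nat_lit 0, nat_lit 3, nat_lit 1, nat_lit 3, nat_lit 0, nat_lit 0, nat_lit 2, nat_lit 0, nat_lit 0, nat_lit 0, nat_lit 0, nat_lit 3, nat_lit 1, nat_lit 3, nat_lit 0, nat_lit 0, nat_lit 2, nat_lit 0, nat_lit 0, nat_lit 0, nat_lit 0, nat_lit 3, nat_lit 1, nat_lit 3, nat_lit 0, nat_lit 0, nat_lit 2, nat_lit 0, nat_lit 0]) (.leaf (nat_lit 314) (nat_lit 1) [nat_lit 0, nat_lit 0, nat_lit 3, nat_lit 1, nat_lit 3, nat_lit 0, nat_lit 0, nat_lit 2, nat_lit 0, nat_lit 0, nat_lit 0, nat_lit 0, nat_lit 3, nat_lit 1, nat_lit 3, nat_lit 0, nat_lit 0, nat_lit 2, nat_lit 0, nat_lit 0, nat_lit 0, nat_lit 0, nat_lit 3, nat_lit 1, nat_lit 3, nat_lit 0, nat_lit 0, nat_lit 2, nat_lit 0, nat_lit 0, nat_lit 0, nat_lit 0, nat_lit 3, nat_lit 1, nat_lit 3, nat_lit 0, nat_lit 0, nat_lit 2, nat_lit 0, nat_lit 0, nat_lit 0, nat_lit 0, nat_lit 3, nat_lit 1, nat_lit 3, nat_lit 0, nat_lit 0, nat_lit 2, nat_lit 0, nat_lit 0, nat_lit 0, nat_lit 0, nat_lit 3, nat_lit 1, nat_lit 3, nat_lit 0, nat_lit 0, nat_lit 2, nat_lit 0, nat_lit 0, nat_lit 0, nat_lit 0, nat_lit 3, nat_lit 1, nat_lit 3, nat_lit 0, nat_lit 0, nat_lit 2, nat_lit 0])))) (.node (nat_lit 378) (.node (nat_lit 376) (.leaf (nat_lit 315) (nat_lit 1) [nat_lit 0, nat_lit 0, nat_lit 0, nat_lit 3, nat_lit 1, nat_lit 3, nat_lit 0, nat_lit 0, nat_lit 2, nat_lit 0, nat_lit 0, nat_lit 0, nat_lit 0, nat_lit 3, nat_lit 1, nat_lit 3, nat_lit 0, nat_lit 0, nat_lit 2, nat_lit 0, nat_lit 0, nat_lit 0, nat_lit 0, nat_lit 3, nat_lit 1, nat_lit 3, nat_lit 0, nat_lit 0, nat_lit 2, nat_lit 0, nat_lit 0, nat_lit 0, nat_lit 0, nat_lit 3, nat_lit 1, nat_lit 3, nat_lit 0, nat_lit 0, nat_lit 2, nat_lit 0, nat_lit 0, nat_lit 0, nat_lit 0, nat_lit 3, nat_lit 1, nat_lit 3, nat_lit 0, nat_lit 0, nat_lit 2, nat_lit 0, nat_lit 0, nat_lit 0, nat_lit 0, nat_lit 3, nat_lit 1, nat_lit 3, nat_lit 0, nat_lit 0, nat_lit 2, nat_lit 0, nat_lit 0, nat_lit 0, nat_lit 0, nat_lit 3, nat_lit 1, nat_lit 3, nat_lit 0, nat_lit 0, nat_lit 2]) (.node (nat_lit 377) (.leaf (nat_lit 316) (nat_lit 3) [nat_lit 0, nat_lit 0, nat_lit 0, nat_lit 0, nat_lit 3, nat_lit 1, nat_lit 3, nat_lit 0, nat_lit 0, nat_lit 2, nat_lit 0, nat_lit 0, nat_lit 0, nat_lit 0, nat_lit 3, nat_lit 1, nat_lit 3, nat_lit 0, nat_lit 0, nat_lit 2, nat_lit 0, nat_lit 0, nat_lit 0, nat_lit 0, nat_lit 3, nat_lit 1, nat_lit 3, nat_lit 0, nat_lit 0, nat_lit 2, nat_lit 0, nat_lit 0, nat_lit 0, nat_lit 0, nat_lit 3, nat_lit 1, nat_lit 3, nat_lit 0, nat_lit 0, nat_lit 2, nat_lit 0, nat_lit 0, nat_lit 0, nat_lit 0, nat_lit 3, nat_lit 1, nat_lit 3, nat_lit 0, nat_lit 0, nat_lit 2, nat_lit 0, nat_lit 0, nat_lit 0, nat_lit 0, nat_lit 3, nat_lit 1, nat_lit 3, nat_lit 0, nat_lit 0, nat_lit 2, nat_lit 0, nat_lit 0, nat_lit 0, nat_lit 0, nat_lit 3, nat_lit 1, nat_lit 3, nat_lit 0, nat_lit 0]) (.leaf (nat_lit 317) (nat_lit 1) [nat_lit 2, nat_lit 0, nat_lit 0, nat_lit 0, nat_lit 0, nat_lit 3, nat_lit 1, nat_lit 3, nat_lit 0, nat_lit 0, nat_lit 2, nat_lit 0, nat_lit 0, nat_lit 0, nat_lit 0, nat_lit 3, nat_lit 1, nat_lit 3, nat_lit 0, nat_lit 0, nat_lit 2, nat_lit 0, nat_lit 0, nat_lit 0, nat_lit 0, nat_lit 3, nat_lit 1, nat_lit 3, nat_lit 0, nat_lit 0, nat_lit 2, nat_lit 0, nat_lit 0, nat_lit 0, nat_lit 0, nat_lit 3, nat_lit 1, nat_lit 3, nat_lit 0, nat_lit 0, nat_lit 2, nat_lit 0, nat_lit 0, nat_lit 0, nat_lit 0, nat_lit 3, nat_lit 1, nat_lit 3, nat_lit 0, nat_lit 0, nat_lit 2, nat_lit 0, nat_lit 0, nat_lit 0, nat_lit 0, nat_lit 3, nat_lit 1, nat_lit 3, nat_lit 0, nat_lit 0, nat_lit 2, nat_lit 0, nat_lit 0, nat_lit 0, nat_lit 0, nat_lit 3, nat_lit 1, nat_lit 3, nat_lit 0]))) (.node (nat_lit 379) (.leaf (nat_lit 378) (nat_lit 0) [nat_lit 5, nat_lit 1, nat_lit 2, nat_lit 2, nat_lit 0, nat_lit 2, nat_lit 4, nat_lit 0, nat_lit 2, nat_lit 5, nat_lit 3, nat_lit 3, nat_lit 1, nat_lit 3, nat_lit 3]) (.node (nat_lit 380) (.leaf (nat_lit 379) (nat_lit 2) [nat_lit 1, nat_lit 5, nat_lit 1, nat_lit 2, nat_lit 2, nat_lit 0, nat_lit 2, nat_lit 4, nat_lit 0, nat_lit 2, nat_lit 5, nat_lit 3, nat_lit 3, nat_lit 1, nat_lit 3]) (.leaf (nat_lit 380) (nat_lit 2) [nat_lit 3, nat_lit 1, nat_lit 5, nat_lit 1, nat_lit 2, nat_lit 2, nat_lit 0, nat_lit 2, nat_lit 4, nat_lit 0, nat_lit 2, nat_lit 5, nat_lit 3, nat_lit 3, nat_lit 1])))))))))) (.node (nat_lit 571) (.node (nat_lit 476) (.node (nat_lit 428) (.node (nat_lit 404) (.node (nat_lit 392) (.node (nat_lit 386) (.node (nat_lit 383) (.node (nat_lit 382) (.leaf (nat_lit 381) (nat_lit 0) [nat_lit 3, nat_lit 3, nat_lit 1, nat_lit 5, nat_lit 1, nat_lit 2, nat_lit 2, nat_lit 0, nat_lit 2, nat_lit 4, nat_lit 0, nat_lit 2, nat_lit 5, nat_lit 3, nat_lit 3]) (.leaf (nat_lit 382) (nat_lit 2) [nat_lit 1, nat_lit 3, nat_lit 3, nat_lit 1, nat_lit 5, nat_lit 1, nat_lit 2, nat_lit 2, nat_lit 0, nat_lit 2, nat_lit 4, nat_lit 0, nat_lit 2, nat_lit 5, nat_lit 3])) (.node (nat_lit 384) (.leaf (nat_lit 383) (nat_lit 2) [nat_lit 3, nat_lit 1, nat_lit 3, nat_lit 3, nat_lit 1, nat_lit 5, nat_lit 1, nat_lit 2, nat_lit 2, nat_lit 0, nat_lit 2, nat_lit 4, nat_lit 0, nat_lit 2, nat_lit 5]) (.node (nat_lit 385) (.leaf (nat_lit 384) (nat_lit 4) [nat_lit 3, nat_lit 3, nat_lit 1, nat_lit 3, nat_lit 3, nat_lit 1, nat_lit 5, nat_lit 1, nat_lit 2, nat_lit 2, nat_lit 0, nat_lit 2, nat_lit 4, nat_lit 0, nat_lit 2]) (.leaf (nat_lit 385) (nat_lit 3) [nat_lit 5, nat_lit 3, nat_lit 3, nat_lit 1, nat_lit 3, nat_lit 3, nat_lit 1, nat_lit 5, nat_lit 1, nat_lit 2, nat_lit 2, nat_lit 0, nat_lit 2, nat_lit 4, nat_lit 0])))) (.node (nat_lit 389) (.node (nat_lit 387) (.leaf (nat_lit 386) (nat_lit 1) [nat_lit 2, nat_lit 5, nat_lit 3, nat_lit 3, nat_lit 1, nat_lit 3, nat_lit 3, nat_lit 1, nat_lit 5, nat_lit 1, nat_lit 2, nat_lit 2, nat_lit 0, nat_lit 2, nat_lit 4]) (.node (nat_lit 388) (.leaf (nat_lit 387) (nat_lit 5) [nat_lit 0, nat_lit 2, nat_lit 5, nat_lit 3, nat_lit 3, nat_lit 1, nat_lit 3, nat_lit 3, nat_lit 1, nat_lit 5, nat_lit 1, nat_lit 2, nat_lit 2, nat_lit 0, nat_lit 2]) (.leaf (nat_lit 388) (nat_lit 3) [nat_lit 4, nat_lit 0, nat_lit 2, nat_lit 5, nat_lit 3, nat_lit 3, nat_lit 1, nat_lit 3, nat_lit 3, nat_lit 1, nat_lit 5, nat_lit 1, nat_lit 2, nat_lit 2, nat_lit 0]))) (.node (nat_lit 390) (.leaf (nat_lit 389) (nat_lit 1) [nat_lit 2, nat_lit 4, nat_lit 0, nat_lit 2, nat_lit 5, nat_lit 3, nat_lit 3, nat_lit 1, nat_lit 3, nat_lit 3, nat_lit 1, nat_lit 5, nat_lit 1, nat_lit 2, nat_lit 2]) (.node (nat_lit 391) (.leaf (nat_lit 390) (nat_lit 3) [nat_lit 0, nat_lit 2, nat_lit 4, nat_lit 0, nat_lit 2, nat_lit 5, nat_lit 3, nat_lit 3, nat_lit 1, nat_lit 3, nat_lit 3, nat_lit 1, nat_lit 5, nat_lit 1, nat_lit 2]) (.leaf (nat_lit 391) (nat_lit 3) [nat_lit 2, nat_lit 0, nat_lit 2, nat_lit 4, nat_lit 0, nat_lit 2, nat_lit 5, nat_lit 3, nat_lit 3, nat_lit 1, nat_lit 3, nat_lit 3, nat_lit 1, nat_lit 5, nat_lit 1]))))) (.node (nat_lit 398) (.node (nat_lit 395) (.node (nat_lit 393) (.leaf (nat_lit 392) (nat_lit 0) [nat_lit 2, nat_lit 2, nat_lit 0, nat_lit 2, nat_lit 4, nat_lit 0, nat_lit 2, nat_lit 5, nat_lit 3, nat_lit 3, nat_lit 1, nat_lit 3, nat_lit 3, nat_lit 1, nat_lit 5]) (.node (nat_lit 394) (.leaf (nat_lit 393) (nat_lit 4) [nat_lit 1, nat_lit 2, nat_lit 2, nat_lit 0, nat_lit 2, nat_lit 4, nat_lit 0, nat_lit 2, nat_lit 5, nat_lit 3, nat_lit 3, nat_lit 1, nat_lit 3, nat_lit 3, nat_lit 1]) (.leaf (nat_lit 394) (nat_lit 5) [nat_lit 0, nat_lit 2, nat_lit 2, nat_lit 0, nat_lit 2, nat_lit 2, nat_lit 4, nat_lit 3, nat_lit 1, nat_lit 5, nat_lit 3, nat_lit 1, nat_lit 3, nat_lit 3, nat_lit 0]))) (.node (nat_lit 396) (.leaf (nat_lit 395) (nat_lit 1) [nat_lit 4, nat_lit 0, nat_lit 2, nat_lit 2, nat_lit 0, nat_lit 2, nat_lit 2, nat_lit 4, nat_lit 3, nat_lit 1, nat_lit 5, nat_lit 3, nat_lit 1, nat_lit 3, nat_lit 3]) (.node (nat_lit 397) (.leaf (nat_lit 396) (nat_lit 2) [nat_lit 0, nat_lit 4, nat_lit 0, nat_lit 2, nat_lit 2, nat_lit 0, nat_lit 2, nat_lit 2, nat_lit 4, nat_lit 3, nat_lit 1, nat_lit 5, nat_lit 3, nat_lit 1, nat_lit 3]) (.leaf (nat_lit 397) (nat_lit 2) [nat_lit 3, nat_lit 0, nat_lit 4, nat_lit 0, nat_lit 2, nat_lit 2, nat_lit 0, nat_lit 2, nat_lit 2, nat_lit 4, nat_lit 3, nat_lit 1, nat_lit 5, nat_lit 3, nat_lit 1])))) (.node (nat_lit 401) (.node (nat_lit 399) (.leaf (nat_lit 398) (nat_lit 0) [nat_lit 3, nat_lit 3, nat_lit 0, nat_lit 4, nat_lit 0, nat_lit 2, nat_lit 2, nat_lit 0, nat_lit 2, nat_lit 2, nat_lit 4, nat_lit 3, nat_lit 1, nat_lit 5, nat_lit 3]) (.node (nat_lit 400) (.leaf (nat_lit 399) (nat_lit 2) [nat_lit 1, nat_lit 3, nat_lit 3, nat_lit 0, nat_lit 4, nat_lit 0, nat_lit 2, nat_lit 2, nat_lit 0, nat_lit 2, nat_lit 2, nat_lit 4, nat_lit 3, nat_lit 1, nat_lit 5]) (.leaf (nat_lit 400) (nat_lit 4) [nat_lit 3, nat_lit 1, nat_lit 3, nat_lit 3, nat_lit 0, nat_lit 4, nat_lit 0, nat_lit 2, nat_lit 2, nat_lit 0, nat_lit 2, nat_lit 2, nat_lit 4, nat_lit 3, nat_lit 1]))) (.node (nat_lit 402) (.leaf (nat_lit 401) (nat_lit 0) [nat_lit 5, nat_lit 3, nat_lit 1, nat_lit 3, nat_lit 3, nat_lit 0, nat_lit 4, nat_lit 0, nat_lit 2, nat_lit 2, nat_lit 0, nat_lit 2, nat_lit 2, nat_lit 4, nat_lit 3]) (.node (nat_lit 403) (.leaf (nat_lit 402) (nat_lit 2) [nat_lit 1, nat_lit 5, nat_lit 3, nat_lit 1, nat_lit 3, nat_lit 3, nat_lit 0, nat_lit 4, nat_lit 0, nat_lit 2, nat_lit 2, nat_lit 0, nat_lit 2, nat_lit 2, nat_lit 4]) (.leaf (nat_lit 403) (nat_lit 5) [nat_lit 3, nat_lit 1, nat_lit 5, nat_lit 3, nat_lit 1, nat_lit 3, nat_lit 3, nat_lit 0, nat_lit 4, nat_lit 0, nat_lit 2, nat_lit 2, nat_lit 0, nat_lit 2, nat_lit 2])))))) (.node (nat_lit 416) (.node (nat_lit 410) (.node (nat_lit 407) (.node (nat_lit 405) (.leaf (nat_lit 404) (nat_lit 3) [nat_lit 4, nat_lit 3, nat_lit 1, nat_lit 5, nat_lit 3, nat_lit 1, nat_lit 3, nat_lit 3, nat_lit 0, nat_lit 4, nat_lit 0, nat_lit 2, nat_lit 2, nat_lit 0, nat_lit 2]) (.node (nat_lit 406) (.leaf (nat_lit 405) (nat_lit 3) [nat_lit 2, nat_lit 4, nat_lit 3, nat_lit 1, nat_lit 5, nat_lit 3, nat_lit 1, nat_lit 3, nat_lit 3, nat_lit 0, nat_lit 4, nat_lit 0, nat_lit 2, nat_lit 2, nat_lit 0]) (.leaf (nat_lit 406) (nat_lit 1) [nat_lit 2, nat_lit 2, nat_lit 4, nat_lit 3, nat_lit 1, nat_lit 5, nat_lit 3, nat_lit 1, nat_lit 3, nat_lit 3, nat_lit 0, nat_lit 4, nat_lit 0, nat_lit 2, nat_lit 2]))) (.node (nat_lit 408) (.leaf (nat_lit 407) (nat_lit 3) [nat_lit 0, nat_lit 2, nat_lit 2, nat_lit 4, nat_lit 3, nat_lit 1, nat_lit 5, nat_lit 3, nat_lit 1, nat_lit 3, nat_lit 3, nat_lit 0, nat_lit 4, nat_lit 0, nat_lit 2]) (.node (nat_lit 409) (.leaf (nat_lit 408) (nat_lit 3) [nat_lit 2, nat_lit 0, nat_lit 2, nat_lit 2, nat_lit 4, nat_lit 3, nat_lit 1, nat_lit 5, nat_lit 3, nat_lit 1, nat_lit 3, nat_lit 3, nat_lit 0, nat_lit 4, nat_lit 0]) (.leaf (nat_lit 409) (nat_lit 1) [nat_lit 2, nat_lit 2, nat_lit 0, nat_lit 2, nat_lit 2, nat_lit 4, nat_lit 3, nat_lit 1, nat_lit 5, nat_lit 3, nat_lit 1, nat_lit 3, nat_lit 3, nat_lit 0, nat_lit 4])))) (.node (nat_lit 413) (.node (nat_lit 411) (.leaf (nat_lit 410) (nat_lit 0) [nat_lit 3, nat_lit 3, nat_lit 0, nat_lit 4, nat_lit 2, nat_lit 2, nat_lit 0, nat_lit 2, nat_lit 4, nat_lit 2, nat_lit 5, nat_lit 1, nat_lit 3, nat_lit 5, nat_lit 3]) (.node (nat_lit 412) (.leaf (nat_lit 411) (nat_lit 2) [nat_lit 1, nat_lit 3, nat_lit 3, nat_lit 0, nat_lit 4, nat_lit 2, nat_lit 2, nat_lit 0, nat_lit 2, nat_lit 4, nat_lit 2, nat_lit 5, nat_lit 1, nat_lit 3, nat_lit 5]) (.leaf (nat_lit 412) (nat_lit 4) [nat_lit 3, nat_lit 1, nat_lit 3, nat_lit 3, nat_lit 0, nat_lit 4, nat_lit 2, nat_lit 2, nat_lit 0, nat_lit 2, nat_lit 4, nat_lit 2, nat_lit 5, nat_lit 1, nat_lit 3]))) (.node (nat_lit 414) (.leaf (nat_lit 413) (nat_lit 2) [nat_lit 5, nat_lit 3, nat_lit 1, nat_lit 3, nat_lit 3, nat_lit 0, nat_lit 4, nat_lit 2, nat_lit 2, nat_lit 0, nat_lit 2, nat_lit 4, nat_lit 2, nat_lit 5, nat_lit 1]) (.node (nat_lit 415) (.leaf (nat_lit 414) (nat_lit 0) [nat_lit 3, nat_lit 5, nat_lit 3, nat_lit 1, nat_lit 3, nat_lit 3, nat_lit 0, nat_lit 4, nat_lit 2, nat_lit 2, nat_lit 0, nat_lit 2, nat_lit 4, nat_lit 2, nat_lit 5]) (.leaf (nat_lit 415) (nat_lit 4) [nat_lit 1, nat_lit 3, nat_lit 5, nat_lit 3, nat_lit 1, nat_lit 3, nat_lit 3, nat_lit 0, nat_lit 4, nat_lit 2, nat_lit 2, nat_lit 0, nat_lit 2, nat_lit 4, nat_lit 2]))))) (.node (nat_lit 422) (.node (nat_lit 419) (.node (nat_lit 417) (.leaf (nat_lit 416) (nat_lit 3) [nat_lit 5, nat_lit 1, nat_lit 3, nat_lit 5, nat_lit 3, nat_lit 1, nat_lit 3, nat_lit 3, nat_lit 0, nat_lit 4, nat_lit 2, nat_lit 2, nat_lit 0, nat_lit 2, nat_lit 4]) (.node (nat_lit 418) (.leaf (nat_lit 417) (nat_lit 5) [nat_lit 2, nat_lit 5, nat_lit 1, nat_lit 3, nat_lit 5, nat_lit 3, nat_lit 1, nat_lit 3, nat_lit 3, nat_lit 0, nat_lit 4, nat_lit 2, nat_lit 2, nat_lit 0, nat_lit 2]) (.leaf (nat_lit 418) (nat_lit 3) [nat_lit 4, nat_lit 2, nat_lit 5, nat_lit 1, nat_lit 3, nat_lit 5, nat_lit 3, nat_lit 1, nat_lit 3, nat_lit 3, nat_lit 0, nat_lit 4, nat_lit 2, nat_lit 2, nat_lit 0]))) (.node (nat_lit 420) (.leaf (nat_lit 419) (nat_lit 1) [nat_lit 2, nat_lit 4, nat_lit 2, nat_lit 5, nat_lit 1, nat_lit 3, nat_lit 5, nat_lit 3, nat_lit 1, nat_lit 3, nat_lit 3, nat_lit 0, nat_lit 4, nat_lit 2, nat_lit 2]) (.node (nat_lit 421) (.leaf (nat_lit 420) (nat_lit 3) [nat_lit 0, nat_lit 2, nat_lit 4, nat_lit 2, nat_lit 5, nat_lit 1, nat_lit 3, nat_lit 5, nat_lit 3, nat_lit 1, nat_lit 3, nat_lit 3, nat_lit 0, nat_lit 4, nat_lit 2]) (.leaf (nat_lit 421) (nat_lit 3) [nat_lit 2, nat_lit 0, nat_lit 2, nat_lit 4, nat_lit 2, nat_lit 5, nat_lit 1, nat_lit 3, nat_lit 5, nat_lit 3, nat_lit 1, nat_lit 3, nat_lit 3, nat_lit 0, nat_lit 4])))) (.node (nat_lit 425) (.node (nat_lit 423) (.leaf (nat_lit 422) (nat_lit 5) [nat_lit 2, nat_lit 2, nat_lit 0, nat_lit 2, nat_lit 4, nat_lit 2, nat_lit 5, nat_lit 1, nat_lit 3, nat_lit 5, nat_lit 3, nat_lit 1, nat_lit 3, nat_lit 3, nat_lit 0]) (.node (nat_lit 424) (.leaf (nat_lit 423) (nat_lit 1) [nat_lit 4, nat_lit 2, nat_lit 2, nat_lit 0, nat_lit 2, nat_lit 4, nat_lit 2, nat_lit 5, nat_lit 1, nat_lit 3, nat_lit 5, nat_lit 3, nat_lit 1, nat_lit 3, nat_lit 3]) (.leaf (nat_lit 424) (nat_lit 2) [nat_lit 0, nat_lit 4, nat_lit 2, nat_lit 2, nat_lit 0, nat_lit 2, nat_lit 4, nat_lit 2, nat_lit 5, nat_lit 1, nat_lit 3, nat_lit 5, nat_lit 3, nat_lit 1, nat_lit 3]))) (.node (nat_lit 426) (.leaf (nat_lit 425) (nat_lit 2) [nat_lit 3, nat_lit 0, nat_lit 4, nat_lit 2, nat_lit 2, nat_lit 0, nat_lit 2, nat_lit 4, nat_lit 2, nat_lit 5, nat_lit 1, nat_lit 3, nat_lit 5, nat_lit 3, nat_lit 1]) (.node (nat_lit 427) (.leaf (nat_lit 426) (nat_lit 3) [nat_lit 0, nat_lit 2, nat_lit 4, nat_lit 2, nat_lit 0, nat_lit 4, nat_lit 3, nat_lit 5, nat_lit 3, nat_lit 1, nat_lit 3, nat_lit 3, nat_lit 5, nat_lit 1, nat_lit 2]) (.leaf (nat_lit 427) (nat_lit 3) [nat_lit 2, nat_lit 0, nat_lit 2, nat_lit 4, nat_lit 2, nat_lit 0, nat_lit 4, nat_lit 3, nat_lit 5, nat_lit 3, nat_lit 1, nat_lit 3, nat_lit 3, nat_lit 5, nat_lit 1]))))))) (.node (nat_lit 452) (.node (nat_lit 440) (.node (nat_lit 434) (.node (nat_lit 431) (.node (nat_lit 429) (.leaf (nat_lit 428) (nat_lit 0) [nat_lit 2, nat_lit 2, nat_lit 0, nat_lit 2, nat_lit 4, nat_lit 2, nat_lit 0, nat_lit 4, nat_lit 3, nat_lit 5, nat_lit 3, nat_lit 1, nat_lit 3, nat_lit 3, nat_lit 5]) (.node (nat_lit 430) (.leaf (nat_lit 429) (nat_lit 4) [nat_lit 1, nat_lit 2, nat_lit 2, nat_lit 0, nat_lit 2, nat_lit 4, nat_lit 2, nat_lit 0, nat_lit 4, nat_lit 3, nat_lit 5, nat_lit 3, nat_lit 1, nat_lit 3, nat_lit 3]) (.leaf (nat_lit 430) (nat_lit 2) [nat_lit 5, nat_lit 1, nat_lit 2, nat_lit 2, nat_lit 0, nat_lit 2, nat_lit 4, nat_lit 2, nat_lit 0, nat_lit 4, nat_lit 3, nat_lit 5, nat_lit 3, nat_lit 1, nat_lit 3]))) (.node (nat_lit 432) (.leaf (nat_lit 431) (nat_lit 2) [nat_lit 3, nat_lit 5, nat_lit 1, nat_lit 2, nat_lit 2, nat_lit 0, nat_lit 2, nat_lit 4, nat_lit 2, nat_lit 0, nat_lit 4, nat_lit 3, nat_lit 5, nat_lit 3, nat_lit 1]) (.node (nat_lit 433) (.leaf (nat_lit 432) (nat_lit 0) [nat_lit 3, nat_lit 3, nat_lit 5, nat_lit 1, nat_lit 2, nat_lit 2, nat_lit 0, nat_lit 2, nat_lit 4, nat_lit 2, nat_lit 0, nat_lit 4, nat_lit 3, nat_lit 5, nat_lit 3]) (.leaf (nat_lit 433) (nat_lit 2) [nat_lit 1, nat_lit 3, nat_lit 3, nat_lit 5, nat_lit 1, nat_lit 2, nat_lit 2, nat_lit 0, nat_lit 2, nat_lit 4, nat_lit 2, nat_lit 0, nat_lit 4, nat_lit 3, nat_lit 5])))) (.node (nat_lit 437) (.node (nat_lit 435) (.leaf (nat_lit 434) (nat_lit 4) [nat_lit 3, nat_lit 1, nat_lit 3, nat_lit 3, nat_lit 5, nat_lit 1, nat_lit 2, nat_lit 2, nat_lit 0, nat_lit 2, nat_lit 4, nat_lit 2, nat_lit 0, nat_lit 4, nat_lit 3]) (.node (nat_lit 436) (.leaf (nat_lit 435) (nat_lit 2) [nat_lit 5, nat_lit 3, nat_lit 1, nat_lit 3, nat_lit 3, nat_lit 5, nat_lit 1, nat_lit 2, nat_lit 2, nat_lit 0, nat_lit 2, nat_lit 4, nat_lit 2, nat_lit 0, nat_lit 4]) (.leaf (nat_lit 436) (nat_lit 5) [nat_lit 3, nat_lit 5, nat_lit 3, nat_lit 1, nat_lit 3, nat_lit 3, nat_lit 5, nat_lit 1, nat_lit 2, nat_lit 2, nat_lit 0, nat_lit 2, nat_lit 4, nat_lit 2, nat_lit 0]))) (.node (nat_lit 438) (.leaf (nat_lit 437) (nat_lit 1) [nat_lit 4, nat_lit 3, nat_lit 5, nat_lit 3, nat_lit 1, nat_lit 3, nat_lit 3, nat_lit 5, nat_lit 1, nat_lit 2, nat_lit 2, nat_lit 0, nat_lit 2, nat_lit 4, nat_lit 2]) (.node (nat_lit 439) (.leaf (nat_lit 438) (nat_lit 3) [nat_lit 0, nat_lit 4, nat_lit 3, nat_lit 5, nat_lit 3, nat_lit 1, nat_lit 3, nat_lit 3, nat_lit 5, nat_lit 1, nat_lit 2, nat_lit 2, nat_lit 0, nat_lit 2, nat_lit 4]) (.leaf (nat_lit 439) (nat_lit 5) [nat_lit 2, nat_lit 0, nat_lit 4, nat_lit 3, nat_lit 5, nat_lit 3, nat_lit 1, nat_lit 3, nat_lit 3, nat_lit 5, nat_lit 1, nat_lit 2, nat_lit 2, nat_lit 0, nat_lit 2]))))) (.node (nat_lit 446) (.node (nat_lit 443) (.node (nat_lit 441) (.leaf (nat_lit 440) (nat_lit 3) [nat_lit 4, nat_lit 2, nat_lit 0, nat_lit 4, nat_lit 3, nat_lit 5, nat_lit 3, nat_lit 1, nat_lit 3, nat_lit 3, nat_lit 5, nat_lit 1, nat_lit 2, nat_lit 2, nat_lit 0]) (.node (nat_lit 442) (.leaf (nat_lit 441) (nat_lit 1) [nat_lit 2, nat_lit 4, nat_lit 2, nat_lit 0, nat_lit 4, nat_lit 3, nat_lit 5, nat_lit 3, nat_lit 1, nat_lit 3, nat_lit 3, nat_lit 5, nat_lit 1, nat_lit 2, nat_lit 2]) (.leaf (nat_lit 442) (nat_lit 0) [nat_lit 2, nat_lit 2, nat_lit 0, nat_lit 2, nat_lit 4, nat_lit 2, nat_lit 4, nat_lit 1, nat_lit 5, nat_lit 3, nat_lit 5, nat_lit 3, nat_lit 1, nat_lit 3, nat_lit 3]))) (.node (nat_lit 444) (.leaf (nat_lit 443) (nat_lit 2) [nat_lit 1, nat_lit 2, nat_lit 2, nat_lit 0, nat_lit 2, nat_lit 4, nat_lit 2, nat_lit 4, nat_lit 1, nat_lit 5, nat_lit 3, nat_lit 5, nat_lit 3, nat_lit 1, nat_lit 3]) (.node (nat_lit 445) (.leaf (nat_lit 444) (nat_lit 2) [nat_lit 3, nat_lit 1, nat_lit 2, nat_lit 2, nat_lit 0, nat_lit 2, nat_lit 4, nat_lit 2, nat_lit 4, nat_lit 1, nat_lit 5, nat_lit 3, nat_lit 5, nat_lit 3, nat_lit 1]) (.leaf (nat_lit 445) (nat_lit 0) [nat_lit 3, nat_lit 3, nat_lit 1, nat_lit 2, nat_lit 2, nat_lit 0, nat_lit 2, nat_lit 4, nat_lit 2, nat_lit 4, nat_lit 1, nat_lit 5, nat_lit 3, nat_lit 5, nat_lit 3])))) (.node (nat_lit 449) (.node (nat_lit 447) (.leaf (nat_lit 446) (nat_lit 2) [nat_lit 1, nat_lit 3, nat_lit 3, nat_lit 1, nat_lit 2, nat_lit 2, nat_lit 0, nat_lit 2, nat_lit 4, nat_lit 2, nat_lit 4, nat_lit 1, nat_lit 5, nat_lit 3, nat_lit 5]) (.node (nat_lit 448) (.leaf (nat_lit 447) (nat_lit 4) [nat_lit 3, nat_lit 1, nat_lit 3, nat_lit 3, nat_lit 1, nat_lit 2, nat_lit 2, nat_lit 0, nat_lit 2, nat_lit 4, nat_lit 2, nat_lit 4, nat_lit 1, nat_lit 5, nat_lit 3]) (.leaf (nat_lit 448) (nat_lit 2) [nat_lit 5, nat_lit 3, nat_lit 1, nat_lit 3, nat_lit 3, nat_lit 1, nat_lit 2, nat_lit 2, nat_lit 0, nat_lit 2, nat_lit 4, nat_lit 2, nat_lit 4, nat_lit 1, nat_lit 5]))) (.node (nat_lit 450) (.leaf (nat_lit 449) (nat_lit 4) [nat_lit 3, nat_lit 5, nat_lit 3, nat_lit 1, nat_lit 3, nat_lit 3, nat_lit 1, nat_lit 2, nat_lit 2, nat_lit 0, nat_lit 2, nat_lit 4, nat_lit 2, nat_lit 4, nat_lit 1]) (.node (nat_lit 451) (.leaf (nat_lit 450) (nat_lit 0) [nat_lit 5, nat_lit 3, nat_lit 5, nat_lit 3, nat_lit 1, nat_lit 3, nat_lit 3, nat_lit 1, nat_lit 2, nat_lit 2, nat_lit 0, nat_lit 2, nat_lit 4, nat_lit 2, nat_lit 4]) (.leaf (nat_lit 451) (nat_lit 5) [nat_lit 1, nat_lit 5, nat_lit 3, nat_lit 5, nat_lit 3, nat_lit 1, nat_lit 3, nat_lit 3, nat_lit 1, nat_lit 2, nat_lit 2, nat_lit 0, nat_lit 2, nat_lit 4, nat_lit 2])))))) (.node (nat_lit 464) (.node (nat_lit 458) (.node (nat_lit 455) (.node (nat_lit 453) (.leaf (nat_lit 452) (nat_lit 3) [nat_lit 4, nat_lit 1, nat_lit 5, nat_lit 3, nat_lit 5, nat_lit 3, nat_lit 1, nat_lit 3, nat_lit 3, nat_lit 1, nat_lit 2, nat_lit 2, nat_lit 0, nat_lit 2, nat_lit 4]) (.node (nat_lit 454) (.leaf (nat_lit 453) (nat_lit 5) [nat_lit 2, nat_lit 4, nat_lit 1, nat_lit 5, nat_lit 3, nat_lit 5, nat_lit 3, nat_lit 1, nat_lit 3, nat_lit 3, nat_lit 1, nat_lit 2, nat_lit 2, nat_lit 0, nat_lit 2]) (.leaf (nat_lit 454) (nat_lit 3) [nat_lit 4, nat_lit 2, nat_lit 4, nat_lit 1, nat_lit 5, nat_lit 3, nat_lit 5, nat_lit 3, nat_lit 1, nat_lit 3, nat_lit 3, nat_lit 1, nat_lit 2, nat_lit 2, nat_lit 0]))) (.node (nat_lit 456) (.leaf (nat_lit 455) (nat_lit 1) [nat_lit 2, nat_lit 4, nat_lit 2, nat_lit 4, nat_lit 1, nat_lit 5, nat_lit 3, nat_lit 5, nat_lit 3, nat_lit 1, nat_lit 3, nat_lit 3, nat_lit 1, nat_lit 2, nat_lit 2]) (.node (nat_lit 457) (.leaf (nat_lit 456) (nat_lit 3) [nat_lit 0, nat_lit 2, nat_lit 4, nat_lit 2, nat_lit 4, nat_lit 1, nat_lit 5, nat_lit 3, nat_lit 5, nat_lit 3, nat_lit 1, nat_lit 3, nat_lit 3, nat_lit 1, nat_lit 2]) (.leaf (nat_lit 457) (nat_lit 3) [nat_lit 2, nat_lit 0, nat_lit 2, nat_lit 4, nat_lit 2, nat_lit 4, nat_lit 1, nat_lit 5, nat_lit 3, nat_lit 5, nat_lit 3, nat_lit 1, nat_lit 3, nat_lit 3, nat_lit 1])))) (.node (nat_lit 461) (.node (nat_lit 459) (.leaf (nat_lit 458) (nat_lit 2) [nat_lit 0, nat_lit 2, nat_lit 2, nat_lit 0, nat_lit 2, nat_lit 4, nat_lit 2, nat_lit 4, nat_lit 0, nat_lit 5, nat_lit 3, nat_lit 5, nat_lit 3, nat_lit 1, nat_lit 3]) (.node (nat_lit 460) (.leaf (nat_lit 459) (nat_lit 2) [nat_lit 3, nat_lit 0, nat_lit 2, nat_lit 2, nat_lit 0, nat_lit 2, nat_lit 4, nat_lit 2, nat_lit 4, nat_lit 0, nat_lit 5, nat_lit 3, nat_lit 5, nat_lit 3, nat_lit 1]) (.leaf (nat_lit 460) (nat_lit 0) [nat_lit 3, nat_lit 3, nat_lit 0, nat_lit 2, nat_lit 2, nat_lit 0, nat_lit 2, nat_lit 4, nat_lit 2, nat_lit 4, nat_lit 0, nat_lit 5, nat_lit 3, nat_lit 5, nat_lit 3]))) (.node (nat_lit 462) (.leaf (nat_lit 461) (nat_lit 2) [nat_lit 1, nat_lit 3, nat_lit 3, nat_lit 0, nat_lit 2, nat_lit 2, nat_lit 0, nat_lit 2, nat_lit 4, nat_lit 2, nat_lit 4, nat_lit 0, nat_lit 5, nat_lit 3, nat_lit 5]) (.node (nat_lit 463) (.leaf (nat_lit 462) (nat_lit 4) [nat_lit 3, nat_lit 1, nat_lit 3, nat_lit 3, nat_lit 0, nat_lit 2, nat_lit 2, nat_lit 0, nat_lit 2, nat_lit 4, nat_lit 2, nat_lit 4, nat_lit 0, nat_lit 5, nat_lit 3]) (.leaf (nat_lit 463) (nat_lit 2) [nat_lit 5, nat_lit 3, nat_lit 1, nat_lit 3, nat_lit 3, nat_lit 0, nat_lit 2, nat_lit 2, nat_lit 0, nat_lit 2, nat_lit 4, nat_lit 2, nat_lit 4, nat_lit 0, nat_lit 5]))))) (.node (nat_lit 470) (.node (nat_lit 467) (.node (nat_lit 465) (.leaf (nat_lit 464) (nat_lit 4) [nat_lit 3, nat_lit 5, nat_lit 3, nat_lit 1, nat_lit 3, nat_lit 3, nat_lit 0, nat_lit 2, nat_lit 2, nat_lit 0, nat_lit 2, nat_lit 4, nat_lit 2, nat_lit 4, nat_lit 0]) (.node (nat_lit 466) (.leaf (nat_lit 465) (nat_lit 1) [nat_lit 5, nat_lit 3, nat_lit 5, nat_lit 3, nat_lit 1, nat_lit 3, nat_lit 3, nat_lit 0, nat_lit 2, nat_lit 2, nat_lit 0, nat_lit 2, nat_lit 4, nat_lit 2, nat_lit 4]) (.leaf (nat_lit 466) (nat_lit 5) [nat_lit 0, nat_lit 5, nat_lit 3, nat_lit 5, nat_lit 3, nat_lit 1, nat_lit 3, nat_lit 3, nat_lit 0, nat_lit 2, nat_lit 2, nat_lit 0, nat_lit 2, nat_lit 4, nat_lit 2]))) (.node (nat_lit 468) (.leaf (nat_lit 467) (nat_lit 3) [nat_lit 4, nat_lit 0, nat_lit 5, nat_lit 3, nat_lit 5, nat_lit 3, nat_lit 1, nat_lit 3, nat_lit 3, nat_lit 0, nat_lit 2, nat_lit 2, nat_lit 0, nat_lit 2, nat_lit 4]) (.node (nat_lit 469) (.leaf (nat_lit 468) (nat_lit 5) [nat_lit 2, nat_lit 4, nat_lit 0, nat_lit 5, nat_lit 3, nat_lit 5, nat_lit 3, nat_lit 1, nat_lit 3, nat_lit 3, nat_lit 0, nat_lit 2, nat_lit 2, nat_lit 0, nat_lit 2]) (.leaf (nat_lit 469) (nat_lit 3) [nat_lit 4, nat_lit 2, nat_lit 4, nat_lit 0, nat_lit 5, nat_lit 3, nat_lit 5, nat_lit 3, nat_lit 1, nat_lit 3, nat_lit 3, nat_lit 0, nat_lit 2, nat_lit 2, nat_lit 0])))) (.node (nat_lit 473) (.node (nat_lit 471) (.leaf (nat_lit 470) (nat_lit 1) [nat_lit 2, nat_lit 4, nat_lit 2, nat_lit 4, nat_lit 0, nat_lit 5, nat_lit 3, nat_lit 5, nat_lit 3, nat_lit 1, nat_lit 3, nat_lit 3, nat_lit 0, nat_lit 2, nat_lit 2]) (.node (nat_lit 472) (.leaf (nat_lit 471) (nat_lit 3) [nat_lit 0, nat_lit 2, nat_lit 4, nat_lit 2, nat_lit 4, nat_lit 0, nat_lit 5, nat_lit 3, nat_lit 5, nat_lit 3, nat_lit 1, nat_lit 3, nat_lit 3, nat_lit 0, nat_lit 2]) (.leaf (nat_lit 472) (nat_lit 3) [nat_lit 2, nat_lit 0, nat_lit 2, nat_lit 4, nat_lit 2, nat_lit 4, nat_lit 0, nat_lit 5, nat_lit 3, nat_lit 5, nat_lit 3, nat_lit 1, nat_lit 3, nat_lit 3, nat_lit 0]))) (.node (nat_lit 474) (.leaf (nat_lit 473) (nat_lit 1) [nat_lit 2, nat_lit 2, nat_lit 0, nat_lit 2, nat_lit 4, nat_lit 2, nat_lit 4, nat_lit 0, nat_lit 5, nat_lit 3, nat_lit 5, nat_lit 3, nat_lit 1, nat_lit 3, nat_lit 3]) (.node (nat_lit 475) (.leaf (nat_lit 474) (nat_lit 0) [nat_lit 3, nat_lit 3, nat_lit 0, nat_lit 3, nat_lit 4, nat_lit 2, nat_lit 4, nat_lit 0, nat_lit 4, nat_lit 3, nat_lit 4, nat_lit 2, nat_lit 1, nat_lit 2, nat_lit 2]) (.leaf (nat_lit 475) (nat_lit 3) [nat_lit 1, nat_lit 3, nat_lit 3, nat_lit 0, nat_lit 3, nat_lit 4, nat_lit 2, nat_lit 4, nat_lit 0, nat_lit 4, nat_lit 3, nat_lit 4, nat_lit 2, nat_lit 1, nat_lit 2])))))))) (.node (nat_lit 523) (.node (nat_lit 499) (.node (nat_lit 487) (.node (nat_lit 481) (.node (nat_lit 478) (.node (nat_lit 477) (.leaf (nat_lit 476) (nat_lit 3) [nat_lit 2, nat_lit 1, nat_lit 3, nat_lit 3, nat_lit 0, nat_lit 3, nat_lit 4, nat_lit 2, nat_lit 4, nat_lit 0, nat_lit 4, nat_lit 3, nat_lit 4, nat_lit 2, nat_lit 1]) (.leaf (nat_lit 477) (nat_lit 0) [nat_lit 2, nat_lit 2, nat_lit 1, nat_lit 3, nat_lit 3, nat_lit 0, nat_lit 3, nat_lit 4, nat_lit 2, nat_lit 4, nat_lit 0, nat_lit 4, nat_lit 3, nat_lit 4, nat_lit 2])) (.node (nat_lit 479) (.leaf (nat_lit 478) (nat_lit 3) [nat_lit 1, nat_lit 2, nat_lit 2, nat_lit 1, nat_lit 3, nat_lit 3, nat_lit 0, nat_lit 3, nat_lit 4, nat_lit 2, nat_lit 4, nat_lit 0, nat_lit 4, nat_lit 3, nat_lit 4]) (.node (nat_lit 480) (.leaf (nat_lit 479) (nat_lit 5) [nat_lit 2, nat_lit 1, nat_lit 2, nat_lit 2, nat_lit 1, nat_lit 3, nat_lit 3, nat_lit 0, nat_lit 3, nat_lit 4, nat_lit 2, nat_lit 4, nat_lit 0, nat_lit 4, nat_lit 3]) (.leaf (nat_lit 480) (nat_lit 2) [nat_lit 4, nat_lit 2, nat_lit 1, nat_lit 2, nat_lit 2, nat_lit 1, nat_lit 3, nat_lit 3, nat_lit 0, nat_lit 3, nat_lit 4, nat_lit 2, nat_lit 4, nat_lit 0, nat_lit 4])))) (.node (nat_lit 484) (.node (nat_lit 482) (.leaf (nat_lit 481) (nat_lit 5) [nat_lit 3, nat_lit 4, nat_lit 2, nat_lit 1, nat_lit 2, nat_lit 2, nat_lit 1, nat_lit 3, nat_lit 3, nat_lit 0, nat_lit 3, nat_lit 4, nat_lit 2, nat_lit 4, nat_lit 0]) (.node (nat_lit 483) (.leaf (nat_lit 482) (nat_lit 1) [nat_lit 4, nat_lit 3, nat_lit 4, nat_lit 2, nat_lit 1, nat_lit 2, nat_lit 2, nat_lit 1, nat_lit 3, nat_lit 3, nat_lit 0, nat_lit 3, nat_lit 4, nat_lit 2, nat_lit 4]) (.leaf (nat_lit 483) (nat_lit 5) [nat_lit 0, nat_lit 4, nat_lit 3, nat_lit 4, nat_lit 2, nat_lit 1, nat_lit 2, nat_lit 2, nat_lit 1, nat_lit 3, nat_lit 3, nat_lit 0, nat_lit 3, nat_lit 4, nat_lit 2]))) (.node (nat_lit 485) (.leaf (nat_lit 484) (nat_lit 3) [nat_lit 4, nat_lit 0, nat_lit 4, nat_lit 3, nat_lit 4, nat_lit 2, nat_lit 1, nat_lit 2, nat_lit 2, nat_lit 1, nat_lit 3, nat_lit 3, nat_lit 0, nat_lit 3, nat_lit 4]) (.node (nat_lit 486) (.leaf (nat_lit 485) (nat_lit 5) [nat_lit 2, nat_lit 4, nat_lit 0, nat_lit 4, nat_lit 3, nat_lit 4, nat_lit 2, nat_lit 1, nat_lit 2, nat_lit 2, nat_lit 1, nat_lit 3, nat_lit 3, nat_lit 0, nat_lit 3]) (.leaf (nat_lit 486) (nat_lit 2) [nat_lit 4, nat_lit 2, nat_lit 4, nat_lit 0, nat_lit 4, nat_lit 3, nat_lit 4, nat_lit 2, nat_lit 1, nat_lit 2, nat_lit 2, nat_lit 1, nat_lit 3, nat_lit 3, nat_lit 0]))))) (.node (nat_lit 493) (.node (nat_lit 490) (.node (nat_lit 488) (.leaf (nat_lit 487) (nat_lit 1) [nat_lit 3, nat_lit 4, nat_lit 2, nat_lit 4, nat_lit 0, nat_lit 4, nat_lit 3, nat_lit 4, nat_lit 2, nat_lit 1, nat_lit 2, nat_lit 2, nat_lit 1, nat_lit 3, nat_lit 3]) (.node (nat_lit 489) (.leaf (nat_lit 488) (nat_lit 2) [nat_lit 0, nat_lit 3, nat_lit 4, nat_lit 2, nat_lit 4, nat_lit 0, nat_lit 4, nat_lit 3, nat_lit 4, nat_lit 2, nat_lit 1, nat_lit 2, nat_lit 2, nat_lit 1, nat_lit 3]) (.leaf (nat_lit 489) (nat_lit 2) [nat_lit 3, nat_lit 0, nat_lit 3, nat_lit 4, nat_lit 2, nat_lit 4, nat_lit 0, nat_lit 4, nat_lit 3, nat_lit 4, nat_lit 2, nat_lit 1, nat_lit 2, nat_lit 2, nat_lit 1]))) (.node (nat_lit 491) (.leaf (nat_lit 490) (nat_lit 3) [nat_lit 0, nat_lit 3, nat_lit 3, nat_lit 0, nat_lit 3, nat_lit 5, nat_lit 2, nat_lit 5, nat_lit 1, nat_lit 5, nat_lit 3, nat_lit 5, nat_lit 2, nat_lit 1, nat_lit 2]) (.node (nat_lit 492) (.leaf (nat_lit 491) (nat_lit 3) [nat_lit 2, nat_lit 0, nat_lit 3, nat_lit 3, nat_lit 0, nat_lit 3, nat_lit 5, nat_lit 2, nat_lit 5, nat_lit 1, nat_lit 5, nat_lit 3, nat_lit 5, nat_lit 2, nat_lit 1]) (.leaf (nat_lit 492) (nat_lit 0) [nat_lit 2, nat_lit 2, nat_lit 0, nat_lit 3, nat_lit 3, nat_lit 0, nat_lit 3, nat_lit 5, nat_lit 2, nat_lit 5, nat_lit 1, nat_lit 5, nat_lit 3, nat_lit 5, nat_lit 2])))) (.node (nat_lit 496) (.node (nat_lit 494) (.leaf (nat_lit 493) (nat_lit 3) [nat_lit 1, nat_lit 2, nat_lit 2, nat_lit 0, nat_lit 3, nat_lit 3, nat_lit 0, nat_lit 3, nat_lit 5, nat_lit 2, nat_lit 5, nat_lit 1, nat_lit 5, nat_lit 3, nat_lit 5]) (.node (nat_lit 495) (.leaf (nat_lit 494) (nat_lit 4) [nat_lit 2, nat_lit 1, nat_lit 2, nat_lit 2, nat_lit 0, nat_lit 3, nat_lit 3, nat_lit 0, nat_lit 3, nat_lit 5, nat_lit 2, nat_lit 5, nat_lit 1, nat_lit 5, nat_lit 3]) (.leaf (nat_lit 495) (nat_lit 2) [nat_lit 5, nat_lit 2, nat_lit 1, nat_lit 2, nat_lit 2, nat_lit 0, nat_lit 3, nat_lit 3, nat_lit 0, nat_lit 3, nat_lit 5, nat_lit 2, nat_lit 5, nat_lit 1, nat_lit 5]))) (.node (nat_lit 497) (.leaf (nat_lit 496) (nat_lit 4) [nat_lit 3, nat_lit 5, nat_lit 2, nat_lit 1, nat_lit 2, nat_lit 2, nat_lit 0, nat_lit 3, nat_lit 3, nat_lit 0, nat_lit 3, nat_lit 5, nat_lit 2, nat_lit 5, nat_lit 1]) (.node (nat_lit 498) (.leaf (nat_lit 497) (nat_lit 0) [nat_lit 5, nat_lit 3, nat_lit 5, nat_lit 2, nat_lit 1, nat_lit 2, nat_lit 2, nat_lit 0, nat_lit 3, nat_lit 3, nat_lit 0, nat_lit 3, nat_lit 5, nat_lit 2, nat_lit 5]) (.leaf (nat_lit 498) (nat_lit 4) [nat_lit 1, nat_lit 5, nat_lit 3, nat_lit 5, nat_lit 2, nat_lit 1, nat_lit 2, nat_lit 2, nat_lit 0, nat_lit 3, nat_lit 3, nat_lit 0, nat_lit 3, nat_lit 5, nat_lit 2])))))) (.node (nat_lit 511) (.node (nat_lit 505) (.node (nat_lit 502) (.node (nat_lit 500) (.leaf (nat_lit 499) (nat_lit 3) [nat_lit 5, nat_lit 1, nat_lit 5, nat_lit 3, nat_lit 5, nat_lit 2, nat_lit 1, nat_lit 2, nat_lit 2, nat_lit 0, nat_lit 3, nat_lit 3, nat_lit 0, nat_lit 3, nat_lit 5]) (.node (nat_lit 501) (.leaf (nat_lit 500) (nat_lit 4) [nat_lit 2, nat_lit 5, nat_lit 1, nat_lit 5, nat_lit 3, nat_lit 5, nat_lit 2, nat_lit 1, nat_lit 2, nat_lit 2, nat_lit 0, nat_lit 3, nat_lit 3, nat_lit 0, nat_lit 3]) (.leaf (nat_lit 501) (nat_lit 2) [nat_lit 5, nat_lit 2, nat_lit 5, nat_lit 1, nat_lit 5, nat_lit 3, nat_lit 5, nat_lit 2, nat_lit 1, nat_lit 2, nat_lit 2, nat_lit 0, nat_lit 3, nat_lit 3, nat_lit 0]))) (.node (nat_lit 503) (.leaf (nat_lit 502) (nat_lit 1) [nat_lit 3, nat_lit 5, nat_lit 2, nat_lit 5, nat_lit 1, nat_lit 5, nat_lit 3, nat_lit 5, nat_lit 2, nat_lit 1, nat_lit 2, nat_lit 2, nat_lit 0, nat_lit 3, nat_lit 3]) (.node (nat_lit 504) (.leaf (nat_lit 503) (nat_lit 2) [nat_lit 0, nat_lit 3, nat_lit 5, nat_lit 2, nat_lit 5, nat_lit 1, nat_lit 5, nat_lit 3, nat_lit 5, nat_lit 2, nat_lit 1, nat_lit 2, nat_lit 2, nat_lit 0, nat_lit 3]) (.leaf (nat_lit 504) (nat_lit 2) [nat_lit 3, nat_lit 0, nat_lit 3, nat_lit 5, nat_lit 2, nat_lit 5, nat_lit 1, nat_lit 5, nat_lit 3, nat_lit 5, nat_lit 2, nat_lit 1, nat_lit 2, nat_lit 2, nat_lit 0])))) (.node (nat_lit 508) (.node (nat_lit 506) (.leaf (nat_lit 505) (nat_lit 1) [nat_lit 3, nat_lit 3, nat_lit 0, nat_lit 3, nat_lit 5, nat_lit 2, nat_lit 5, nat_lit 1, nat_lit 5, nat_lit 3, nat_lit 5, nat_lit 2, nat_lit 1, nat_lit 2, nat_lit 2]) (.node (nat_lit 507) (.leaf (nat_lit 506) (nat_lit 0) [nat_lit 2, nat_lit 1, nat_lit 5, nat_lit 1, nat_lit 2, nat_lit 2, nat_lit 0, nat_lit 3, nat_lit 3, nat_lit 4, nat_lit 0, nat_lit 2, nat_lit 5, nat_lit 3, nat_lit 3]) (.leaf (nat_lit 507) (nat_lit 2) [nat_lit 1, nat_lit 2, nat_lit 1, nat_lit 5, nat_lit 1, nat_lit 2, nat_lit 2, nat_lit 0, nat_lit 3, nat_lit 3, nat_lit 4, nat_lit 0, nat_lit 2, nat_lit 5, nat_lit 3]))) (.node (nat_lit 509) (.leaf (nat_lit 508) (nat_lit 2) [nat_lit 3, nat_lit 1, nat_lit 2, nat_lit 1, nat_lit 5, nat_lit 1, nat_lit 2, nat_lit 2, nat_lit 0, nat_lit 3, nat_lit 3, nat_lit 4, nat_lit 0, nat_lit 2, nat_lit 5]) (.node (nat_lit 510) (.leaf (nat_lit 509) (nat_lit 4) [nat_lit 3, nat_lit 3, nat_lit 1, nat_lit 2, nat_lit 1, nat_lit 5, nat_lit 1, nat_lit 2, nat_lit 2, nat_lit 0, nat_lit 3, nat_lit 3, nat_lit 4, nat_lit 0, nat_lit 2]) (.leaf (nat_lit 510) (nat_lit 3) [nat_lit 5, nat_lit 3, nat_lit 3, nat_lit 1, nat_lit 2, nat_lit 1, nat_lit 5, nat_lit 1, nat_lit 2, nat_lit 2, nat_lit 0, nat_lit 3, nat_lit 3, nat_lit 4, nat_lit 0]))))) (.node (nat_lit 517) (.node (nat_lit 514) (.node (nat_lit 512) (.leaf (nat_lit 511) (nat_lit 1) [nat_lit 2, nat_lit 5, nat_lit 3, nat_lit 3, nat_lit 1, nat_lit 2, nat_lit 1, nat_lit 5, nat_lit 1, nat_lit 2, nat_lit 2, nat_lit 0, nat_lit 3, nat_lit 3, nat_lit 4]) (.node (nat_lit 513) (.leaf (nat_lit 512) (nat_lit 5) [nat_lit 0, nat_lit 2, nat_lit 5, nat_lit 3, nat_lit 3, nat_lit 1, nat_lit 2, nat_lit 1, nat_lit 5, nat_lit 1, nat_lit 2, nat_lit 2, nat_lit 0, nat_lit 3, nat_lit 3]) (.leaf (nat_lit 513) (nat_lit 2) [nat_lit 4, nat_lit 0, nat_lit 2, nat_lit 5, nat_lit 3, nat_lit 3, nat_lit 1, nat_lit 2, nat_lit 1, nat_lit 5, nat_lit 1, nat_lit 2, nat_lit 2, nat_lit 0, nat_lit 3]))) (.node (nat_lit 515) (.leaf (nat_lit 514) (nat_lit 2) [nat_lit 3, nat_lit 4, nat_lit 0, nat_lit 2, nat_lit 5, nat_lit 3, nat_lit 3, nat_lit 1, nat_lit 2, nat_lit 1, nat_lit 5, nat_lit 1, nat_lit 2, nat_lit 2, nat_lit 0]) (.node (nat_lit 516) (.leaf (nat_lit 515) (nat_lit 1) [nat_lit 3, nat_lit 3, nat_lit 4, nat_lit 0, nat_lit 2, nat_lit 5, nat_lit 3, nat_lit 3, nat_lit 1, nat_lit 2, nat_lit 1, nat_lit 5, nat_lit 1, nat_lit 2, nat_lit 2]) (.leaf (nat_lit 516) (nat_lit 3) [nat_lit 0, nat_lit 3, nat_lit 3, nat_lit 4, nat_lit 0, nat_lit 2, nat_lit 5, nat_lit 3, nat_lit 3, nat_lit 1, nat_lit 2, nat_lit 1, nat_lit 5, nat_lit 1, nat_lit 2])))) (.node (nat_lit 520) (.node (nat_lit 518) (.leaf (nat_lit 517) (nat_lit 3) [nat_lit 2, nat_lit 0, nat_lit 3, nat_lit 3, nat_lit 4, nat_lit 0, nat_lit 2, nat_lit 5, nat_lit 3, nat_lit 3, nat_lit 1, nat_lit 2, nat_lit 1, nat_lit 5, nat_lit 1]) (.node (nat_lit 519) (.leaf (nat_lit 518) (nat_lit 0) [nat_lit 2, nat_lit 2, nat_lit 0, nat_lit 3, nat_lit 3, nat_lit 4, nat_lit 0, nat_lit 2, nat_lit 5, nat_lit 3, nat_lit 3, nat_lit 1, nat_lit 2, nat_lit 1, nat_lit 5]) (.leaf (nat_lit 519) (nat_lit 4) [nat_lit 1, nat_lit 2, nat_lit 2, nat_lit 0, nat_lit 3, nat_lit 3, nat_lit 4, nat_lit 0, nat_lit 2, nat_lit 5, nat_lit 3, nat_lit 3, nat_lit 1, nat_lit 2, nat_lit 1]))) (.node (nat_lit 521) (.leaf (nat_lit 520) (nat_lit 0) [nat_lit 5, nat_lit 1, nat_lit 2, nat_lit 2, nat_lit 0, nat_lit 3, nat_lit 3, nat_lit 4, nat_lit 0, nat_lit 2, nat_lit 5, nat_lit 3, nat_lit 3, nat_lit 1, nat_lit 2]) (.node (nat_lit 522) (.leaf (nat_lit 521) (nat_lit 3) [nat_lit 1, nat_lit 5, nat_lit 1, nat_lit 2, nat_lit 2, nat_lit 0, nat_lit 3, nat_lit 3, nat_lit 4, nat_lit 0, nat_lit 2, nat_lit 5, nat_lit 3, nat_lit 3, nat_lit 1]) (.leaf (nat_lit 522) (nat_lit 2) [nat_lit 0, nat_lit 2, nat_lit 2, nat_lit 4, nat_lit 3, nat_lit 1, nat_lit 5, nat_lit 2, nat_lit 2, nat_lit 1, nat_lit 3, nat_lit 3, nat_lit 0, nat_lit 4, nat_lit 0]))))))) (.node (nat_lit 547) (.node (nat_lit 535) (.node (nat_lit 529) (.node (nat_lit 526) (.node (nat_lit 524) (.leaf (nat_lit 523) (nat_lit 1) [nat_lit 3, nat_lit 0, nat_lit 2, nat_lit 2, nat_lit 4, nat_lit 3, nat_lit 1, nat_lit 5, nat_lit 2, nat_lit 2, nat_lit 1, nat_lit 3, nat_lit 3, nat_lit 0, nat_lit 4]) (.node (nat_lit 525) (.leaf (nat_lit 524) (nat_lit 5) [nat_lit 0, nat_lit 3, nat_lit 0, nat_lit 2, nat_lit 2, nat_lit 4, nat_lit 3, nat_lit 1, nat_lit 5, nat_lit 2, nat_lit 2, nat_lit 1, nat_lit 3, nat_lit 3, nat_lit 0]) (.leaf (nat_lit 525) (nat_lit 1) [nat_lit 4, nat_lit 0, nat_lit 3, nat_lit 0, nat_lit 2, nat_lit 2, nat_lit 4, nat_lit 3, nat_lit 1, nat_lit 5, nat_lit 2, nat_lit 2, nat_lit 1, nat_lit 3, nat_lit 3]))) (.node (nat_lit 527) (.leaf (nat_lit 526) (nat_lit 2) [nat_lit 0, nat_lit 4, nat_lit 0, nat_lit 3, nat_lit 0, nat_lit 2, nat_lit 2, nat_lit 4, nat_lit 3, nat_lit 1, nat_lit 5, nat_lit 2, nat_lit 2, nat_lit 1, nat_lit 3]) (.node (nat_lit 528) (.leaf (nat_lit 527) (nat_lit 2) [nat_lit 3, nat_lit 0, nat_lit 4, nat_lit 0, nat_lit 3, nat_lit 0, nat_lit 2, nat_lit 2, nat_lit 4, nat_lit 3, nat_lit 1, nat_lit 5, nat_lit 2, nat_lit 2, nat_lit 1]) (.leaf (nat_lit 528) (nat_lit 0) [nat_lit 3, nat_lit 3, nat_lit 0, nat_lit 4, nat_lit 0, nat_lit 3, nat_lit 0, nat_lit 2, nat_lit 2, nat_lit 4, nat_lit 3, nat_lit 1, nat_lit 5, nat_lit 2, nat_lit 2])))) (.node (nat_lit 532) (.node (nat_lit 530) (.leaf (nat_lit 529) (nat_lit 3) [nat_lit 1, nat_lit 3, nat_lit 3, nat_lit 0, nat_lit 4, nat_lit 0, nat_lit 3, nat_lit 0, nat_lit 2, nat_lit 2, nat_lit 4, nat_lit 3, nat_lit 1, nat_lit 5, nat_lit 2]) (.node (nat_lit 531) (.leaf (nat_lit 530) (nat_lit 3) [nat_lit 2, nat_lit 1, nat_lit 3, nat_lit 3, nat_lit 0, nat_lit 4, nat_lit 0, nat_lit 3, nat_lit 0, nat_lit 2, nat_lit 2, nat_lit 4, nat_lit 3, nat_lit 1, nat_lit 5]) (.leaf (nat_lit 531) (nat_lit 4) [nat_lit 2, nat_lit 2, nat_lit 1, nat_lit 3, nat_lit 3, nat_lit 0, nat_lit 4, nat_lit 0, nat_lit 3, nat_lit 0, nat_lit 2, nat_lit 2, nat_lit 4, nat_lit 3, nat_lit 1]))) (.node (nat_lit 533) (.leaf (nat_lit 532) (nat_lit 0) [nat_lit 5, nat_lit 2, nat_lit 2, nat_lit 1, nat_lit 3, nat_lit 3, nat_lit 0, nat_lit 4, nat_lit 0, nat_lit 3, nat_lit 0, nat_lit 2, nat_lit 2, nat_lit 4, nat_lit 3]) (.node (nat_lit 534) (.leaf (nat_lit 533) (nat_lit 2) [nat_lit 1, nat_lit 5, nat_lit 2, nat_lit 2, nat_lit 1, nat_lit 3, nat_lit 3, nat_lit 0, nat_lit 4, nat_lit 0, nat_lit 3, nat_lit 0, nat_lit 2, nat_lit 2, nat_lit 4]) (.leaf (nat_lit 534) (nat_lit 5) [nat_lit 3, nat_lit 1, nat_lit 5, nat_lit 2, nat_lit 2, nat_lit 1, nat_lit 3, nat_lit 3, nat_lit 0, nat_lit 4, nat_lit 0, nat_lit 3, nat_lit 0, nat_lit 2, nat_lit 2]))))) (.node (nat_lit 541) (.node (nat_lit 538) (.node (nat_lit 536) (.leaf (nat_lit 535) (nat_lit 3) [nat_lit 4, nat_lit 3, nat_lit 1, nat_lit 5, nat_lit 2, nat_lit 2, nat_lit 1, nat_lit 3, nat_lit 3, nat_lit 0, nat_lit 4, nat_lit 0, nat_lit 3, nat_lit 0, nat_lit 2]) (.node (nat_lit 537) (.leaf (nat_lit 536) (nat_lit 3) [nat_lit 2, nat_lit 4, nat_lit 3, nat_lit 1, nat_lit 5, nat_lit 2, nat_lit 2, nat_lit 1, nat_lit 3, nat_lit 3, nat_lit 0, nat_lit 4, nat_lit 0, nat_lit 3, nat_lit 0]) (.leaf (nat_lit 537) (nat_lit 1) [nat_lit 2, nat_lit 2, nat_lit 4, nat_lit 3, nat_lit 1, nat_lit 5, nat_lit 2, nat_lit 2, nat_lit 1, nat_lit 3, nat_lit 3, nat_lit 0, nat_lit 4, nat_lit 0, nat_lit 3]))) (.node (nat_lit 539) (.leaf (nat_lit 538) (nat_lit 0) [nat_lit 2, nat_lit 1, nat_lit 5, nat_lit 1, nat_lit 2, nat_lit 2, nat_lit 0, nat_lit 3, nat_lit 3, nat_lit 4, nat_lit 2, nat_lit 4, nat_lit 3, nat_lit 5, nat_lit 3]) (.node (nat_lit 540) (.leaf (nat_lit 539) (nat_lit 2) [nat_lit 1, nat_lit 2, nat_lit 1, nat_lit 5, nat_lit 1, nat_lit 2, nat_lit 2, nat_lit 0, nat_lit 3, nat_lit 3, nat_lit 4, nat_lit 2, nat_lit 4, nat_lit 3, nat_lit 5]) (.leaf (nat_lit 540) (nat_lit 4) [nat_lit 3, nat_lit 1, nat_lit 2, nat_lit 1, nat_lit 5, nat_lit 1, nat_lit 2, nat_lit 2, nat_lit 0, nat_lit 3, nat_lit 3, nat_lit 4, nat_lit 2, nat_lit 4, nat_lit 3])))) (.node (nat_lit 544) (.node (nat_lit 542) (.leaf (nat_lit 541) (nat_lit 2) [nat_lit 5, nat_lit 3, nat_lit 1, nat_lit 2, nat_lit 1, nat_lit 5, nat_lit 1, nat_lit 2, nat_lit 2, nat_lit 0, nat_lit 3, nat_lit 3, nat_lit 4, nat_lit 2, nat_lit 4]) (.node (nat_lit 543) (.leaf (nat_lit 542) (nat_lit 5) [nat_lit 3, nat_lit 5, nat_lit 3, nat_lit 1, nat_lit 2, nat_lit 1, nat_lit 5, nat_lit 1, nat_lit 2, nat_lit 2, nat_lit 0, nat_lit 3, nat_lit 3, nat_lit 4, nat_lit 2]) (.leaf (nat_lit 543) (nat_lit 3) [nat_lit 4, nat_lit 3, nat_lit 5, nat_lit 3, nat_lit 1, nat_lit 2, nat_lit 1, nat_lit 5, nat_lit 1, nat_lit 2, nat_lit 2, nat_lit 0, nat_lit 3, nat_lit 3, nat_lit 4]))) (.node (nat_lit 545) (.leaf (nat_lit 544) (nat_lit 5) [nat_lit 2, nat_lit 4, nat_lit 3, nat_lit 5, nat_lit 3, nat_lit 1, nat_lit 2, nat_lit 1, nat_lit 5, nat_lit 1, nat_lit 2, nat_lit 2, nat_lit 0, nat_lit 3, nat_lit 3]) (.node (nat_lit 546) (.leaf (nat_lit 545) (nat_lit 2) [nat_lit 4, nat_lit 2, nat_lit 4, nat_lit 3, nat_lit 5, nat_lit 3, nat_lit 1, nat_lit 2, nat_lit 1, nat_lit 5, nat_lit 1, nat_lit 2, nat_lit 2, nat_lit 0, nat_lit 3]) (.leaf (nat_lit 546) (nat_lit 2) [nat_lit 3, nat_lit 4, nat_lit 2, nat_lit 4, nat_lit 3, nat_lit 5, nat_lit 3, nat_lit 1, nat_lit 2, nat_lit 1, nat_lit 5, nat_lit 1, nat_lit 2, nat_lit 2, nat_lit 0])))))) (.node (nat_lit 559) (.node (nat_lit 553) (.node (nat_lit 550) (.node (nat_lit 548) (.leaf (nat_lit 547) (nat_lit 1) [nat_lit 3, nat_lit 3, nat_lit 4, nat_lit 2, nat_lit 4, nat_lit 3, nat_lit 5, nat_lit 3, nat_lit 1, nat_lit 2, nat_lit 1, nat_lit 5, nat_lit 1, nat_lit 2, nat_lit 2]) (.node (nat_lit 549) (.leaf (nat_lit 548) (nat_lit 3) [nat_lit 0, nat_lit 3, nat_lit 3, nat_lit 4, nat_lit 2, nat_lit 4, nat_lit 3, nat_lit 5, nat_lit 3, nat_lit 1, nat_lit 2, nat_lit 1, nat_lit 5, nat_lit 1, nat_lit 2]) (.leaf (nat_lit 549) (nat_lit 3) [nat_lit 2, nat_lit 0, nat_lit 3, nat_lit 3, nat_lit 4, nat_lit 2, nat_lit 4, nat_lit 3, nat_lit 5, nat_lit 3, nat_lit 1, nat_lit 2, nat_lit 1, nat_lit 5, nat_lit 1]))) (.node (nat_lit 551) (.leaf (nat_lit 550) (nat_lit 0) [nat_lit 2, nat_lit 2, nat_lit 0, nat_lit 3, nat_lit 3, nat_lit 4, nat_lit 2, nat_lit 4, nat_lit 3, nat_lit 5, nat_lit 3, nat_lit 1, nat_lit 2, nat_lit 1, nat_lit 5]) (.node (nat_lit 552) (.leaf (nat_lit 551) (nat_lit 4) [nat_lit 1, nat_lit 2, nat_lit 2, nat_lit 0, nat_lit 3, nat_lit 3, nat_lit 4, nat_lit 2, nat_lit 4, nat_lit 3, nat_lit 5, nat_lit 3, nat_lit 1, nat_lit 2, nat_lit 1]) (.leaf (nat_lit 552) (nat_lit 0) [nat_lit 5, nat_lit 1, nat_lit 2, nat_lit 2, nat_lit 0, nat_lit 3, nat_lit 3, nat_lit 4, nat_lit 2, nat_lit 4, nat_lit 3, nat_lit 5, nat_lit 3, nat_lit 1, nat_lit 2])))) (.node (nat_lit 556) (.node (nat_lit 554) (.leaf (nat_lit 553) (nat_lit 3) [nat_lit 1, nat_lit 5, nat_lit 1, nat_lit 2, nat_lit 2, nat_lit 0, nat_lit 3, nat_lit 3, nat_lit 4, nat_lit 2, nat_lit 4, nat_lit 3, nat_lit 5, nat_lit 3, nat_lit 1]) (.node (nat_lit 555) (.leaf (nat_lit 554) (nat_lit 2) [nat_lit 0, nat_lit 2, nat_lit 4, nat_lit 2, nat_lit 5, nat_lit 3, nat_lit 5, nat_lit 2, nat_lit 2, nat_lit 1, nat_lit 3, nat_lit 3, nat_lit 0, nat_lit 4, nat_lit 0]) (.leaf (nat_lit 555) (nat_lit 1) [nat_lit 3, nat_lit 0, nat_lit 2, nat_lit 4, nat_lit 2, nat_lit 5, nat_lit 3, nat_lit 5, nat_lit 2, nat_lit 2, nat_lit 1, nat_lit 3, nat_lit 3, nat_lit 0, nat_lit 4]))) (.node (nat_lit 557) (.leaf (nat_lit 556) (nat_lit 5) [nat_lit 0, nat_lit 3, nat_lit 0, nat_lit 2, nat_lit 4, nat_lit 2, nat_lit 5, nat_lit 3, nat_lit 5, nat_lit 2, nat_lit 2, nat_lit 1, nat_lit 3, nat_lit 3, nat_lit 0]) (.node (nat_lit 558) (.leaf (nat_lit 557) (nat_lit 1) [nat_lit 4, nat_lit 0, nat_lit 3, nat_lit 0, nat_lit 2, nat_lit 4, nat_lit 2, nat_lit 5, nat_lit 3, nat_lit 5, nat_lit 2, nat_lit 2, nat_lit 1, nat_lit 3, nat_lit 3]) (.leaf (nat_lit 558) (nat_lit 2) [nat_lit 0, nat_lit 4, nat_lit 0, nat_lit 3, nat_lit 0, nat_lit 2, nat_lit 4, nat_lit 2, nat_lit 5, nat_lit 3, nat_lit 5, nat_lit 2, nat_lit 2, nat_lit 1, nat_lit 3]))))) (.node (nat_lit 565) (.node (nat_lit 562) (.node (nat_lit 560) (.leaf (nat_lit 559) (nat_lit 2) [nat_lit 3, nat_lit 0, nat_lit 4, nat_lit 0, nat_lit 3, nat_lit 0, nat_lit 2, nat_lit 4, nat_lit 2, nat_lit 5, nat_lit 3, nat_lit 5, nat_lit 2, nat_lit 2, nat_lit 1]) (.node (nat_lit 561) (.leaf (nat_lit 560) (nat_lit 0) [nat_lit 3, nat_lit 3, nat_lit 0, nat_lit 4, nat_lit 0, nat_lit 3, nat_lit 0, nat_lit 2, nat_lit 4, nat_lit 2, nat_lit 5, nat_lit 3, nat_lit 5, nat_lit 2, nat_lit 2]) (.leaf (nat_lit 561) (nat_lit 3) [nat_lit 1, nat_lit 3, nat_lit 3, nat_lit 0, nat_lit 4, nat_lit 0, nat_lit 3, nat_lit 0, nat_lit 2, nat_lit 4, nat_lit 2, nat_lit 5, nat_lit 3, nat_lit 5, nat_lit 2]))) (.node (nat_lit 563) (.leaf (nat_lit 562) (nat_lit 3) [nat_lit 2, nat_lit 1, nat_lit 3, nat_lit 3, nat_lit 0, nat_lit 4, nat_lit 0, nat_lit 3, nat_lit 0, nat_lit 2, nat_lit 4, nat_lit 2, nat_lit 5, nat_lit 3, nat_lit 5]) (.node (nat_lit 564) (.leaf (nat_lit 563) (nat_lit 4) [nat_lit 2, nat_lit 2, nat_lit 1, nat_lit 3, nat_lit 3, nat_lit 0, nat_lit 4, nat_lit 0, nat_lit 3, nat_lit 0, nat_lit 2, nat_lit 4, nat_lit 2, nat_lit 5, nat_lit 3]) (.leaf (nat_lit 564) (nat_lit 2) [nat_lit 5, nat_lit 2, nat_lit 2, nat_lit 1, nat_lit 3, nat_lit 3, nat_lit 0, nat_lit 4, nat_lit 0, nat_lit 3, nat_lit 0, nat_lit 2, nat_lit 4, nat_lit 2, nat_lit 5])))) (.node (nat_lit 568) (.node (nat_lit 566) (.leaf (nat_lit 565) (nat_lit 4) [nat_lit 3, nat_lit 5, nat_lit 2, nat_lit 2, nat_lit 1, nat_lit 3, nat_lit 3, nat_lit 0, nat_lit 4, nat_lit 0, nat_lit 3, nat_lit 0, nat_lit 2, nat_lit 4, nat_lit 2]) (.node (nat_lit 567) (.leaf (nat_lit 566) (nat_lit 3) [nat_lit 5, nat_lit 3, nat_lit 5, nat_lit 2, nat_lit 2, nat_lit 1, nat_lit 3, nat_lit 3, nat_lit 0, nat_lit 4, nat_lit 0, nat_lit 3, nat_lit 0, nat_lit 2, nat_lit 4]) (.leaf (nat_lit 567) (nat_lit 5) [nat_lit 2, nat_lit 5, nat_lit 3, nat_lit 5, nat_lit 2, nat_lit 2, nat_lit 1, nat_lit 3, nat_lit 3, nat_lit 0, nat_lit 4, nat_lit 0, nat_lit 3, nat_lit 0, nat_lit 2]))) (.node (nat_lit 569) (.leaf (nat_lit 568) (nat_lit 3) [nat_lit 4, nat_lit 2, nat_lit 5, nat_lit 3, nat_lit 5, nat_lit 2, nat_lit 2, nat_lit 1, nat_lit 3, nat_lit 3, nat_lit 0, nat_lit 4, nat_lit 0, nat_lit 3, nat_lit 0]) (.node (nat_lit 570) (.leaf (nat_lit 569) (nat_lit 1) [nat_lit 2, nat_lit 4, nat_lit 2, nat_lit 5, nat_lit 3, nat_lit 5, nat_lit 2, nat_lit 2, nat_lit 1, nat_lit 3, nat_lit 3, nat_lit 0, nat_lit 4, nat_lit 0, nat_lit 3]) (.leaf (nat_lit 570) (nat_lit 0) [nat_lit 2, nat_lit 1, nat_lit 5, nat_lit 1, nat_lit 2, nat_lit 2, nat_lit 0, nat_lit 3, nat_lit 3, nat_lit 4, nat_lit 2, nat_lit 5, nat_lit 3, nat_lit 5, nat_lit 3]))))))))) (.node (nat_lit 666) (.node (nat_lit 618) (.node (nat_lit 594) (.node (nat_lit 582) (.node (nat_lit 576) (.node (nat_lit 573) (.node (nat_lit 572) (.leaf (nat_lit 571) (nat_lit 2) [nat_lit 1, nat_lit 2, nat_lit 1, nat_lit 5, nat_lit 1, nat_lit 2, nat_lit 2, nat_lit 0, nat_lit 3, nat_lit 3, nat_lit 4, nat_lit 2, nat_lit 5, nat_lit 3, nat_lit 5]) (.leaf (nat_lit 572) (nat_lit 4) [nat_lit 3, nat_lit 1, nat_lit 2, nat_lit 1, nat_lit 5, nat_lit 1, nat_lit 2, nat_lit 2, nat_lit 0, nat_lit 3, nat_lit 3, nat_lit 4, nat_lit 2, nat_lit 5, nat_lit 3])) (.node (nat_lit 574) (.leaf (nat_lit 573) (nat_lit 2) [nat_lit 5, nat_lit 3, nat_lit 1, nat_lit 2, nat_lit 1, nat_lit 5, nat_lit 1, nat_lit 2, nat_lit 2, nat_lit 0, nat_lit 3, nat_lit 3, nat_lit 4, nat_lit 2, nat_lit 5]) (.node (nat_lit 575) (.leaf (nat_lit 574) (nat_lit 4) [nat_lit 3, nat_lit 5, nat_lit 3, nat_lit 1, nat_lit 2, nat_lit 1, nat_lit 5, nat_lit 1, nat_lit 2, nat_lit 2, nat_lit 0, nat_lit 3, nat_lit 3, nat_lit 4, nat_lit 2]) (.leaf (nat_lit 575) (nat_lit 3) [nat_lit 5, nat_lit 3, nat_lit 5, nat_lit 3, nat_lit 1, nat_lit 2, nat_lit 1, nat_lit 5, nat_lit 1, nat_lit 2, nat_lit 2, nat_lit 0, nat_lit 3, nat_lit 3, nat_lit 4])))) (.node (nat_lit 579) (.node (nat_lit 577) (.leaf (nat_lit 576) (nat_lit 5) [nat_lit 2, nat_lit 5, nat_lit 3, nat_lit 5, nat_lit 3, nat_lit 1, nat_lit 2, nat_lit 1, nat_lit 5, nat_lit 1, nat_lit 2, nat_lit 2, nat_lit 0, nat_lit 3, nat_lit 3]) (.node (nat_lit 578) (.leaf (nat_lit 577) (nat_lit 2) [nat_lit 4, nat_lit 2, nat_lit 5, nat_lit 3, nat_lit 5, nat_lit 3, nat_lit 1, nat_lit 2, nat_lit 1, nat_lit 5, nat_lit 1, nat_lit 2, nat_lit 2, nat_lit 0, nat_lit 3]) (.leaf (nat_lit 578) (nat_lit 2) [nat_lit 3, nat_lit 4, nat_lit 2, nat_lit 5, nat_lit 3, nat_lit 5, nat_lit 3, nat_lit 1, nat_lit 2, nat_lit 1, nat_lit 5, nat_lit 1, nat_lit 2, nat_lit 2, nat_lit 0]))) (.node (nat_lit 580) (.leaf (nat_lit 579) (nat_lit 1) [nat_lit 3, nat_lit 3, nat_lit 4, nat_lit 2, nat_lit 5, nat_lit 3, nat_lit 5, nat_lit 3, nat_lit 1, nat_lit 2, nat_lit 1, nat_lit 5, nat_lit 1, nat_lit 2, nat_lit 2]) (.node (nat_lit 581) (.leaf (nat_lit 580) (nat_lit 3) [nat_lit 0, nat_lit 3, nat_lit 3, nat_lit 4, nat_lit 2, nat_lit 5, nat_lit 3, nat_lit 5, nat_lit 3, nat_lit 1, nat_lit 2, nat_lit 1, nat_lit 5, nat_lit 1, nat_lit 2]) (.leaf (nat_lit 581) (nat_lit 3) [nat_lit 2, nat_lit 0, nat_lit 3, nat_lit 3, nat_lit 4, nat_lit 2, nat_lit 5, nat_lit 3, nat_lit 5, nat_lit 3, nat_lit 1, nat_lit 2, nat_lit 1, nat_lit 5, nat_lit 1]))))) (.node (nat_lit 588) (.node (nat_lit 585) (.node (nat_lit 583) (.leaf (nat_lit 582) (nat_lit 0) [nat_lit 2, nat_lit 2, nat_lit 0, nat_lit 3, nat_lit 3, nat_lit 4, nat_lit 2, nat_lit 5, nat_lit 3, nat_lit 5, nat_lit 3, nat_lit 1, nat_lit 2, nat_lit 1, nat_lit 5]) (.node (nat_lit 584) (.leaf (nat_lit 583) (nat_lit 4) [nat_lit 1, nat_lit 2, nat_lit 2, nat_lit 0, nat_lit 3, nat_lit 3, nat_lit 4, nat_lit 2, nat_lit 5, nat_lit 3, nat_lit 5, nat_lit 3, nat_lit 1, nat_lit 2, nat_lit 1]) (.leaf (nat_lit 584) (nat_lit 0) [nat_lit 5, nat_lit 1, nat_lit 2, nat_lit 2, nat_lit 0, nat_lit 3, nat_lit 3, nat_lit 4, nat_lit 2, nat_lit 5, nat_lit 3, nat_lit 5, nat_lit 3, nat_lit 1, nat_lit 2]))) (.node (nat_lit 586) (.leaf (nat_lit 585) (nat_lit 3) [nat_lit 1, nat_lit 5, nat_lit 1, nat_lit 2, nat_lit 2, nat_lit 0, nat_lit 3, nat_lit 3, nat_lit 4, nat_lit 2, nat_lit 5, nat_lit 3, nat_lit 5, nat_lit 3, nat_lit 1]) (.node (nat_lit 587) (.leaf (nat_lit 586) (nat_lit 2) [nat_lit 0, nat_lit 2, nat_lit 4, nat_lit 2, nat_lit 4, nat_lit 3, nat_lit 5, nat_lit 2, nat_lit 2, nat_lit 1, nat_lit 3, nat_lit 3, nat_lit 0, nat_lit 4, nat_lit 0]) (.leaf (nat_lit 587) (nat_lit 1) [nat_lit 3, nat_lit 0, nat_lit 2, nat_lit 4, nat_lit 2, nat_lit 4, nat_lit 3, nat_lit 5, nat_lit 2, nat_lit 2, nat_lit 1, nat_lit 3, nat_lit 3, nat_lit 0, nat_lit 4])))) (.node (nat_lit 591) (.node (nat_lit 589) (.leaf (nat_lit 588) (nat_lit 5) [nat_lit 0, nat_lit 3, nat_lit 0, nat_lit 2, nat_lit 4, nat_lit 2, nat_lit 4, nat_lit 3, nat_lit 5, nat_lit 2, nat_lit 2, nat_lit 1, nat_lit 3, nat_lit 3, nat_lit 0]) (.node (nat_lit 590) (.leaf (nat_lit 589) (nat_lit 1) [nat_lit 4, nat_lit 0, nat_lit 3, nat_lit 0, nat_lit 2, nat_lit 4, nat_lit 2, nat_lit 4, nat_lit 3, nat_lit 5, nat_lit 2, nat_lit 2, nat_lit 1, nat_lit 3, nat_lit 3]) (.leaf (nat_lit 590) (nat_lit 2) [nat_lit 0, nat_lit 4, nat_lit 0, nat_lit 3, nat_lit 0, nat_lit 2, nat_lit 4, nat_lit 2, nat_lit 4, nat_lit 3, nat_lit 5, nat_lit 2, nat_lit 2, nat_lit 1, nat_lit 3]))) (.node (nat_lit 592) (.leaf (nat_lit 591) (nat_lit 2) [nat_lit 3, nat_lit 0, nat_lit 4, nat_lit 0, nat_lit 3, nat_lit 0, nat_lit 2, nat_lit 4, nat_lit 2, nat_lit 4, nat_lit 3, nat_lit 5, nat_lit 2, nat_lit 2, nat_lit 1]) (.node (nat_lit 593) (.leaf (nat_lit 592) (nat_lit 0) [nat_lit 3, nat_lit 3, nat_lit 0, nat_lit 4, nat_lit 0, nat_lit 3, nat_lit 0, nat_lit 2, nat_lit 4, nat_lit 2, nat_lit 4, nat_lit 3, nat_lit 5, nat_lit 2, nat_lit 2]) (.leaf (nat_lit 593) (nat_lit 3) [nat_lit 1, nat_lit 3, nat_lit 3, nat_lit 0, nat_lit 4, nat_lit 0, nat_lit 3, nat_lit 0, nat_lit 2, nat_lit 4, nat_lit 2, nat_lit 4, nat_lit 3, nat_lit 5, nat_lit 2])))))) (.node (nat_lit 606) (.node (nat_lit 600) (.node (nat_lit 597) (.node (nat_lit 595) (.leaf (nat_lit 594) (nat_lit 3) [nat_lit 2, nat_lit 1, nat_lit 3, nat_lit 3, nat_lit 0, nat_lit 4, nat_lit 0, nat_lit 3, nat_lit 0, nat_lit 2, nat_lit 4, nat_lit 2, nat_lit 4, nat_lit 3, nat_lit 5]) (.node (nat_lit 596) (.leaf (nat_lit 595) (nat_lit 4) [nat_lit 2, nat_lit 2, nat_lit 1, nat_lit 3, nat_lit 3, nat_lit 0, nat_lit 4, nat_lit 0, nat_lit 3, nat_lit 0, nat_lit 2, nat_lit 4, nat_lit 2, nat_lit 4, nat_lit 3]) (.leaf (nat_lit 596) (nat_lit 2) [nat_lit 5, nat_lit 2, nat_lit 2, nat_lit 1, nat_lit 3, nat_lit 3, nat_lit 0, nat_lit 4, nat_lit 0, nat_lit 3, nat_lit 0, nat_lit 2, nat_lit 4, nat_lit 2, nat_lit 4]))) (.node (nat_lit 598) (.leaf (nat_lit 597) (nat_lit 5) [nat_lit 3, nat_lit 5, nat_lit 2, nat_lit 2, nat_lit 1, nat_lit 3, nat_lit 3, nat_lit 0, nat_lit 4, nat_lit 0, nat_lit 3, nat_lit 0, nat_lit 2, nat_lit 4, nat_lit 2]) (.node (nat_lit 599) (.leaf (nat_lit 598) (nat_lit 3) [nat_lit 4, nat_lit 3, nat_lit 5, nat_lit 2, nat_lit 2, nat_lit 1, nat_lit 3, nat_lit 3, nat_lit 0, nat_lit 4, nat_lit 0, nat_lit 3, nat_lit 0, nat_lit 2, nat_lit 4]) (.leaf (nat_lit 599) (nat_lit 5) [nat_lit 2, nat_lit 4, nat_lit 3, nat_lit 5, nat_lit 2, nat_lit 2, nat_lit 1, nat_lit 3, nat_lit 3, nat_lit 0, nat_lit 4, nat_lit 0, nat_lit 3, nat_lit 0, nat_lit 2])))) (.node (nat_lit 603) (.node (nat_lit 601) (.leaf (nat_lit 600) (nat_lit 3) [nat_lit 4, nat_lit 2, nat_lit 4, nat_lit 3, nat_lit 5, nat_lit 2, nat_lit 2, nat_lit 1, nat_lit 3, nat_lit 3, nat_lit 0, nat_lit 4, nat_lit 0, nat_lit 3, nat_lit 0]) (.node (nat_lit 602) (.leaf (nat_lit 601) (nat_lit 1) [nat_lit 2, nat_lit 4, nat_lit 2, nat_lit 4, nat_lit 3, nat_lit 5, nat_lit 2, nat_lit 2, nat_lit 1, nat_lit 3, nat_lit 3, nat_lit 0, nat_lit 4, nat_lit 0, nat_lit 3]) (.leaf (nat_lit 602) (nat_lit 0) [nat_lit 5, nat_lit 3, nat_lit 3, nat_lit 5, nat_lit 1, nat_lit 3, nat_lit 3, nat_lit 0, nat_lit 4, nat_lit 3, nat_lit 3, nat_lit 4, nat_lit 0, nat_lit 3, nat_lit 3]))) (.node (nat_lit 604) (.leaf (nat_lit 603) (nat_lit 2) [nat_lit 1, nat_lit 5, nat_lit 3, nat_lit 3, nat_lit 5, nat_lit 1, nat_lit 3, nat_lit 3, nat_lit 0, nat_lit 4, nat_lit 3, nat_lit 3, nat_lit 4, nat_lit 0, nat_lit 3]) (.node (nat_lit 605) (.leaf (nat_lit 604) (nat_lit 2) [nat_lit 3, nat_lit 1, nat_lit 5, nat_lit 3, nat_lit 3, nat_lit 5, nat_lit 1, nat_lit 3, nat_lit 3, nat_lit 0, nat_lit 4, nat_lit 3, nat_lit 3, nat_lit 4, nat_lit 0]) (.leaf (nat_lit 605) (nat_lit 1) [nat_lit 3, nat_lit 3, nat_lit 1, nat_lit 5, nat_lit 3, nat_lit 3, nat_lit 5, nat_lit 1, nat_lit 3, nat_lit 3, nat_lit 0, nat_lit 4, nat_lit 3, nat_lit 3, nat_lit 4]))))) (.node (nat_lit 612) (.node (nat_lit 609) (.node (nat_lit 607) (.leaf (nat_lit 606) (nat_lit 5) [nat_lit 0, nat_lit 3, nat_lit 3, nat_lit 1, nat_lit 5, nat_lit 3, nat_lit 3, nat_lit 5, nat_lit 1, nat_lit 3, nat_lit 3, nat_lit 0, nat_lit 4, nat_lit 3, nat_lit 3]) (.node (nat_lit 608) (.leaf (nat_lit 607) (nat_lit 2) [nat_lit 4, nat_lit 0, nat_lit 3, nat_lit 3, nat_lit 1, nat_lit 5, nat_lit 3, nat_lit 3, nat_lit 5, nat_lit 1, nat_lit 3, nat_lit 3, nat_lit 0, nat_lit 4, nat_lit 3]) (.leaf (nat_lit 608) (nat_lit 2) [nat_lit 3, nat_lit 4, nat_lit 0, nat_lit 3, nat_lit 3, nat_lit 1, nat_lit 5, nat_lit 3, nat_lit 3, nat_lit 5, nat_lit 1, nat_lit 3, nat_lit 3, nat_lit 0, nat_lit 4]))) (.node (nat_lit 610) (.leaf (nat_lit 609) (nat_lit 5) [nat_lit 3, nat_lit 3, nat_lit 4, nat_lit 0, nat_lit 3, nat_lit 3, nat_lit 1, nat_lit 5, nat_lit 3, nat_lit 3, nat_lit 5, nat_lit 1, nat_lit 3, nat_lit 3, nat_lit 0]) (.node (nat_lit 611) (.leaf (nat_lit 610) (nat_lit 1) [nat_lit 4, nat_lit 3, nat_lit 3, nat_lit 4, nat_lit 0, nat_lit 3, nat_lit 3, nat_lit 1, nat_lit 5, nat_lit 3, nat_lit 3, nat_lit 5, nat_lit 1, nat_lit 3, nat_lit 3]) (.leaf (nat_lit 611) (nat_lit 2) [nat_lit 0, nat_lit 4, nat_lit 3, nat_lit 3, nat_lit 4, nat_lit 0, nat_lit 3, nat_lit 3, nat_lit 1, nat_lit 5, nat_lit 3, nat_lit 3, nat_lit 5, nat_lit 1, nat_lit 3])))) (.node (nat_lit 615) (.node (nat_lit 613) (.leaf (nat_lit 612) (nat_lit 2) [nat_lit 3, nat_lit 0, nat_lit 4, nat_lit 3, nat_lit 3, nat_lit 4, nat_lit 0, nat_lit 3, nat_lit 3, nat_lit 1, nat_lit 5, nat_lit 3, nat_lit 3, nat_lit 5, nat_lit 1]) (.node (nat_lit 614) (.leaf (nat_lit 613) (nat_lit 0) [nat_lit 3, nat_lit 3, nat_lit 0, nat_lit 4, nat_lit 3, nat_lit 3, nat_lit 4, nat_lit 0, nat_lit 3, nat_lit 3, nat_lit 1, nat_lit 5, nat_lit 3, nat_lit 3, nat_lit 5]) (.leaf (nat_lit 614) (nat_lit 4) [nat_lit 1, nat_lit 3, nat_lit 3, nat_lit 0, nat_lit 4, nat_lit 3, nat_lit 3, nat_lit 4, nat_lit 0, nat_lit 3, nat_lit 3, nat_lit 1, nat_lit 5, nat_lit 3, nat_lit 3]))) (.node (nat_lit 616) (.leaf (nat_lit 615) (nat_lit 2) [nat_lit 5, nat_lit 1, nat_lit 3, nat_lit 3, nat_lit 0, nat_lit 4, nat_lit 3, nat_lit 3, nat_lit 4, nat_lit 0, nat_lit 3, nat_lit 3, nat_lit 1, nat_lit 5, nat_lit 3]) (.node (nat_lit 617) (.leaf (nat_lit 616) (nat_lit 2) [nat_lit 3, nat_lit 5, nat_lit 1, nat_lit 3, nat_lit 3, nat_lit 0, nat_lit 4, nat_lit 3, nat_lit 3, nat_lit 4, nat_lit 0, nat_lit 3, nat_lit 3, nat_lit 1, nat_lit 5]) (.leaf (nat_lit 617) (nat_lit 4) [nat_lit 3, nat_lit 3, nat_lit 5, nat_lit 1, nat_lit 3, nat_lit 3, nat_lit 0, nat_lit 4, nat_lit 3, nat_lit 3, nat_lit 4, nat_lit 0, nat_lit 3, nat_lit 3, nat_lit 1]))))))) (.node (nat_lit 642) (.node (nat_lit 630) (.node (nat_lit 624) (.node (nat_lit 621) (.node (nat_lit 619) (.leaf (nat_lit 618) (nat_lit 5) [nat_lit 0, nat_lit 2, nat_lit 2, nat_lit 1, nat_lit 5, nat_lit 2, nat_lit 2, nat_lit 5, nat_lit 1, nat_lit 2, nat_lit 2, nat_lit 0, nat_lit 4, nat_lit 2, nat_lit 2]) (.node (nat_lit 620) (.leaf (nat_lit 619) (nat_lit 3) [nat_lit 4, nat_lit 0, nat_lit 2, nat_lit 2, nat_lit 1, nat_lit 5, nat_lit 2, nat_lit 2, nat_lit 5, nat_lit 1, nat_lit 2, nat_lit 2, nat_lit 0, nat_lit 4, nat_lit 2]) (.leaf (nat_lit 620) (nat_lit 3) [nat_lit 2, nat_lit 4, nat_lit 0, nat_lit 2, nat_lit 2, nat_lit 1, nat_lit 5, nat_lit 2, nat_lit 2, nat_lit 5, nat_lit 1, nat_lit 2, nat_lit 2, nat_lit 0, nat_lit 4]))) (.node (nat_lit 622) (.leaf (nat_lit 621) (nat_lit 5) [nat_lit 2, nat_lit 2, nat_lit 4, nat_lit 0, nat_lit 2, nat_lit 2, nat_lit 1, nat_lit 5, nat_lit 2, nat_lit 2, nat_lit 5, nat_lit 1, nat_lit 2, nat_lit 2, nat_lit 0]) (.node (nat_lit 623) (.leaf (nat_lit 622) (nat_lit 1) [nat_lit 4, nat_lit 2, nat_lit 2, nat_lit 4, nat_lit 0, nat_lit 2, nat_lit 2, nat_lit 1, nat_lit 5, nat_lit 2, nat_lit 2, nat_lit 5, nat_lit 1, nat_lit 2, nat_lit 2]) (.leaf (nat_lit 623) (nat_lit 3) [nat_lit 0, nat_lit 4, nat_lit 2, nat_lit 2, nat_lit 4, nat_lit 0, nat_lit 2, nat_lit 2, nat_lit 1, nat_lit 5, nat_lit 2, nat_lit 2, nat_lit 5, nat_lit 1, nat_lit 2])))) (.node (nat_lit 627) (.node (nat_lit 625) (.leaf (nat_lit 624) (nat_lit 3) [nat_lit 2, nat_lit 0, nat_lit 4, nat_lit 2, nat_lit 2, nat_lit 4, nat_lit 0, nat_lit 2, nat_lit 2, nat_lit 1, nat_lit 5, nat_lit 2, nat_lit 2, nat_lit 5, nat_lit 1]) (.node (nat_lit 626) (.leaf (nat_lit 625) (nat_lit 0) [nat_lit 2, nat_lit 2, nat_lit 0, nat_lit 4, nat_lit 2, nat_lit 2, nat_lit 4, nat_lit 0, nat_lit 2, nat_lit 2, nat_lit 1, nat_lit 5, nat_lit 2, nat_lit 2, nat_lit 5]) (.leaf (nat_lit 626) (nat_lit 4) [nat_lit 1, nat_lit 2, nat_lit 2, nat_lit 0, nat_lit 4, nat_lit 2, nat_lit 2, nat_lit 4, nat_lit 0, nat_lit 2, nat_lit 2, nat_lit 1, nat_lit 5, nat_lit 2, nat_lit 2]))) (.node (nat_lit 628) (.leaf (nat_lit 627) (nat_lit 3) [nat_lit 5, nat_lit 1, nat_lit 2, nat_lit 2, nat_lit 0, nat_lit 4, nat_lit 2, nat_lit 2, nat_lit 4, nat_lit 0, nat_lit 2, nat_lit 2, nat_lit 1, nat_lit 5, nat_lit 2]) (.node (nat_lit 629) (.leaf (nat_lit 628) (nat_lit 3) [nat_lit 2, nat_lit 5, nat_lit 1, nat_lit 2, nat_lit 2, nat_lit 0, nat_lit 4, nat_lit 2, nat_lit 2, nat_lit 4, nat_lit 0, nat_lit 2, nat_lit 2, nat_lit 1, nat_lit 5]) (.leaf (nat_lit 629) (nat_lit 4) [nat_lit 2, nat_lit 2, nat_lit 5, nat_lit 1, nat_lit 2, nat_lit 2, nat_lit 0, nat_lit 4, nat_lit 2, nat_lit 2, nat_lit 4, nat_lit 0, nat_lit 2, nat_lit 2, nat_lit 1]))))) (.node (nat_lit 636) (.node (nat_lit 633) (.node (nat_lit 631) (.leaf (nat_lit 630) (nat_lit 0) [nat_lit 5, nat_lit 2, nat_lit 2, nat_lit 5, nat_lit 1, nat_lit 2, nat_lit 2, nat_lit 0, nat_lit 4, nat_lit 2, nat_lit 2, nat_lit 4, nat_lit 0, nat_lit 2, nat_lit 2]) (.node (nat_lit 632) (.leaf (nat_lit 631) (nat_lit 3) [nat_lit 1, nat_lit 5, nat_lit 2, nat_lit 2, nat_lit 5, nat_lit 1, nat_lit 2, nat_lit 2, nat_lit 0, nat_lit 4, nat_lit 2, nat_lit 2, nat_lit 4, nat_lit 0, nat_lit 2]) (.leaf (nat_lit 632) (nat_lit 3) [nat_lit 2, nat_lit 1, nat_lit 5, nat_lit 2, nat_lit 2, nat_lit 5, nat_lit 1, nat_lit 2, nat_lit 2, nat_lit 0, nat_lit 4, nat_lit 2, nat_lit 2, nat_lit 4, nat_lit 0]))) (.node (nat_lit 634) (.leaf (nat_lit 633) (nat_lit 1) [nat_lit 2, nat_lit 2, nat_lit 1, nat_lit 5, nat_lit 2, nat_lit 2, nat_lit 5, nat_lit 1, nat_lit 2, nat_lit 2, nat_lit 0, nat_lit 4, nat_lit 2, nat_lit 2, nat_lit 4]) (.node (nat_lit 635) (.leaf (nat_lit 634) (nat_lit 0) [nat_lit 2, nat_lit 2, nat_lit 2, nat_lit 0, nat_lit 2, nat_lit 0, nat_lit 4, nat_lit 1, nat_lit 3, nat_lit 3, nat_lit 3, nat_lit 1, nat_lit 5, nat_lit 1, nat_lit 3]) (.leaf (nat_lit 635) (nat_lit 2) [nat_lit 1, nat_lit 2, nat_lit 2, nat_lit 2, nat_lit 0, nat_lit 2, nat_lit 0, nat_lit 4, nat_lit 1, nat_lit 3, nat_lit 3, nat_lit 3, nat_lit 1, nat_lit 5, nat_lit 1])))) (.node (nat_lit 639) (.node (nat_lit 637) (.leaf (nat_lit 636) (nat_lit 0) [nat_lit 3, nat_lit 1, nat_lit 2, nat_lit 2, nat_lit 2, nat_lit 0, nat_lit 2, nat_lit 0, nat_lit 4, nat_lit 1, nat_lit 3, nat_lit 3, nat_lit 3, nat_lit 1, nat_lit 5]) (.node (nat_lit 638) (.leaf (nat_lit 637) (nat_lit 4) [nat_lit 1, nat_lit 3, nat_lit 1, nat_lit 2, nat_lit 2, nat_lit 2, nat_lit 0, nat_lit 2, nat_lit 0, nat_lit 4, nat_lit 1, nat_lit 3, nat_lit 3, nat_lit 3, nat_lit 1]) (.leaf (nat_lit 638) (nat_lit 0) [nat_lit 5, nat_lit 1, nat_lit 3, nat_lit 1, nat_lit 2, nat_lit 2, nat_lit 2, nat_lit 0, nat_lit 2, nat_lit 0, nat_lit 4, nat_lit 1, nat_lit 3, nat_lit 3, nat_lit 3]))) (.node (nat_lit 640) (.leaf (nat_lit 639) (nat_lit 2) [nat_lit 1, nat_lit 5, nat_lit 1, nat_lit 3, nat_lit 1, nat_lit 2, nat_lit 2, nat_lit 2, nat_lit 0, nat_lit 2, nat_lit 0, nat_lit 4, nat_lit 1, nat_lit 3, nat_lit 3]) (.node (nat_lit 641) (.leaf (nat_lit 640) (nat_lit 2) [nat_lit 3, nat_lit 1, nat_lit 5, nat_lit 1, nat_lit 3, nat_lit 1, nat_lit 2, nat_lit 2, nat_lit 2, nat_lit 0, nat_lit 2, nat_lit 0, nat_lit 4, nat_lit 1, nat_lit 3]) (.leaf (nat_lit 641) (nat_lit 2) [nat_lit 3, nat_lit 3, nat_lit 1, nat_lit 5, nat_lit 1, nat_lit 3, nat_lit 1, nat_lit 2, nat_lit 2, nat_lit 2, nat_lit 0, nat_lit 2, nat_lit 0, nat_lit 4, nat_lit 1])))))) (.node (nat_lit 654) (.node (nat_lit 648) (.node (nat_lit 645) (.node (nat_lit 643) (.leaf (nat_lit 642) (nat_lit 0) [nat_lit 3, nat_lit 3, nat_lit 3, nat_lit 1, nat_lit 5, nat_lit 1, nat_lit 3, nat_lit 1, nat_lit 2, nat_lit 2, nat_lit 2, nat_lit 0, nat_lit 2, nat_lit 0, nat_lit 4]) (.node (nat_lit 644) (.leaf (nat_lit 643) (nat_lit 5) [nat_lit 1, nat_lit 3, nat_lit 3, nat_lit 3, nat_lit 1, nat_lit 5, nat_lit 1, nat_lit 3, nat_lit 1, nat_lit 2, nat_lit 2, nat_lit 2, nat_lit 0, nat_lit 2, nat_lit 0]) (.leaf (nat_lit 644) (nat_lit 1) [nat_lit 4, nat_lit 1, nat_lit 3, nat_lit 3, nat_lit 3, nat_lit 1, nat_lit 5, nat_lit 1, nat_lit 3, nat_lit 1, nat_lit 2, nat_lit 2, nat_lit 2, nat_lit 0, nat_lit 2]))) (.node (nat_lit 646) (.leaf (nat_lit 645) (nat_lit 3) [nat_lit 0, nat_lit 4, nat_lit 1, nat_lit 3, nat_lit 3, nat_lit 3, nat_lit 1, nat_lit 5, nat_lit 1, nat_lit 3, nat_lit 1, nat_lit 2, nat_lit 2, nat_lit 2, nat_lit 0]) (.node (nat_lit 647) (.leaf (nat_lit 646) (nat_lit 1) [nat_lit 2, nat_lit 0, nat_lit 4, nat_lit 1, nat_lit 3, nat_lit 3, nat_lit 3, nat_lit 1, nat_lit 5, nat_lit 1, nat_lit 3, nat_lit 1, nat_lit 2, nat_lit 2, nat_lit 2]) (.leaf (nat_lit 647) (nat_lit 3) [nat_lit 0, nat_lit 2, nat_lit 0, nat_lit 4, nat_lit 1, nat_lit 3, nat_lit 3, nat_lit 3, nat_lit 1, nat_lit 5, nat_lit 1, nat_lit 3, nat_lit 1, nat_lit 2, nat_lit 2])))) (.node (nat_lit 651) (.node (nat_lit 649) (.leaf (nat_lit 648) (nat_lit 3) [nat_lit 2, nat_lit 0, nat_lit 2, nat_lit 0, nat_lit 4, nat_lit 1, nat_lit 3, nat_lit 3, nat_lit 3, nat_lit 1, nat_lit 5, nat_lit 1, nat_lit 3, nat_lit 1, nat_lit 2]) (.node (nat_lit 650) (.leaf (nat_lit 649) (nat_lit 3) [nat_lit 2, nat_lit 2, nat_lit 0, nat_lit 2, nat_lit 0, nat_lit 4, nat_lit 1, nat_lit 3, nat_lit 3, nat_lit 3, nat_lit 1, nat_lit 5, nat_lit 1, nat_lit 3, nat_lit 1]) (.leaf (nat_lit 650) (nat_lit 2) [nat_lit 0, nat_lit 2, nat_lit 0, nat_lit 4, nat_lit 0, nat_lit 2, nat_lit 2, nat_lit 2, nat_lit 0, nat_lit 5, nat_lit 1, nat_lit 3, nat_lit 1, nat_lit 3, nat_lit 3]))) (.node (nat_lit 652) (.leaf (nat_lit 651) (nat_lit 2) [nat_lit 3, nat_lit 0, nat_lit 2, nat_lit 0, nat_lit 4, nat_lit 0, nat_lit 2, nat_lit 2, nat_lit 2, nat_lit 0, nat_lit 5, nat_lit 1, nat_lit 3, nat_lit 1, nat_lit 3]) (.node (nat_lit 653) (.leaf (nat_lit 652) (nat_lit 2) [nat_lit 3, nat_lit 3, nat_lit 0, nat_lit 2, nat_lit 0, nat_lit 4, nat_lit 0, nat_lit 2, nat_lit 2, nat_lit 2, nat_lit 0, nat_lit 5, nat_lit 1, nat_lit 3, nat_lit 1]) (.leaf (nat_lit 653) (nat_lit 0) [nat_lit 3, nat_lit 3, nat_lit 3, nat_lit 0, nat_lit 2, nat_lit 0, nat_lit 4, nat_lit 0, nat_lit 2, nat_lit 2, nat_lit 2, nat_lit 0, nat_lit 5, nat_lit 1, nat_lit 3]))))) (.node (nat_lit 660) (.node (nat_lit 657) (.node (nat_lit 655) (.leaf (nat_lit 654) (nat_lit 2) [nat_lit 1, nat_lit 3, nat_lit 3, nat_lit 3, nat_lit 0, nat_lit 2, nat_lit 0, nat_lit 4, nat_lit 0, nat_lit 2, nat_lit 2, nat_lit 2, nat_lit 0, nat_lit 5, nat_lit 1]) (.node (nat_lit 656) (.leaf (nat_lit 655) (nat_lit 0) [nat_lit 3, nat_lit 1, nat_lit 3, nat_lit 3, nat_lit 3, nat_lit 0, nat_lit 2, nat_lit 0, nat_lit 4, nat_lit 0, nat_lit 2, nat_lit 2, nat_lit 2, nat_lit 0, nat_lit 5]) (.leaf (nat_lit 656) (nat_lit 4) [nat_lit 1, nat_lit 3, nat_lit 1, nat_lit 3, nat_lit 3, nat_lit 3, nat_lit 0, nat_lit 2, nat_lit 0, nat_lit 4, nat_lit 0, nat_lit 2, nat_lit 2, nat_lit 2, nat_lit 0]))) (.node (nat_lit 658) (.leaf (nat_lit 657) (nat_lit 1) [nat_lit 5, nat_lit 1, nat_lit 3, nat_lit 1, nat_lit 3, nat_lit 3, nat_lit 3, nat_lit 0, nat_lit 2, nat_lit 0, nat_lit 4, nat_lit 0, nat_lit 2, nat_lit 2, nat_lit 2]) (.node (nat_lit 659) (.leaf (nat_lit 658) (nat_lit 3) [nat_lit 0, nat_lit 5, nat_lit 1, nat_lit 3, nat_lit 1, nat_lit 3, nat_lit 3, nat_lit 3, nat_lit 0, nat_lit 2, nat_lit 0, nat_lit 4, nat_lit 0, nat_lit 2, nat_lit 2]) (.leaf (nat_lit 659) (nat_lit 3) [nat_lit 2, nat_lit 0, nat_lit 5, nat_lit 1, nat_lit 3, nat_lit 1, nat_lit 3, nat_lit 3, nat_lit 3, nat_lit 0, nat_lit 2, nat_lit 0, nat_lit 4, nat_lit 0, nat_lit 2])))) (.node (nat_lit 663) (.node (nat_lit 661) (.leaf (nat_lit 660) (nat_lit 3) [nat_lit 2, nat_lit 2, nat_lit 0, nat_lit 5, nat_lit 1, nat_lit 3, nat_lit 1, nat_lit 3, nat_lit 3, nat_lit 3, nat_lit 0, nat_lit 2, nat_lit 0, nat_lit 4, nat_lit 0]) (.node (nat_lit 662) (.leaf (nat_lit 661) (nat_lit 1) [nat_lit 2, nat_lit 2, nat_lit 2, nat_lit 0, nat_lit 5, nat_lit 1, nat_lit 3, nat_lit 1, nat_lit 3, nat_lit 3, nat_lit 3, nat_lit 0, nat_lit 2, nat_lit 0, nat_lit 4]) (.leaf (nat_lit 662) (nat_lit 5) [nat_lit 0, nat_lit 2, nat_lit 2, nat_lit 2, nat_lit 0, nat_lit 5, nat_lit 1, nat_lit 3, nat_lit 1, nat_lit 3, nat_lit 3, nat_lit 3, nat_lit 0, nat_lit 2, nat_lit 0]))) (.node (nat_lit 664) (.leaf (nat_lit 663) (nat_lit 1) [nat_lit 4, nat_lit 0, nat_lit 2, nat_lit 2, nat_lit 2, nat_lit 0, nat_lit 5, nat_lit 1, nat_lit 3, nat_lit 1, nat_lit 3, nat_lit 3, nat_lit 3, nat_lit 0, nat_lit 2]) (.node (nat_lit 665) (.leaf (nat_lit 664) (nat_lit 3) [nat_lit 0, nat_lit 4, nat_lit 0, nat_lit 2, nat_lit 2, nat_lit 2, nat_lit 0, nat_lit 5, nat_lit 1, nat_lit 3, nat_lit 1, nat_lit 3, nat_lit 3, nat_lit 3, nat_lit 0]) (.leaf (nat_lit 665) (nat_lit 1) [nat_lit 2, nat_lit 0, nat_lit 4, nat_lit 0, nat_lit 2, nat_lit 2, nat_lit 2, nat_lit 0, nat_lit 5, nat_lit 1, nat_lit 3, nat_lit 1, nat_lit 3, nat_lit 3, nat_lit 3])))))))) (.node (nat_lit 714) (.node (nat_lit 690) (.node (nat_lit 678) (.node (nat_lit 672) (.node (nat_lit 669) (.node (nat_lit 667) (.leaf (nat_lit 666) (nat_lit 0) [nat_lit 2, nat_lit 2, nat_lit 2, nat_lit 0, nat_lit 2, nat_lit 4, nat_lit 0, nat_lit 2, nat_lit 5, nat_lit 2, nat_lit 2, nat_lit 1, nat_lit 5, nat_lit 1, nat_lit 3]) (.node (nat_lit 668) (.leaf (nat_lit 667) (nat_lit 2) [nat_lit 1, nat_lit 2, nat_lit 2, nat_lit 2, nat_lit 0, nat_lit 2, nat_lit 4, nat_lit 0, nat_lit 2, nat_lit 5, nat_lit 2, nat_lit 2, nat_lit 1, nat_lit 5, nat_lit 1]) (.leaf (nat_lit 668) (nat_lit 0) [nat_lit 3, nat_lit 1, nat_lit 2, nat_lit 2, nat_lit 2, nat_lit 0, nat_lit 2, nat_lit 4, nat_lit 0, nat_lit 2, nat_lit 5, nat_lit 2, nat_lit 2, nat_lit 1, nat_lit 5]))) (.node (nat_lit 670) (.leaf (nat_lit 669) (nat_lit 4) [nat_lit 1, nat_lit 3, nat_lit 1, nat_lit 2, nat_lit 2, nat_lit 2, nat_lit 0, nat_lit 2, nat_lit 4, nat_lit 0, nat_lit 2, nat_lit 5, nat_lit 2, nat_lit 2, nat_lit 1]) (.node (nat_lit 671) (.leaf (nat_lit 670) (nat_lit 0) [nat_lit 5, nat_lit 1, nat_lit 3, nat_lit 1, nat_lit 2, nat_lit 2, nat_lit 2, nat_lit 0, nat_lit 2, nat_lit 4, nat_lit 0, nat_lit 2, nat_lit 5, nat_lit 2, nat_lit 2]) (.leaf (nat_lit 671) (nat_lit 3) [nat_lit 1, nat_lit 5, nat_lit 1, nat_lit 3, nat_lit 1, nat_lit 2, nat_lit 2, nat_lit 2, nat_lit 0, nat_lit 2, nat_lit 4, nat_lit 0, nat_lit 2, nat_lit 5, nat_lit 2])))) (.node (nat_lit 675) (.node (nat_lit 673) (.leaf (nat_lit 672) (nat_lit 3) [nat_lit 2, nat_lit 1, nat_lit 5, nat_lit 1, nat_lit 3, nat_lit 1, nat_lit 2, nat_lit 2, nat_lit 2, nat_lit 0, nat_lit 2, nat_lit 4, nat_lit 0, nat_lit 2, nat_lit 5]) (.node (nat_lit 674) (.leaf (nat_lit 673) (nat_lit 4) [nat_lit 2, nat_lit 2, nat_lit 1, nat_lit 5, nat_lit 1, nat_lit 3, nat_lit 1, nat_lit 2, nat_lit 2, nat_lit 2, nat_lit 0, nat_lit 2, nat_lit 4, nat_lit 0, nat_lit 2]) (.leaf (nat_lit 674) (nat_lit 3) [nat_lit 5, nat_lit 2, nat_lit 2, nat_lit 1, nat_lit 5, nat_lit 1, nat_lit 3, nat_lit 1, nat_lit 2, nat_lit 2, nat_lit 2, nat_lit 0, nat_lit 2, nat_lit 4, nat_lit 0]))) (.node (nat_lit 676) (.leaf (nat_lit 675) (nat_lit 1) [nat_lit 2, nat_lit 5, nat_lit 2, nat_lit 2, nat_lit 1, nat_lit 5, nat_lit 1, nat_lit 3, nat_lit 1, nat_lit 2, nat_lit 2, nat_lit 2, nat_lit 0, nat_lit 2, nat_lit 4]) (.node (nat_lit 677) (.leaf (nat_lit 676) (nat_lit 5) [nat_lit 0, nat_lit 2, nat_lit 5, nat_lit 2, nat_lit 2, nat_lit 1, nat_lit 5, nat_lit 1, nat_lit 3, nat_lit 1, nat_lit 2, nat_lit 2, nat_lit 2, nat_lit 0, nat_lit 2]) (.leaf (nat_lit 677) (nat_lit 3) [nat_lit 4, nat_lit 0, nat_lit 2, nat_lit 5, nat_lit 2, nat_lit 2, nat_lit 1, nat_lit 5, nat_lit 1, nat_lit 3, nat_lit 1, nat_lit 2, nat_lit 2, nat_lit 2, nat_lit 0]))))) (.node (nat_lit 684) (.node (nat_lit 681) (.node (nat_lit 679) (.leaf (nat_lit 678) (nat_lit 1) [nat_lit 2, nat_lit 4, nat_lit 0, nat_lit 2, nat_lit 5, nat_lit 2, nat_lit 2, nat_lit 1, nat_lit 5, nat_lit 1, nat_lit 3, nat_lit 1, nat_lit 2, nat_lit 2, nat_lit 2]) (.node (nat_lit 680) (.leaf (nat_lit 679) (nat_lit 3) [nat_lit 0, nat_lit 2, nat_lit 4, nat_lit 0, nat_lit 2, nat_lit 5, nat_lit 2, nat_lit 2, nat_lit 1, nat_lit 5, nat_lit 1, nat_lit 3, nat_lit 1, nat_lit 2, nat_lit 2]) (.leaf (nat_lit 680) (nat_lit 3) [nat_lit 2, nat_lit 0, nat_lit 2, nat_lit 4, nat_lit 0, nat_lit 2, nat_lit 5, nat_lit 2, nat_lit 2, nat_lit 1, nat_lit 5, nat_lit 1, nat_lit 3, nat_lit 1, nat_lit 2]))) (.node (nat_lit 682) (.leaf (nat_lit 681) (nat_lit 3) [nat_lit 2, nat_lit 2, nat_lit 0, nat_lit 2, nat_lit 4, nat_lit 0, nat_lit 2, nat_lit 5, nat_lit 2, nat_lit 2, nat_lit 1, nat_lit 5, nat_lit 1, nat_lit 3, nat_lit 1]) (.node (nat_lit 683) (.leaf (nat_lit 682) (nat_lit 2) [nat_lit 0, nat_lit 2, nat_lit 0, nat_lit 4, nat_lit 0, nat_lit 3, nat_lit 3, nat_lit 4, nat_lit 3, nat_lit 1, nat_lit 5, nat_lit 3, nat_lit 1, nat_lit 3, nat_lit 3]) (.leaf (nat_lit 683) (nat_lit 2) [nat_lit 3, nat_lit 0, nat_lit 2, nat_lit 0, nat_lit 4, nat_lit 0, nat_lit 3, nat_lit 3, nat_lit 4, nat_lit 3, nat_lit 1, nat_lit 5, nat_lit 3, nat_lit 1, nat_lit 3])))) (.node (nat_lit 687) (.node (nat_lit 685) (.leaf (nat_lit 684) (nat_lit 2) [nat_lit 3, nat_lit 3, nat_lit 0, nat_lit 2, nat_lit 0, nat_lit 4, nat_lit 0, nat_lit 3, nat_lit 3, nat_lit 4, nat_lit 3, nat_lit 1, nat_lit 5, nat_lit 3, nat_lit 1]) (.node (nat_lit 686) (.leaf (nat_lit 685) (nat_lit 0) [nat_lit 3, nat_lit 3, nat_lit 3, nat_lit 0, nat_lit 2, nat_lit 0, nat_lit 4, nat_lit 0, nat_lit 3, nat_lit 3, nat_lit 4, nat_lit 3, nat_lit 1, nat_lit 5, nat_lit 3]) (.leaf (nat_lit 686) (nat_lit 2) [nat_lit 1, nat_lit 3, nat_lit 3, nat_lit 3, nat_lit 0, nat_lit 2, nat_lit 0, nat_lit 4, nat_lit 0, nat_lit 3, nat_lit 3, nat_lit 4, nat_lit 3, nat_lit 1, nat_lit 5]))) (.node (nat_lit 688) (.leaf (nat_lit 687) (nat_lit 4) [nat_lit 3, nat_lit 1, nat_lit 3, nat_lit 3, nat_lit 3, nat_lit 0, nat_lit 2, nat_lit 0, nat_lit 4, nat_lit 0, nat_lit 3, nat_lit 3, nat_lit 4, nat_lit 3, nat_lit 1]) (.node (nat_lit 689) (.leaf (nat_lit 688) (nat_lit 0) [nat_lit 5, nat_lit 3, nat_lit 1, nat_lit 3, nat_lit 3, nat_lit 3, nat_lit 0, nat_lit 2, nat_lit 0, nat_lit 4, nat_lit 0, nat_lit 3, nat_lit 3, nat_lit 4, nat_lit 3]) (.leaf (nat_lit 689) (nat_lit 2) [nat_lit 1, nat_lit 5, nat_lit 3, nat_lit 1, nat_lit 3, nat_lit 3, nat_lit 3, nat_lit 0, nat_lit 2, nat_lit 0, nat_lit 4, nat_lit 0, nat_lit 3, nat_lit 3, nat_lit 4])))))) (.node (nat_lit 702) (.node (nat_lit 696) (.node (nat_lit 693) (.node (nat_lit 691) (.leaf (nat_lit 690) (nat_lit 5) [nat_lit 3, nat_lit 1, nat_lit 5, nat_lit 3, nat_lit 1, nat_lit 3, nat_lit 3, nat_lit 3, nat_lit 0, nat_lit 2, nat_lit 0, nat_lit 4, nat_lit 0, nat_lit 3, nat_lit 3]) (.node (nat_lit 692) (.leaf (nat_lit 691) (nat_lit 2) [nat_lit 4, nat_lit 3, nat_lit 1, nat_lit 5, nat_lit 3, nat_lit 1, nat_lit 3, nat_lit 3, nat_lit 3, nat_lit 0, nat_lit 2, nat_lit 0, nat_lit 4, nat_lit 0, nat_lit 3]) (.leaf (nat_lit 692) (nat_lit 2) [nat_lit 3, nat_lit 4, nat_lit 3, nat_lit 1, nat_lit 5, nat_lit 3, nat_lit 1, nat_lit 3, nat_lit 3, nat_lit 3, nat_lit 0, nat_lit 2, nat_lit 0, nat_lit 4, nat_lit 0]))) (.node (nat_lit 694) (.leaf (nat_lit 693) (nat_lit 1) [nat_lit 3, nat_lit 3, nat_lit 4, nat_lit 3, nat_lit 1, nat_lit 5, nat_lit 3, nat_lit 1, nat_lit 3, nat_lit 3, nat_lit 3, nat_lit 0, nat_lit 2, nat_lit 0, nat_lit 4]) (.node (nat_lit 695) (.leaf (nat_lit 694) (nat_lit 5) [nat_lit 0, nat_lit 3, nat_lit 3, nat_lit 4, nat_lit 3, nat_lit 1, nat_lit 5, nat_lit 3, nat_lit 1, nat_lit 3, nat_lit 3, nat_lit 3, nat_lit 0, nat_lit 2, nat_lit 0]) (.leaf (nat_lit 695) (nat_lit 1) [nat_lit 4, nat_lit 0, nat_lit 3, nat_lit 3, nat_lit 4, nat_lit 3, nat_lit 1, nat_lit 5, nat_lit 3, nat_lit 1, nat_lit 3, nat_lit 3, nat_lit 3, nat_lit 0, nat_lit 2])))) (.node (nat_lit 699) (.node (nat_lit 697) (.leaf (nat_lit 696) (nat_lit 3) [nat_lit 0, nat_lit 4, nat_lit 0, nat_lit 3, nat_lit 3, nat_lit 4, nat_lit 3, nat_lit 1, nat_lit 5, nat_lit 3, nat_lit 1, nat_lit 3, nat_lit 3, nat_lit 3, nat_lit 0]) (.node (nat_lit 698) (.leaf (nat_lit 697) (nat_lit 1) [nat_lit 2, nat_lit 0, nat_lit 4, nat_lit 0, nat_lit 3, nat_lit 3, nat_lit 4, nat_lit 3, nat_lit 1, nat_lit 5, nat_lit 3, nat_lit 1, nat_lit 3, nat_lit 3, nat_lit 3]) (.leaf (nat_lit 698) (nat_lit 0) [nat_lit 2, nat_lit 2, nat_lit 2, nat_lit 0, nat_lit 2, nat_lit 4, nat_lit 0, nat_lit 3, nat_lit 3, nat_lit 5, nat_lit 2, nat_lit 2, nat_lit 1, nat_lit 5, nat_lit 3]))) (.node (nat_lit 700) (.leaf (nat_lit 699) (nat_lit 2) [nat_lit 1, nat_lit 2, nat_lit 2, nat_lit 2, nat_lit 0, nat_lit 2, nat_lit 4, nat_lit 0, nat_lit 3, nat_lit 3, nat_lit 5, nat_lit 2, nat_lit 2, nat_lit 1, nat_lit 5]) (.node (nat_lit 701) (.leaf (nat_lit 700) (nat_lit 4) [nat_lit 3, nat_lit 1, nat_lit 2, nat_lit 2, nat_lit 2, nat_lit 0, nat_lit 2, nat_lit 4, nat_lit 0, nat_lit 3, nat_lit 3, nat_lit 5, nat_lit 2, nat_lit 2, nat_lit 1]) (.leaf (nat_lit 701) (nat_lit 0) [nat_lit 5, nat_lit 3, nat_lit 1, nat_lit 2, nat_lit 2, nat_lit 2, nat_lit 0, nat_lit 2, nat_lit 4, nat_lit 0, nat_lit 3, nat_lit 3, nat_lit 5, nat_lit 2, nat_lit 2]))))) (.node (nat_lit 708) (.node (nat_lit 705) (.node (nat_lit 703) (.leaf (nat_lit 702) (nat_lit 3) [nat_lit 1, nat_lit 5, nat_lit 3, nat_lit 1, nat_lit 2, nat_lit 2, nat_lit 2, nat_lit 0, nat_lit 2, nat_lit 4, nat_lit 0, nat_lit 3, nat_lit 3, nat_lit 5, nat_lit 2]) (.node (nat_lit 704) (.leaf (nat_lit 703) (nat_lit 3) [nat_lit 2, nat_lit 1, nat_lit 5, nat_lit 3, nat_lit 1, nat_lit 2, nat_lit 2, nat_lit 2, nat_lit 0, nat_lit 2, nat_lit 4, nat_lit 0, nat_lit 3, nat_lit 3, nat_lit 5]) (.leaf (nat_lit 704) (nat_lit 4) [nat_lit 2, nat_lit 2, nat_lit 1, nat_lit 5, nat_lit 3, nat_lit 1, nat_lit 2, nat_lit 2, nat_lit 2, nat_lit 0, nat_lit 2, nat_lit 4, nat_lit 0, nat_lit 3, nat_lit 3]))) (.node (nat_lit 706) (.leaf (nat_lit 705) (nat_lit 2) [nat_lit 5, nat_lit 2, nat_lit 2, nat_lit 1, nat_lit 5, nat_lit 3, nat_lit 1, nat_lit 2, nat_lit 2, nat_lit 2, nat_lit 0, nat_lit 2, nat_lit 4, nat_lit 0, nat_lit 3]) (.node (nat_lit 707) (.leaf (nat_lit 706) (nat_lit 2) [nat_lit 3, nat_lit 5, nat_lit 2, nat_lit 2, nat_lit 1, nat_lit 5, nat_lit 3, nat_lit 1, nat_lit 2, nat_lit 2, nat_lit 2, nat_lit 0, nat_lit 2, nat_lit 4, nat_lit 0]) (.leaf (nat_lit 707) (nat_lit 1) [nat_lit 3, nat_lit 3, nat_lit 5, nat_lit 2, nat_lit 2, nat_lit 1, nat_lit 5, nat_lit 3, nat_lit 1, nat_lit 2, nat_lit 2, nat_lit 2, nat_lit 0, nat_lit 2, nat_lit 4])))) (.node (nat_lit 711) (.node (nat_lit 709) (.leaf (nat_lit 708) (nat_lit 5) [nat_lit 0, nat_lit 3, nat_lit 3, nat_lit 5, nat_lit 2, nat_lit 2, nat_lit 1, nat_lit 5, nat_lit 3, nat_lit 1, nat_lit 2, nat_lit 2, nat_lit 2, nat_lit 0, nat_lit 2]) (.node (nat_lit 710) (.leaf (nat_lit 709) (nat_lit 3) [nat_lit 4, nat_lit 0, nat_lit 3, nat_lit 3, nat_lit 5, nat_lit 2, nat_lit 2, nat_lit 1, nat_lit 5, nat_lit 3, nat_lit 1, nat_lit 2, nat_lit 2, nat_lit 2, nat_lit 0]) (.leaf (nat_lit 710) (nat_lit 1) [nat_lit 2, nat_lit 4, nat_lit 0, nat_lit 3, nat_lit 3, nat_lit 5, nat_lit 2, nat_lit 2, nat_lit 1, nat_lit 5, nat_lit 3, nat_lit 1, nat_lit 2, nat_lit 2, nat_lit 2]))) (.node (nat_lit 712) (.leaf (nat_lit 711) (nat_lit 3) [nat_lit 0, nat_lit 2, nat_lit 4, nat_lit 0, nat_lit 3, nat_lit 3, nat_lit 5, nat_lit 2, nat_lit 2, nat_lit 1, nat_lit 5, nat_lit 3, nat_lit 1, nat_lit 2, nat_lit 2]) (.node (nat_lit 713) (.leaf (nat_lit 712) (nat_lit 3) [nat_lit 2, nat_lit 0, nat_lit 2, nat_lit 4, nat_lit 0, nat_lit 3, nat_lit 3, nat_lit 5, nat_lit 2, nat_lit 2, nat_lit 1, nat_lit 5, nat_lit 3, nat_lit 1, nat_lit 2]) (.leaf (nat_lit 713) (nat_lit 3) [nat_lit 2, nat_lit 2, nat_lit 0, nat_lit 2, nat_lit 4, nat_lit 0, nat_lit 3, nat_lit 3, nat_lit 5, nat_lit 2, nat_lit 2, nat_lit 1, nat_lit 5, nat_lit 3, nat_lit 1]))))))) (.node (nat_lit 738) (.node (nat_lit 726) (.node (nat_lit 720) (.node (nat_lit 717) (.node (nat_lit 715) (.leaf (nat_lit 714) (nat_lit 2) [nat_lit 0, nat_lit 2, nat_lit 4, nat_lit 0, nat_lit 3, nat_lit 3, nat_lit 4, nat_lit 2, nat_lit 2, nat_lit 1, nat_lit 5, nat_lit 3, nat_lit 1, nat_lit 3, nat_lit 3]) (.node (nat_lit 716) (.leaf (nat_lit 715) (nat_lit 2) [nat_lit 3, nat_lit 0, nat_lit 2, nat_lit 4, nat_lit 0, nat_lit 3, nat_lit 3, nat_lit 4, nat_lit 2, nat_lit 2, nat_lit 1, nat_lit 5, nat_lit 3, nat_lit 1, nat_lit 3]) (.leaf (nat_lit 716) (nat_lit 2) [nat_lit 3, nat_lit 3, nat_lit 0, nat_lit 2, nat_lit 4, nat_lit 0, nat_lit 3, nat_lit 3, nat_lit 4, nat_lit 2, nat_lit 2, nat_lit 1, nat_lit 5, nat_lit 3, nat_lit 1]))) (.node (nat_lit 718) (.leaf (nat_lit 717) (nat_lit 0) [nat_lit 3, nat_lit 3, nat_lit 3, nat_lit 0, nat_lit 2, nat_lit 4, nat_lit 0, nat_lit 3, nat_lit 3, nat_lit 4, nat_lit 2, nat_lit 2, nat_lit 1, nat_lit 5, nat_lit 3]) (.node (nat_lit 719) (.leaf (nat_lit 718) (nat_lit 2) [nat_lit 1, nat_lit 3, nat_lit 3, nat_lit 3, nat_lit 0, nat_lit 2, nat_lit 4, nat_lit 0, nat_lit 3, nat_lit 3, nat_lit 4, nat_lit 2, nat_lit 2, nat_lit 1, nat_lit 5]) (.leaf (nat_lit 719) (nat_lit 4) [nat_lit 3, nat_lit 1, nat_lit 3, nat_lit 3, nat_lit 3, nat_lit 0, nat_lit 2, nat_lit 4, nat_lit 0, nat_lit 3, nat_lit 3, nat_lit 4, nat_lit 2, nat_lit 2, nat_lit 1])))) (.node (nat_lit 723) (.node (nat_lit 721) (.leaf (nat_lit 720) (nat_lit 0) [nat_lit 5, nat_lit 3, nat_lit 1, nat_lit 3, nat_lit 3, nat_lit 3, nat_lit 0, nat_lit 2, nat_lit 4, nat_lit 0, nat_lit 3, nat_lit 3, nat_lit 4, nat_lit 2, nat_lit 2]) (.node (nat_lit 722) (.leaf (nat_lit 721) (nat_lit 3) [nat_lit 1, nat_lit 5, nat_lit 3, nat_lit 1, nat_lit 3, nat_lit 3, nat_lit 3, nat_lit 0, nat_lit 2, nat_lit 4, nat_lit 0, nat_lit 3, nat_lit 3, nat_lit 4, nat_lit 2]) (.leaf (nat_lit 722) (nat_lit 3) [nat_lit 2, nat_lit 1, nat_lit 5, nat_lit 3, nat_lit 1, nat_lit 3, nat_lit 3, nat_lit 3, nat_lit 0, nat_lit 2, nat_lit 4, nat_lit 0, nat_lit 3, nat_lit 3, nat_lit 4]))) (.node (nat_lit 724) (.leaf (nat_lit 723) (nat_lit 5) [nat_lit 2, nat_lit 2, nat_lit 1, nat_lit 5, nat_lit 3, nat_lit 1, nat_lit 3, nat_lit 3, nat_lit 3, nat_lit 0, nat_lit 2, nat_lit 4, nat_lit 0, nat_lit 3, nat_lit 3]) (.node (nat_lit 725) (.leaf (nat_lit 724) (nat_lit 2) [nat_lit 4, nat_lit 2, nat_lit 2, nat_lit 1, nat_lit 5, nat_lit 3, nat_lit 1, nat_lit 3, nat_lit 3, nat_lit 3, nat_lit 0, nat_lit 2, nat_lit 4, nat_lit 0, nat_lit 3]) (.leaf (nat_lit 725) (nat_lit 2) [nat_lit 3, nat_lit 4, nat_lit 2, nat_lit 2, nat_lit 1, nat_lit 5, nat_lit 3, nat_lit 1, nat_lit 3, nat_lit 3, nat_lit 3, nat_lit 0, nat_lit 2, nat_lit 4, nat_lit 0]))))) (.node (nat_lit 732) (.node (nat_lit 729) (.node (nat_lit 727) (.leaf (nat_lit 726) (nat_lit 1) [nat_lit 3, nat_lit 3, nat_lit 4, nat_lit 2, nat_lit 2, nat_lit 1, nat_lit 5, nat_lit 3, nat_lit 1, nat_lit 3, nat_lit 3, nat_lit 3, nat_lit 0, nat_lit 2, nat_lit 4]) (.node (nat_lit 728) (.leaf (nat_lit 727) (nat_lit 5) [nat_lit 0, nat_lit 3, nat_lit 3, nat_lit 4, nat_lit 2, nat_lit 2, nat_lit 1, nat_lit 5, nat_lit 3, nat_lit 1, nat_lit 3, nat_lit 3, nat_lit 3, nat_lit 0, nat_lit 2]) (.leaf (nat_lit 728) (nat_lit 3) [nat_lit 4, nat_lit 0, nat_lit 3, nat_lit 3, nat_lit 4, nat_lit 2, nat_lit 2, nat_lit 1, nat_lit 5, nat_lit 3, nat_lit 1, nat_lit 3, nat_lit 3, nat_lit 3, nat_lit 0]))) (.node (nat_lit 730) (.leaf (nat_lit 729) (nat_lit 1) [nat_lit 2, nat_lit 4, nat_lit 0, nat_lit 3, nat_lit 3, nat_lit 4, nat_lit 2, nat_lit 2, nat_lit 1, nat_lit 5, nat_lit 3, nat_lit 1, nat_lit 3, nat_lit 3, nat_lit 3]) (.node (nat_lit 731) (.leaf (nat_lit 730) (nat_lit 0) [nat_lit 2, nat_lit 1, nat_lit 5, nat_lit 1, nat_lit 2, nat_lit 2, nat_lit 2, nat_lit 0, nat_lit 4, nat_lit 0, nat_lit 3, nat_lit 0, nat_lit 3, nat_lit 3, nat_lit 3]) (.leaf (nat_lit 731) (nat_lit 2) [nat_lit 1, nat_lit 2, nat_lit 1, nat_lit 5, nat_lit 1, nat_lit 2, nat_lit 2, nat_lit 2, nat_lit 0, nat_lit 4, nat_lit 0, nat_lit 3, nat_lit 0, nat_lit 3, nat_lit 3])))) (.node (nat_lit 735) (.node (nat_lit 733) (.leaf (nat_lit 732) (nat_lit 2) [nat_lit 3, nat_lit 1, nat_lit 2, nat_lit 1, nat_lit 5, nat_lit 1, nat_lit 2, nat_lit 2, nat_lit 2, nat_lit 0, nat_lit 4, nat_lit 0, nat_lit 3, nat_lit 0, nat_lit 3]) (.node (nat_lit 734) (.leaf (nat_lit 733) (nat_lit 2) [nat_lit 3, nat_lit 3, nat_lit 1, nat_lit 2, nat_lit 1, nat_lit 5, nat_lit 1, nat_lit 2, nat_lit 2, nat_lit 2, nat_lit 0, nat_lit 4, nat_lit 0, nat_lit 3, nat_lit 0]) (.leaf (nat_lit 734) (nat_lit 1) [nat_lit 3, nat_lit 3, nat_lit 3, nat_lit 1, nat_lit 2, nat_lit 1, nat_lit 5, nat_lit 1, nat_lit 2, nat_lit 2, nat_lit 2, nat_lit 0, nat_lit 4, nat_lit 0, nat_lit 3]))) (.node (nat_lit 736) (.leaf (nat_lit 735) (nat_lit 2) [nat_lit 0, nat_lit 3, nat_lit 3, nat_lit 3, nat_lit 1, nat_lit 2, nat_lit 1, nat_lit 5, nat_lit 1, nat_lit 2, nat_lit 2, nat_lit 2, nat_lit 0, nat_lit 4, nat_lit 0]) (.node (nat_lit 737) (.leaf (nat_lit 736) (nat_lit 1) [nat_lit 3, nat_lit 0, nat_lit 3, nat_lit 3, nat_lit 3, nat_lit 1, nat_lit 2, nat_lit 1, nat_lit 5, nat_lit 1, nat_lit 2, nat_lit 2, nat_lit 2, nat_lit 0, nat_lit 4]) (.leaf (nat_lit 737) (nat_lit 5) [nat_lit 0, nat_lit 3, nat_lit 0, nat_lit 3, nat_lit 3, nat_lit 3, nat_lit 1, nat_lit 2, nat_lit 1, nat_lit 5, nat_lit 1, nat_lit 2, nat_lit 2, nat_lit 2, nat_lit 0])))))) (.node (nat_lit 750) (.node (nat_lit 744) (.node (nat_lit 741) (.node (nat_lit 739) (.leaf (nat_lit 738) (nat_lit 1) [nat_lit 4, nat_lit 0, nat_lit 3, nat_lit 0, nat_lit 3, nat_lit 3, nat_lit 3, nat_lit 1, nat_lit 2, nat_lit 1, nat_lit 5, nat_lit 1, nat_lit 2, nat_lit 2, nat_lit 2]) (.node (nat_lit 740) (.leaf (nat_lit 739) (nat_lit 3) [nat_lit 0, nat_lit 4, nat_lit 0, nat_lit 3, nat_lit 0, nat_lit 3, nat_lit 3, nat_lit 3, nat_lit 1, nat_lit 2, nat_lit 1, nat_lit 5, nat_lit 1, nat_lit 2, nat_lit 2]) (.leaf (nat_lit 740) (nat_lit 3) [nat_lit 2, nat_lit 0, nat_lit 4, nat_lit 0, nat_lit 3, nat_lit 0, nat_lit 3, nat_lit 3, nat_lit 3, nat_lit 1, nat_lit 2, nat_lit 1, nat_lit 5, nat_lit 1, nat_lit 2]))) (.node (nat_lit 742) (.leaf (nat_lit 741) (nat_lit 3) [nat_lit 2, nat_lit 2, nat_lit 0, nat_lit 4, nat_lit 0, nat_lit 3, nat_lit 0, nat_lit 3, nat_lit 3, nat_lit 3, nat_lit 1, nat_lit 2, nat_lit 1, nat_lit 5, nat_lit 1]) (.node (nat_lit 743) (.leaf (nat_lit 742) (nat_lit 0) [nat_lit 2, nat_lit 2, nat_lit 2, nat_lit 0, nat_lit 4, nat_lit 0, nat_lit 3, nat_lit 0, nat_lit 3, nat_lit 3, nat_lit 3, nat_lit 1, nat_lit 2, nat_lit 1, nat_lit 5]) (.leaf (nat_lit 743) (nat_lit 4) [nat_lit 1, nat_lit 2, nat_lit 2, nat_lit 2, nat_lit 0, nat_lit 4, nat_lit 0, nat_lit 3, nat_lit 0, nat_lit 3, nat_lit 3, nat_lit 3, nat_lit 1, nat_lit 2, nat_lit 1])))) (.node (nat_lit 747) (.node (nat_lit 745) (.leaf (nat_lit 744) (nat_lit 0) [nat_lit 5, nat_lit 1, nat_lit 2, nat_lit 2, nat_lit 2, nat_lit 0, nat_lit 4, nat_lit 0, nat_lit 3, nat_lit 0, nat_lit 3, nat_lit 3, nat_lit 3, nat_lit 1, nat_lit 2]) (.node (nat_lit 746) (.leaf (nat_lit 745) (nat_lit 3) [nat_lit 1, nat_lit 5, nat_lit 1, nat_lit 2, nat_lit 2, nat_lit 2, nat_lit 0, nat_lit 4, nat_lit 0, nat_lit 3, nat_lit 0, nat_lit 3, nat_lit 3, nat_lit 3, nat_lit 1]) (.leaf (nat_lit 746) (nat_lit 2) [nat_lit 0, nat_lit 2, nat_lit 2, nat_lit 2, nat_lit 1, nat_lit 2, nat_lit 1, nat_lit 5, nat_lit 1, nat_lit 3, nat_lit 3, nat_lit 3, nat_lit 0, nat_lit 4, nat_lit 0]))) (.node (nat_lit 748) (.leaf (nat_lit 747) (nat_lit 1) [nat_lit 3, nat_lit 0, nat_lit 2, nat_lit 2, nat_lit 2, nat_lit 1, nat_lit 2, nat_lit 1, nat_lit 5, nat_lit 1, nat_lit 3, nat_lit 3, nat_lit 3, nat_lit 0, nat_lit 4]) (.node (nat_lit 749) (.leaf (nat_lit 748) (nat_lit 5) [nat_lit 0, nat_lit 3, nat_lit 0, nat_lit 2, nat_lit 2, nat_lit 2, nat_lit 1, nat_lit 2, nat_lit 1, nat_lit 5, nat_lit 1, nat_lit 3, nat_lit 3, nat_lit 3, nat_lit 0]) (.leaf (nat_lit 749) (nat_lit 1) [nat_lit 4, nat_lit 0, nat_lit 3, nat_lit 0, nat_lit 2, nat_lit 2, nat_lit 2, nat_lit 1, nat_lit 2, nat_lit 1, nat_lit 5, nat_lit 1, nat_lit 3, nat_lit 3, nat_lit 3]))))) (.node (nat_lit 756) (.node (nat_lit 753) (.node (nat_lit 751) (.leaf (nat_lit 750) (nat_lit 2) [nat_lit 0, nat_lit 4, nat_lit 0, nat_lit 3, nat_lit 0, nat_lit 2, nat_lit 2, nat_lit 2, nat_lit 1, nat_lit 2, nat_lit 1, nat_lit 5, nat_lit 1, nat_lit 3, nat_lit 3]) (.node (nat_lit 752) (.leaf (nat_lit 751) (nat_lit 2) [nat_lit 3, nat_lit 0, nat_lit 4, nat_lit 0, nat_lit 3, nat_lit 0, nat_lit 2, nat_lit 2, nat_lit 2, nat_lit 1, nat_lit 2, nat_lit 1, nat_lit 5, nat_lit 1, nat_lit 3]) (.leaf (nat_lit 752) (nat_lit 2) [nat_lit 3, nat_lit 3, nat_lit 0, nat_lit 4, nat_lit 0, nat_lit 3, nat_lit 0, nat_lit 2, nat_lit 2, nat_lit 2, nat_lit 1, nat_lit 2, nat_lit 1, nat_lit 5, nat_lit 1]))) (.node (nat_lit 754) (.leaf (nat_lit 753) (nat_lit 0) [nat_lit 3, nat_lit 3, nat_lit 3, nat_lit 0, nat_lit 4, nat_lit 0, nat_lit 3, nat_lit 0, nat_lit 2, nat_lit 2, nat_lit 2, nat_lit 1, nat_lit 2, nat_lit 1, nat_lit 5]) (.node (nat_lit 755) (.leaf (nat_lit 754) (nat_lit 4) [nat_lit 1, nat_lit 3, nat_lit 3, nat_lit 3, nat_lit 0, nat_lit 4, nat_lit 0, nat_lit 3, nat_lit 0, nat_lit 2, nat_lit 2, nat_lit 2, nat_lit 1, nat_lit 2, nat_lit 1]) (.leaf (nat_lit 755) (nat_lit 0) [nat_lit 5, nat_lit 1, nat_lit 3, nat_lit 3, nat_lit 3, nat_lit 0, nat_lit 4, nat_lit 0, nat_lit 3, nat_lit 0, nat_lit 2, nat_lit 2, nat_lit 2, nat_lit 1, nat_lit 2])))) (.node (nat_lit 759) (.node (nat_lit 757) (.leaf (nat_lit 756) (nat_lit 3) [nat_lit 1, nat_lit 5, nat_lit 1, nat_lit 3, nat_lit 3, nat_lit 3, nat_lit 0, nat_lit 4, nat_lit 0, nat_lit 3, nat_lit 0, nat_lit 2, nat_lit 2, nat_lit 2, nat_lit 1]) (.node (nat_lit 758) (.leaf (nat_lit 757) (nat_lit 0) [nat_lit 2, nat_lit 1, nat_lit 5, nat_lit 1, nat_lit 3, nat_lit 3, nat_lit 3, nat_lit 0, nat_lit 4, nat_lit 0, nat_lit 3, nat_lit 0, nat_lit 2, nat_lit 2, nat_lit 2]) (.leaf (nat_lit 758) (nat_lit 3) [nat_lit 1, nat_lit 2, nat_lit 1, nat_lit 5, nat_lit 1, nat_lit 3, nat_lit 3, nat_lit 3, nat_lit 0, nat_lit 4, nat_lit 0, nat_lit 3, nat_lit 0, nat_lit 2, nat_lit 2]))) (.node (nat_lit 760) (.leaf (nat_lit 759) (nat_lit 3) [nat_lit 2, nat_lit 1, nat_lit 2, nat_lit 1, nat_lit 5, nat_lit 1, nat_lit 3, nat_lit 3, nat_lit 3, nat_lit 0, nat_lit 4, nat_lit 0, nat_lit 3, nat_lit 0, nat_lit 2]) (.node (nat_lit 761) (.leaf (nat_lit 760) (nat_lit 3) [nat_lit 2, nat_lit 2, nat_lit 1, nat_lit 2, nat_lit 1, nat_lit 5, nat_lit 1, nat_lit 3, nat_lit 3, nat_lit 3, nat_lit 0, nat_lit 4, nat_lit 0, nat_lit 3, nat_lit 0]) (.leaf (nat_lit 761) (nat_lit 1) [nat_lit 2, nat_lit 2, nat_lit 2, nat_lit 1, nat_lit 2, nat_lit 1, nat_lit 5, nat_lit 1, nat_lit 3, nat_lit 3, nat_lit 3, nat_lit 0, nat_lit 4, nat_lit 0, nat_lit 3]))))))))))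
/-- The entries, read. -/
noncomputable def eE (k : ℕ) : ℕ := Cfsg.Agent.Lib.Compute.ToddCoxeterPresented.TT.fld tE (nat_lit 92) (nat_lit 255) (nat_lit 4951760157141521099596496895) k
/-- The definitions, read. -/
noncomputable def eP (k : ℕ) : ℕ := Cfsg.Agent.Lib.Compute.ToddCoxeterPresented.TT.fld tP (nat_lit 32) (nat_lit 255) (nat_lit 4294967295) k

/-- The ranks of the edges. -/
def rkT : ℕ := nat_lit 0x279e69e79e501734d9a53c00119669a60028e301534d967880a279e7022a289e79e60029e75c06189a55550028a1a260028a201444092401500282000f4519a40249659e7028a289e79809a70269659e89e701228a9e70279a59c00043408e34c00020240005d7926940080a280279e89669c09e6a280279e78e25004d39a55400028625530029a60000029669800800220005d78e354008085e01500d9669809e60269669a68a29400809a55000028a20250809648c09667a10004518a200028a0269a59e78a3900002a28a00a28028a00a279240289e7a270220027201005159804800020278809e79250000809000009659250259659e79c00020260009e7a280000809640140800248e30809a60009a79a60260028800000020260269e79800000809640005549259409659a602300281c0000029800000809e79a80029e80009e7a000279e79e79a70020269c00808610000809c000071b0250000809800000029000006dc0259250808200040809800000020250240808610000808200000800270000809800000029401000800221c06db9400000809400000020230076da9c000045175d00008086100069b8800000808c0000002000000080000aaaaaa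
/-- The relators of the justifications. -/
def jkT : ℕ := nat_lit 0x900000000000000000024c38000000900014528c0000000000110000000000000821000000000010000000000000110000c800200000001300400000000000000000000200a4c00000000000002ca0000004100020004800000000020000000000000002cc0000c00000093400000000d108201000c00000000130a0000005110010000090000000822400c00000090050090000c00000001830003400000000000020022800c030a0000000000090c00000002435141c014545400014500010f00044d0800000000000000000000d200e0000820000000000001000000800400000004800114100000c038000000900000e0130090000000000000020820000c04100000c00000130c000a0004000090000004800000000000000002400000c00000000c03900000090090090004d40000004c00c00c00002800003c20000053000000012c93420000000800c00020000c00800000000000000c02c00000004800000000000130c00130000c02c000000000000f0c00130000c00130000c00000000c04000000003801000c00000000052800000c02c01000000000040005000000010020020c00020005034400000c02400000000000000c02c000a00b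
/-- The points of the justifications. -/
def jiT : ℕ := nat_lit 0xe4000000000000000000002c479c00000017c0005f1d7bc0000000000000500980000000000b8f218000a400001680000000000000003a0002c000048000000005a007c000000000000dc000015c01b01328800000000000000089040000000845010800090000000000058000000000000000000a040002600000000b5834000000254810ac0110124000ac000399a46c000000a8b444800001140000002d092402200000000010880420002100000004601040001600000000000000080567201f00ac1000000000000105e00000000032ecc2f0001183730c00004040002d840003f627000000000000005c00000006b700310065f8c00000000000000180000074028800000000a20001e78500005e02c000000059000000b000c02c00000000000000011d3140001500537c05152000000185400005c00014300260000000b000000000000000000409a00000460000000011111338000001c0200094000021c0000002c000000f00000111400000ca0000013760000001105a24c44000000078032000050000c00440000000000000000b0052000000000100000188300000102600006000090086000000000000001080001040001e00002000070000000001a00f8000000002200080160000000000079e0000012000800000000000000700020800000023007c0000a000040000584080000006001000000000000000002000000070048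
/-- The coefficients of the edges on the seeds. -/
def labL : List ℕ := [nat_lit 0xc912c4afe4950187180b74800000049097088001c20c003000679b100102c54c005ca44881a35880019550180be14d460784001161d646000455a017f180be1400000043dd0000001b22800a117093100e1f2619621006cdc0070e42e5d67480040005a3a01082056400000c6009d1c2000010178000060ed0bbc03180916004a71112618e016ae187001d4110a890a0308307030800006ed9000c0010f740000004f4a04031800018000c3870830a03180057c05f0004cb03c011b700485040786893a803180692c08000068190177180ae50180bf802e200031809650000c60001cc018228b73ed0000062b89201a30011e0000e21cab006de60486005c00041870000001ba03000000401a10012bfa034000c6003000000260b42405a2b3ec0c4e000010084000a64561f0003180b628063c600060b7871807e940005b04acf0174001bc0000000040050079d2aa400000c60124400031804101e808e749520024001bb840000006400000318092ae3240006640000239d3a0005178a1c9b0ef40010050980c602c0c00031809400000022c01b0003180860000000042000002ce3017cea7c6031020003180be00000000402e011f1800784000c6031020003180016c000c60280000000019200000c60006300000e30a00000c601b000000001011c000c58c48000000e31568000c602c0c00000820200000c600e8000000010000000c600000038c9d1,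
  nat_lit 0xa1fb34cf8017018c081bd4f180000088662840000d78002c78e6800c02b2b82a405e6cb861a398c0009560080c01114507840001609a420000658017c000117000000005d9000408102200112152e0a00c143c0d7a18068d0056ba12e5cb4200040001da3009400078000010000c4cc400000016c000060ae63c6000009e0004872391d9800183000540242744d860a03083170710000031590008000ba1c0000000fc20200000000c000c5871020a00000116c05f0000eac44016bc0166bd70b7e697c000000711c0000002897001c000b23c18000004dc00031e39a4c000000000f1a06c9bbd269800001ba918018b3010d4001021c2c016248b602805b0000282c6000001c0300000000121200ccbaa2c00000004800003083158000d0b7ec8b7c000000078000b429dad00000000968000000005aad840008e7400050dcec7003c000c2000000000002009629f160000000021410000000468980080909520038000c57c0000002a8000000000681fbc0002d340002024420005a66c6261aa9800000205000002c0c0000000a400000063001a00000008c0000000005000002c61018533400001620004000c400000000002d00f80000f740000000162000000000ec0000002e0000000009403180000005dc6000e306000000001b80000000000fc001c38548000000e31d580000002c0c00001830e0000000012800000000000000000000008684a50,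
  nat_lit 0x2708e2b3ea56000000000240000002d80ad4c000b22c0000000710be0251eb77c005ae36ed10f8c000261c000058ab17c408000bc02a980002f850008000ae340010002e870000000c01805cb820e27003cd4ab030880264c012181e74e7b200630000289000c102b6000000002b8d02000000024000c606f04c000000b16405d8c6a88f38028d11630048c606f5fc4000e3aa4c0000000006c78c0001170000000268e0200000017c000c6071020000000b810000000285a98026c4003c88dba1c55aba00000145008000002da0160000b757000c58b0080000000157c0000000000ae10f4f0a1840000008df3601d2a017c5802c589520124ac6a24800b00031000000000a4000800000062b2000e31e240000002d8000003ddae5005309801e1b40000001340001b5c2d30000000a034063000000416100000980000405e69701040000a0000000000010140854aa000000001f8d0000000ae94b002150acf0164000000800000000000000000846ca59000291300008540a000602b3e4a24628000016c20000001e100000000400000c38005700000002e0000000030000000203000a94e00031020000000c600000000005e0048000c6040000003102000000000cc000000048000000001a0000000000060000000c4000000000300000000000480000409880c600000be1400100001e10003162bc00000000290000000000000000000000060d3181,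
  nat_lit 0x174201c4081000000000c4080000003102c788000038c0000000062c6028000810001ba1f1630a00000020800000001000000000018c18100000000000000058800000000e300000000608002058abd70186e08c010100c38405fc5882041a34000000306001831620e0000000000e30000000000400000031610200000b41c05f00500020400183ba28062c0101e20000000c40000000000800000000c20c0000000062000000000000000003181000000003880000000002c6001030177061c6071020400000c40000000031800008000c78c0000408163000000000040000000062078f1da05871000002f5ac603083018af00c18318100045010b8400100000e300000000a000000000063c6031020204000000318000000000788004c01318116000000188000136c506000000005840000000062c400000c604063c3881e100300000000000000000000040000e0000000003e200000000576f80c20f0830008000038c00000001000200000198318600001df00030830400000be14258b1640000184000000318100000000200000020406200000000400000000010000031e3000818500000e30000000000000000000030184000038c00000000e3000000001580000000180000000004000000000063c600000c4000000003080000000001880010000700000000005880000003181000000002000000000100000000000000000000000136c0e3,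
  nat_lit 0xf0c2c6abe7880188000bd380000000b067084000b8200020002e150e001c25c5805d4704506317c000bd68100c01085c0588000121955700005d90178000b42800000002600000000b428008117164200ea91227461809f3c00b1c35f3e44e00030206736013040850000000000854c4000000178000040ed0ab0000009ee404c4584a629400a95565401a54e8a880c0308305431000002f5b0008000078400000004540a000000004000c38b0040c00000c78c05e000059f1a00e1e0068a08058ac8bae000008b640000002c110158000b01c080b9700810000000a630000c78c01fb830dabb93ee0000025b55200c4c0125c004c9a22000edcc9269005f00001060000000b203080000001b0a011c1ba300000000300000045caa580503726b0e400000000600008a7d79900000009c3c0000000063c58c0009e540008d2318100e4000c6000000000000004ea8f9400000000084a00000003552980a4494bb0008000bd880000002280000000061068ac0002051000291236000518e751b4571000000249800002e8700000009200000c2200190000000980000000000800002e03017461100031020000000000000000000230160000098006300031020000000009c0000002d8000000009600000000006300000e30e00000000208002000000148000c589e8000000e30b7c0000002e87000010202000000000900000000000000000000000c408756,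
  nat_lit 0x1dfce9862e560000081aa380000002b0f2d54000a644003c78c708b20188aa46800b70b26547f6c0002060000bc1b1a1c604000bf784940003181018c000b42806300001e100031813a340122152f98016c0e370b07809b3405d1c251229814001038e51200971e3ba00000000045cc60000000440000c1ebc72c000009840025b4cef133400b97a86004a9e553d90200000a21b08000003050204000b820000000218112000000160000bb7aa8f0800000bf4c0600002887a002b08017829b9a5ea8fb600000ba4c080000295d01580007b2ef00020488500031810e48000038c055933938416f6900000200b1e030040098400850b102015703d7450017000046000001020e03180000000b9a000e3329c000000298000007d5aa8c05f0589e2836000000120000926eca40000000823c063000005508180008a7c000b83b10201380001800000000005f015e49b0c0000000008d500031621f4e700bc1a31e0180000097000000007800000000b5486dc000282a0002e877c00048946890a2d240000144e000002c8b0000000b2000000c180510000000380000000007800002f5e0024296000035e00000000a00000000001e017c0001568000000035e00000000090000000098000000002600000000000100000e3b600000000230000000000180000bf7e000000000025480000002c8b0000285c60000000002000000000000000000000000588756,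
  nat_lit 0xf56c08686683018b1e3b96c00000004884840000b6240030207097040204e7478062828c1833380000c384100c20c5e3038c0000810d6000002df0184000b42800000001620000000c2200060b7d9cb012ac0cc606a009b3400a18318b132c4002000232a00dc2044e00000c78c4dbc4000000000000040ee03c2000007d5004b2c90704bc00b97209800627448030603181c15b080000306000080000f7400000000d908000000000000c38af850800000c58406002041970800513006090fc40ad89b0000009b840800002c8a0160000aa0b180c1801820000000b42c0000000010aa0ca0cc352f00000273c4003102012290066ce8140112c50326400100001040000000b4031000000013c600bcdc43c000000000000003dda84c0522942b0e5000000002800000014160000000a240063000006200040009c58000a3680e300c000000000000000000001e814980000000003d200000002576b00ae35bad0000000c1880000002a0000000004d3ae9200025cb0002b8d38000539c58b3e68f000000148800002e870000000a200000001400b0000000b40000000001000002f80018040e000318100000000000000000001d017000007840000003181000000000cc0000002f800000000b200000000000200000e30800000000238000000000168000c78d88000000e30d780000002e870000081c40000000005000000000000000000000008c785d9,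
  nat_lit 0x9e1b44afee990188000c1531800000804607c0000b7c00100025870c002a96ebc05e76a479f40000008b54100c20d1c107840001409a3f00005d901780000d78063000055a0004081be2c00e1b5ec1000c143c038e2805ebc05cbc20102a8300040001aad00840007a000000000acfc200000016c063060ac85c400000a404044777d25c8c01ab5c64801e2f34d070c030831103180000315a020c000c20c00000011c100000000008000c5871810c000000d6c05e0000fb34a0163d0166bd50982697b800000631400000027980018000a83c18000004de02031e3985400000000111e0af1dbb2ab000001fa60401aaf00f1400c589c2c018a3865a3c05d00002830000081100300000000110e01044aa4000000004800003083138c00d0b7ef0672000000068000b625f250000000036c000000005ab18400084880004ee0ec70054000c4000000000006009a122160000000020c200031e3448d600828c5d90030000c37c000000298000000000c69f3c0002ab700020a3500005a70b255e9eac00000245000002b8d0000000a60000006300190000000940000000005000002c61018953800000e30000000bc00000000003100e80000f7400000000e3000000000cc0000002d8000000009600000000005e00000e304000000001980000000000f8000c38588000000e31d580000002b8d00001830c000000001300000000000000000000000828cccb,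
  nat_lit 0xf50307e943cb0008000083c000c78eae06914000be140630000cddbc030bb5ad400652eeac588000003e3f10007860a3c20c000b5898250002c8b0018081bc180010002d0a00031e30b68056ae3465400d1e28c604f806ad40080d73162216006000017b701100004e00000000279506000000020000c18455f02000002588020520e0083c017af05480469e5655dbc001e1b890080000010ac784000078400000020a30000000018800006100e3bc00000bc2400600022b17e01c27003070fc010bcd1000000667c0000000acc017800021570800002d860000081313c0000000054ab8c3c90e68700000133ec20183400a1e000409638000cddd6f540070002fe100031e3b8002000000053ba0229f1f500000002e0000001e1b404056c01035e54000000128000117133e0000000c628000000000a180c00045080007ab239d013c0000400000000005e00f9142b00000000011a200000818505c004706c8b0160000061400000008000000000bd2932800007ad00011c1780000a58e0d062ae8000016ed0000006d700000002200000c36004b000000034000000002d0000006030009d2c000318100000000c00000000003300a8000ba1c0000003181000000000c400000004800000000320000000000060003181c400000000188000000000098000060d9800003181ac3800000006d700030e1bc000000001f00000000000000000000000450a599,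
  nat_lit 0x1afe3058b163018c000038800000001630208000c60400000000820200a82c3740630f740e3c000000038c08000031010000000000710000000000000000c40b18000031810000000c204062c40860b000845c0b7f100060c0040406f5eb36000000003830014102bc0000000031810000000018c000c78f183be000000d78004c53f18100030e10d780000d7b0010000000c60400000031800000000000000000031820000000000400102040000000000c608000000006300031e000182630588162c6000000200000000008001880000000000c58b1010000000018c0000000005021428dc610100000030700002df00141000c180e30002bdfba1006300031810000000c00000000000010200260000000000000800000000c40c0600784162b0000000004000ba1eede0000000c20800000000020400000078400008070040164000c6000000000002018c260bc000000002f020000000c41828005882600188000c6040000002f800000000b2100e200030070000162be00000098300b1630000000400000000e30000000c600000c78c0020000000c6000000003100000008100030df00031810000000c4000000000062000c000c60400000031810000000003400000031800000000c40000000000010000000000000000001000000000000c0000206b800000000c40800000000e300031e3c6000000003080000000000000000000000b22f181,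
  nat_lit 0x182fdf00004810000000098000000002600a10000000000000031db0002ee3c138000136f100058c000000800000031060000000018c0e100000e30000000038c00000000e300000000410002058afe1018c55a0b7f0000204061c78addb06140000000b04001428508000000000162000000001840000003062ba00000156c062021f18008031e313680600f770800000000000400000000800000000b8200000002f020200000018400000031810000000018c00000000e00600060000b1dc09800000400000098c00000000630004000bd78080bf7c080000000002000000000004101c515000f1000000361ac02f85016700012240e3003a7dac0300010000062000000006000000000003c60035e0c18000000018000030830414001038c0e304000000180000ba1c1de0000000bf880000000062098c0000d780000802f06018800006000000000006000055ac40000000002820000000c57c000038c260018000004000000003000000000009880040002c0400000e3160000009801600588000018800000000e30000000c200000c78c0020000000080000000001000000081000c00000000e30000000bc0000000000630000000038c00000000e30000000001000000001000000000c40000000000630000000c20000000000800000000000400002070000000000000000000000e300031e3020000000031800000000000000000000009a5c162,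
  nat_lit 0x18c00000000800000000]
/-- The coefficients of the relators on the seeds. -/
def rvL : List (List ℕ) := [[0, 0, 0, 1, 0, 0, 1, 1, 6, 2, 26, 84, 87, 84, 80, 4, 96, 93, 0, 2, 0],
  [0, 0, 0, 0, 1, 0, 0, 0, 91, 96, 27, 83, 98, 79, 77, 1, 99, 94, 94, 98, 0],
  [0, 0, 0, 0, 0, 0, 0, 0, 0, 5, 84, 0, 90, 7, 8, 2, 7, 4, 99, 1, 0],
  [0, 0, 0, 0, 0, 0, 0, 0, 0, 99, 0, 99, 99, 97, 99, 1, 1, 1, 98, 99, 0],
  [0, 0, 0, 0, 0, 0, 0, 0, 93, 5, 12, 89, 88, 89, 82, 96, 0, 93, 1, 2, 0],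
  [0, 0, 0, 0, 0, 1, 99, 1, 94, 4, 89, 86, 90, 78, 90, 12, 16, 11, 80, 94, 0],
  [0, 0, 0, 0, 0, 0, 0, 0, 93, 4, 7, 90, 89, 90, 88, 2, 2, 98, 98, 1, 0],
  [0, 0, 0, 0, 0, 0, 0, 0, 91, 96, 29, 78, 95, 80, 78, 4, 99, 94, 94, 99, 0],
  [0, 0, 0, 0, 0, 0, 0, 0, 9, 4, 71, 22, 5, 20, 22, 96, 1, 6, 6, 1, 0],
  [0, 0, 0, 0, 0, 0, 0, 0, 0, 1, 99, 1, 98, 3, 1, 99, 0, 99, 2, 1, 0],
  [0, 0, 0, 0, 0, 0, 0, 0, 0, 0, 99, 98, 1, 3, 0, 98, 2, 0, 99, 99, 1],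
  [0, 0, 0, 0, 0, 0, 0, 0, 0, 0, 0, 0, 0, 0, 0, 0, 0, 0, 0, 0, 0]]

/-- The cascade. -/
def u : UP where
  n := c.n
  N := c.N
  t := c.t
  par := c.par
  lt := c.lt
  W := c.W.take 21
  e := 3
  rk := fun k => rdP rkT 6 63 k
  jk := fun k => rdP jkT 6 63 k
  ji := fun k => rdP jiT 7 127 k
  rkR := fun k => List.getD [0, 0, 0, 0, 0, 0, 11, 11, 19, 34, 36, 35, 37, 34, 35, 35, 34, 33, 33, 31, 0] k 0
  jR := fun k => List.getD [0, 0, 0, 0, 1, 5, 1, 1, 2, 70, 3, 47, 7, 7, 86, 86, 67, 67, 49, 18, 10] k 0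
  M := c.N
  s := 12
  lab := fun j k => rdP (labL.getD j 0) 7 127 k
  rv := fun j k => (rvL.getD j []).getD k 0
  seeds := [(1,3,0), (1,4,0), (0,5,2), (0,30,3), (0,8,3), (1,5,0), (0,65,1), (0,58,3), (0,88,0), (0,67,2), (1,20,0), (0,0,5)]

/-- The relations among the seeds. -/
def d : UP.Tail where
  rels := [(0,0), (0,1), (0,2), (0,4), (0,5), (0,6), (0,7), (0,9), (0,10), (0,11), (0,16), (0,28), (2,1)]
  Rlit := [[19, 20, 99, 1, 14, 14, 11, 25, 75, 99, 2, 0],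
  [2, 3, 98, 0, 1, 2, 1, 3, 97, 0, 0, 0],
  [97, 3, 96, 99, 99, 98, 97, 3, 97, 1, 8, 0],
  [91, 93, 0, 0, 90, 95, 95, 93, 7, 0, 0, 0],
  [64, 40, 27, 92, 83, 1, 89, 41, 59, 8, 10, 0],
  [1, 2, 97, 0, 0, 99, 1, 1, 99, 0, 0, 0],
  [94, 95, 1, 0, 97, 96, 96, 94, 6, 0, 0, 0],
  [95, 94, 5, 0, 3, 4, 2, 92, 8, 1, 1, 0],
  [68, 51, 28, 94, 3, 6, 95, 45, 55, 8, 8, 0],
  [90, 76, 59, 89, 68, 60, 60, 66, 34, 17, 28, 0],
  [86, 54, 46, 2, 3, 84, 95, 68, 33, 0, 23, 0],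
  [87, 0, 84, 89, 85, 11, 96, 97, 2, 6, 91, 0],
  [49, 73, 58, 91, 40, 34, 62, 89, 12, 10, 25, 1]]
  gens := [[0, 0, 0, 0, 0, 0, 0, 0, 1, 0, 0, 0]]
  ords := [2]
  alpha := [[21, 46, 85, 76, 6, 14, 81, 24, 92, 76, 58, 56, 0]]
  beta := [[94, 55, 84, 13, 81, 75, 44, 48, 90, 60, 32, 44, 38, 0],
  [28, 50, 20, 7, 86, 45, 29, 97, 66, 99, 21, 50, 78, 0],
  [62, 78, 86, 7, 81, 69, 20, 43, 84, 25, 35, 78, 40, 0],
  [2, 45, 4, 70, 83, 39, 15, 80, 36, 77, 29, 51, 53, 0],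
  [38, 53, 88, 45, 97, 38, 69, 10, 84, 24, 4, 22, 60, 0],
  [60, 38, 33, 98, 99, 21, 97, 36, 66, 50, 66, 54, 14, 0],
  [97, 42, 5, 25, 60, 58, 33, 26, 57, 96, 42, 72, 69, 0],
  [0, 75, 62, 67, 29, 5, 23, 97, 39, 71, 55, 72, 71, 0],
  [1, 0, 0, 0, 0, 0, 0, 0, 0, 0, 0, 0, 0, 0],
  [0, 38, 75, 28, 48, 56, 5, 30, 10, 3, 31, 67, 67, 0],
  [0, 58, 81, 13, 29, 86, 16, 93, 63, 82, 96, 1, 1, 0],
  [0, 68, 5, 31, 18, 62, 3, 32, 72, 21, 85, 40, 41, 1]]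

/-- The numbers on the edges, for each factor. -/
def numL : List ℕ := [nat_lit 0x2030c40c3c08000107103030203c340c80001c000800c0000000c8000200c030030080c7033000c00000000100004004003000c002001082000c0003000000000000000000000000000000]
/-- The widths of the numbers. -/
def numB : List ℕ := [1]
/-- The values of the relators. -/
def enL : List (List ℕ) := [[0, 0, 0, 0, 0, 0, 0, 0, 0, 0, 0, 0, 0, 0, 0, 0, 1, 0, 0, 0, 0]]

/-- The labels. -/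
def l : LC where
  n := c.n
  N := c.N
  t := c.t
  W := c.W
  nrel := c.nrel
  r := 1
  m := fun j => List.getD [2] j 1
  num := fun j k => rdP (numL.getD j 0) (numB.getD j 1) (Nat.sub (Nat.pow 2 (numB.getD j 1)) 1) k
  en := fun j k => (enL.getD j []).getD k 0
  unit := fun j => List.getD [[(16,1)]] j []

/-- The generators, as tables. -/
def es : List Cfsg.Agent.Lib.Compute.PermCert.Elt := [⟨nat_lit 0x2ad9cbf65b59a134013b610ae5db555abc6d3a580184b2182eb172a6026d474389a219450d8d8600e4580a5738448063c2f01a1b0c048b89f317707c723e189683a45293f800431119910f800a48e88e3f231087c4a41e64804d2f6551f6cab2462908c799810249381c0b17cadceb066cda5d2060afa3b35594e5aee19b8ac10272a9c4dac431abda7299c349d52c978907e042d9316a8133b3e48d8614c25ae69d1200e772a18470a4479e54233209a4ea0a12bacff220d49c2aef3dbd8e64751bd0faf241c6c28f932c982cf14590168ec4cbcd1af0498994437540d13af5489598d132c0a18b191a9093c2359be90e2c6194d4d180dc3c764b5bc083c6f8a1c98ea7313fc8c2d84b781eb62e035beaa4814600217e1a93e825cc1065102e8820aa53c468d676500f606126dc28a06465031c86e641e936ba343ec883a8316603172fa5e392892a152a89908c1c6e026b74942a6e27216c954c3a2ab888ccdeefd,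 nat_lit 0x2ad9cbf65b59a134013b610ae5db555abc6d3a580184b2182eb172a6026d474389a219450d8d8600e4580a5738448063c2f01a1b0c048b89f317707c723e189683a45293f800431119910f800a48e88e3f231087c4a41e64804d2f6551f6cab2462908c799810249381c0b17cadceb066cda5d2060afa3b35594e5aee19b8ac10272a9c4dac431abda7299c349d52c978907e042d9316a8133b3e48d8614c25ae69d1200e772a18470a4479e54233209a4ea0a12bacff220d49c2aef3dbd8e64751bd0faf241c6c28f932c982cf14590168ec4cbcd1af0498994437540d13af5489598d132c0a18b191a9093c2359be90e2c6194d4d180dc3c764b5bc083c6f8a1c98ea7313fc8c2d84b781eb62e035beaa4814600217e1a93e825cc1065102e8820aa53c468d676500f606126dc28a06465031c86e641e936ba343ec883a8316603172fa5e392892a152a89908c1c6e026b74942a6e27216c954c3a2ab888ccdeefd⟩,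
  ⟨nat_lit 0x2b4d6ed399c62279683c0bf1f09a41427579190c2872d9750cbc6e805d81634864d0183e89960428211e244583a70aae7063346d051e08c5c541613438fb004998234070343a4c093954e7b3a42a56663b38586840d36da6893036a3841284b1f51d650bc76111ea9a46460fce1c5349b359491e5fb99853396b619330923726b31972a980c78dba1c84b75079c0331f20e5467909aa4e7e901592aa224a50143a478d40c403f884dece3d2c84a8121a68ae6c02c882e1074a6562ae2c2497539010dd6af4441dc50149425d6e8b2cb8c1e1b8027926314728daa226885652f731b19ae515b0b602a96237c166d5c44c1229599c1a49d1c979ecfe2996a1ef1328221ccb1f9e218be640c20ca04b2095e078b1293e4f81bbd151846aed4b0b13ab088cc4000e3420843b8f8bd6a0ca2e8c88139fe857a9c8902481171e6f9848adfa627c2a1b32562cddbd32979b85498022e4a4911c2add71967c5536fc86ce96914, nat_lit 0x920da0b35d92d86805190cc09b1d9ee67aae4ea875ac0830cb6ea696eb398351c8e9618d410401691c0c00334566a2b2c95406511e3d83e338993619172188cda7f149703a0482394401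b3a1744e8c10cacb132210ca712104afd2ec288349f4c141365e4bd3505646ca773a832ce38b58f22f76984ef3303a921c382a38d9a4f621c82e6b78b4602c56994061241f2441c67429bd1a0131a892b1924a52743a05318d81a7cb787ad53d2c25a4c229f8c11202a792c104312d62ae3ea48192e559ec7e2c42105d88b9449450f05d129403753ad236317c28e6852453ce58f79b89a6c6252848d09c9cada3f1d5c3d0af2a3987252eb9897a4c229396906934eaca23082d834e0e7220aa0cfc601195e258b37228394fc61d0a829aedbf0b70ab0be0b4743555005e0b8f84e71424dd070f044c8891dc694224851e14c346daf9fb05403be3d1c4cc80ec8897bedc09840bfdfd0f34ab4ca56242a5360f1b23e4503⟩,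
  ⟨nat_lit 0x351443a4631962120ccca329419345462d442286a6613158f8e28311d08e582425d0db83c6a62aa6624c62d94da1c5cac638e5160b0a3c63cee8dc8de11f7d1e89e721f1ac5e1f4840dcc891b121066512b9e150570c21b8553d8c0d91d793e6403d38c91de79280811eed8e1ba2898488a8a53a1c0ae5c1d3f9290d1735138689587cd888613f2ed78c05f2fd7ac16102014000301c020302a5a6a7d199889b1021c60588042878926996ce4da294b945243789a68b4d84fac991308b275aefb6ea38453786ca9f12b893354f217a84426a867b0d612575c09c0412f89cde7422c01c63b3ab6942e97f32d480e0c4a1e8542eab988583b86cc6100ba64b26021499d8640e3553cdf80b295a1606b394af691118e6c55595cf00c0d3fdc828384e21cd34e3de52c957cbe2aea7ec4658a969359403c3b49de61507a3442de7e299a0532f0fe66672d930490b40cd1045c119a09640862e412ba5b2dd66025a0116ab8, nat_lit 0x351443a4631962120ccca329419345462d442286a6613158f8e28311d08e582425d0db83c6a62aa6624c62d94da1c5cac638e5160b0a3c63cee8dc8de11f7d1e89e721f1ac5e1f4840dc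c891b121066512b9e150570c21b8553d8c0d91d793e6403d38c91de79280811eed8e1ba2898488a8a53a1c0ae5c1d3f9290d1735138689587cd888613f2ed78c05f2fd7ac16102014000301c020302a5a6a7d199889b1021c60588042878926996ce4da294b945243789a68b4d84fac991308b275aefb6ea38453786ca9f12b893354f217a84426a867b0d612575c09c0412f89cde7422c01c63b3ab6942e97f32d480e0c4a1e8542eab988583b86cc6100ba64b26021499d8640e3553cdf80b295a1606b394af691118e6c55595cf00c0d3fdc828384e21cd34e3de52c957cbe2aea7ec4658a969359403c3b49de61507a3442de7e299a0532f0fe66672d930490b40cd1045c119a09640862e412ba5b2dd66025a0116ab8⟩]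

/-- The words of the generators of the group. -/
def us : List (List ℕ) := [[3, 0, 3, 0, 2, 0, 2],
  [0, 3, 0, 3, 0, 4, 0, 2, 0, 2, 0],
  [0, 2, 0, 3, 0],
  [4, 0, 3, 3, 0, 2, 2, 0, 4]]

end Cfsg.Agent.Lib.Compute.Schur2.J2
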