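import Cfsg.Agent.Lib.Compute.Schur2.M22Data
import Cfsg.Agent.Lib.Compute.Schur2.Fast

/-!
# The checks for the multiplier of `M22`: the cascade
-/

set_option autoImplicit false
set_option maxRecDepth 1000000

namespace Cfsg.Agent.Lib.Compute.Schur2.M22

open Cfsg Cfsg.Agent.Lib.Compute.SchurLin
open Cfsg.Agent.Lib.Compute.PermCert (allB)

theorem upH : allB u.relCheckF u.W.length = true := by decide +kernel

theorem up0 : allB (fun i => allB (u.edgeCheckF i) (Nat.mul 2 u.n)) 2000 = true := by decide +kernel

theorem up1 : ptsB 2000 (fun i => allB (u.edgeCheckF i) (Nat.mul 2 u.n)) 2000 = true := by decide +kernel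

theorem up2 : ptsB 4000 (fun i => allB (u.edgeCheckF i) (Nat.mul 2 u.n)) 2000 = true := by decide +kernel

theorem up3 : ptsB 6000 (fun i => allB (u.edgeCheckF i) (Nat.mul 2 u.n)) 2064 = true := by decide +kernel

theorem upChk : u.check = true :=
  UP.check_of_parts u (by decide +kernel) (by decide +kernel) upH
    (allB_split (allB_split (allB_split up0 up1 (b := 2000) rfl) up2 rfl) up3 rfl)

end Cfsg.Agent.Lib.Compute.Schur2.M22
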