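import Cfsg.Agent.Lib.Compute.Schur2.M22Data
import Cfsg.Agent.Lib.Compute.Schur2.Fast

/-!
# The checks for the multiplier of `M22`: the labels
-/

set_option autoImplicit false
set_option maxRecDepth 1000000

namespace Cfsg.Agent.Lib.Compute.Schur2.M22

open Cfsg Cfsg.Agent.Lib.Compute.SchurLin
open Cfsg.Agent.Lib.Compute.PermCert (allB)

theorem lcF : allB (fun i => allB (l.flipCheck i) (Nat.mul 2 l.n)) l.N = true := by decide +kernel

theorem lc0 : allB l.ptCheck 2000 = true := by decide +kernel

theorem lc1 : ptsB 2000 l.ptCheck 2000 = true := by decide +kernel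

theorem lc2 : ptsB 4000 l.ptCheck 2000 = true := by decide +kernel

theorem lc3 : ptsB 6000 l.ptCheck 2064 = true := by decide +kernel

theorem lcChk : l.check = true :=
  LC.check_of_parts l lcF (allB_split (allB_split (allB_split lc0 lc1 (b := 2000) rfl) lc2 rfl) lc3 rfl)
    (by decide +kernel) (by decide +kernel)

end Cfsg.Agent.Lib.Compute.Schur2.M22
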